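import Mathlib
import Cfsg.Prelude.Def_Classical
import Cfsg.Agent.Lib.Semisimple.SUBasics
import Cfsg.Agent.Lib.UThreeThree.Table
import Cfsg.Agent.Lib.Classical.UnitaryCentre

/-!
An elementary abelian subgroup of order 81 of `PSU_4(3)` and two elements of order five normalising it.
-/

set_option autoImplicit false

namespace Cfsg.Agent.Lib.FischerType

open Matrix
open Cfsg.Agent.Lib.UThreeThree (Nine card_nine)

theorem hNine : Fintype.card Nine = 3 ^ 2 := card_nine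

/-- The group. -/
abbrev U43 := Cfsg.PSU 4 Nine 3

/-- Entries of the four translations. -/
def eNums : Fin 4 → Fin 4 → Fin 4 → Fin 9 :=
  ![![![4, 4, 0, 0], ![5, 7, 0, 0], ![0, 0, 1, 0], ![0, 0, 0, 1]],
    ![![1, 0, 0, 0], ![0, 1, 0, 0], ![0, 0, 4, 4], ![0, 0, 5, 7]],
    ![![1, 0, 1, 7], ![0, 1, 4, 2], ![2, 5, 1, 0], ![8, 1, 0, 1]],
    ![![1, 0, 3, 4], ![0, 1, 5, 6], ![3, 4, 1, 0], ![5, 6, 0, 1]]]

/-- Entries of the two elements of order five. -/
def rNums : Fin 2 → Fin 4 → Fin 4 → Fin 9 :=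
  ![![![2, 3, 6, 1], ![1, 2, 6, 6], ![6, 6, 2, 1], ![2, 6, 6, 2]],
    ![![8, 3, 5, 8], ![1, 8, 5, 5], ![4, 4, 5, 1], ![7, 4, 6, 5]]]

/-- The action of the elements of order five on the translations: row `i` is the image of the `i`-th. -/
def tNums : Fin 2 → Fin 4 → Fin 4 → ZMod 3 :=
  ![![![2, 2, 0, 2], ![1, 1, 1, 0], ![2, 1, 0, 0], ![2, 2, 2, 2]],
    ![![1, 1, 0, 1], ![2, 1, 1, 1], ![2, 2, 1, 2], ![1, 0, 0, 2]]]

/-- The translations as matrices. -/
def eMat (i : Fin 4) : Matrix (Fin 4) (Fin 4) Nine := Matrix.of fun a b => ⟨eNums i a b⟩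

/-- The elements of order five as matrices. -/
def rMat (k : Fin 2) : Matrix (Fin 4) (Fin 4) Nine := Matrix.of fun a b => ⟨rNums k a b⟩

theorem eMat_SU : ∀ i, ((eMat i).map (fun x => x ^ 3))ᵀ * eMat i = 1 ∧ (eMat i).det = 1 := by
  decide +kernel

theorem rMat_SU : ∀ k, ((rMat k).map (fun x => x ^ 3))ᵀ * rMat k = 1 ∧ (rMat k).det = 1 := by
  decide +kernel

/-- The translations. -/
def eSU (i : Fin 4) : Cfsg.SU 4 Nine 3 :=
  ⟨⟨eMat i, (eMat_SU i).2⟩, (Semisimple.mem_SU_iff hNine _).2 (eMat_SU i).1⟩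

/-- The elements of order five. -/
def rSU (k : Fin 2) : Cfsg.SU 4 Nine 3 :=
  ⟨⟨rMat k, (rMat_SU k).2⟩, (Semisimple.mem_SU_iff hNine _).2 (rMat_SU k).1⟩

/-- The product of the translations with exponents `v`. -/
def trans (v : Fin 4 → ZMod 3) : Matrix (Fin 4) (Fin 4) Nine :=
  eMat 0 ^ (v 0).val * (eMat 1 ^ (v 1).val * (eMat 2 ^ (v 2).val * eMat 3 ^ (v 3).val))

theorem eMat_mul_comm : ∀ i j, eMat i * eMat j = eMat j * eMat i := by decide +kernel

theorem eMat_cube : ∀ i, eMat i * (eMat i * eMat i) = 1 := by decide +kernel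

theorem rMat_five : ∀ k, rMat k ^ 5 = 1 := by decide +kernel

theorem rMat_conj : ∀ k i, rMat k * eMat i = trans (tNums k i) * rMat k := by decide +kernel

theorem trans_injective_center : ∀ v : Fin 4 → ZMod 3, ∀ s : Nine,
    trans v = s • (1 : Matrix (Fin 4) (Fin 4) Nine) → v = 0 := by
  decide +kernel

end Cfsg.Agent.Lib.FischerType
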