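import Mathlib
import Cfsg.Agent.Lib.FischerType.Concrete
import Cfsg.Agent.Lib.Compute.Chain

/-!
The affine action of two elements on the functionals of the translation group: orbits of size at most six.
-/

set_option autoImplicit false

namespace Cfsg.Agent.Lib.FischerType

/-- Functionals and vectors of the translation group. -/
abbrev V4 := Fin 4 → ZMod 3

/-- Evaluation of a functional. -/
def pair4 (f v : V4) : ZMod 3 := f 0 * v 0 + f 1 * v 1 + f 2 * v 2 + f 3 * v 3

/-- The linear action on vectors. -/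
def tApp (k : Fin 2) (v : V4) : V4 := fun j =>
  v 0 * tNums k 0 j + v 1 * tNums k 1 j + v 2 * tNums k 2 j + v 3 * tNums k 3 j

/-- The affine pull-back on functionals. -/
def pull (k : Fin 2) (c g : V4) : V4 := fun i => pair4 g (tNums k i) + c i

/-- The code of a functional. -/
def codeV (f : V4) : ℕ := (f 0).val + (f 1).val * 3 + (f 2).val * 9 + (f 3).val * 27

/-- The functional with a given code. -/
def decV (n : ℕ) : V4 := fun i => ((n / 3 ^ i.val : ℕ) : ZMod 3)

theorem decV_codeV : ∀ f, decV (codeV f) = f := by decide +kernel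

theorem codeV_lt : ∀ f, codeV f < 81 := by decide +kernel

theorem codeV_decV : ∀ n, n < 81 → codeV (decV n) = n := by decide +kernel

/-- The tables on numbers. -/
def tRows : List (List (List ℕ)) := [[[2, 2, 0, 2], [1, 1, 1, 0], [2, 1, 0, 0], [2, 2, 2, 2]], [[1, 1, 0, 1], [2, 1, 1, 1], [2, 2, 1, 2], [1, 0, 0, 2]]]

/-- A row of a table. -/
def tRow (k i : ℕ) : List ℕ := (tRows.getD k []).getD i []

/-- One digit of the pull-back on codes. -/
def pullDigit (r : List ℕ) (ci g : ℕ) : ℕ :=
  (r.getD 0 0 * (g % 3) + r.getD 1 0 * (g / 3 % 3) + r.getD 2 0 * (g / 9 % 3) + r.getD 3 0 * (g / 27 % 3) +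
    ci) % 3

/-- The pull-back on codes. -/
def pullN (k c g : ℕ) : ℕ :=
  pullDigit (tRow k 0) (c % 3) g + pullDigit (tRow k 1) (c / 3 % 3) g * 3 +
    pullDigit (tRow k 2) (c / 9 % 3) g * 9 + pullDigit (tRow k 3) (c / 27 % 3) g * 27

theorem codeV_digit : ∀ c : V4, codeV c % 3 = (c 0).val ∧ codeV c / 3 % 3 = (c 1).val ∧
    codeV c / 9 % 3 = (c 2).val ∧ codeV c / 27 % 3 = (c 3).val := by decide +kernel

theorem pullDigit_eq : ∀ k : Fin 2, ∀ i : Fin 4, ∀ ci : ZMod 3, ∀ g : V4,
    pullDigit (tRow k.val i.val) ci.val (codeV g) = (pair4 g (tNums k i) + ci).val := by decide +kernel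

theorem pullN_codeV (k : Fin 2) (c g : V4) : pullN k.val (codeV c) (codeV g) = codeV (pull k c g) := by
  obtain ⟨h0, h1, h2, h3⟩ := codeV_digit c
  rw [pullN, h0, h1, h2, h3]
  exact congrArg₂ (· + ·) (congrArg₂ (· + ·) (congrArg₂ (· + ·) (pullDigit_eq k 0 (c 0) g)
    (congrArg (· * 3) (pullDigit_eq k 1 (c 1) g))) (congrArg (· * 9) (pullDigit_eq k 2 (c 2) g)))
    (congrArg (· * 27) (pullDigit_eq k 3 (c 3) g))

/-- Put a forced value on the stack unless it has been seen. -/
noncomputable def push {α : Type} (y : ℕ) (stack seen : List ℕ) (cont : List ℕ → List ℕ → α) : α :=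
  Compute.forceNat y fun y => bif seen.contains y then cont stack seen else cont (y :: stack) (y :: seen)

/-- The closure under two maps, stopping at a given size. -/
noncomputable def close (f g : ℕ → ℕ) (cap : ℕ) : ℕ → List ℕ → List ℕ → List ℕ
  | 0, _, seen => seen
  | _ + 1, [], seen => seen
  | n + 1, x :: stack, seen =>
    bif cap.ble seen.length then seen else
      push (f x) stack seen fun st se => push (g x) st se fun st se => close f g cap n st se

/-- The orbit of a functional, up to a given size. -/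
noncomputable def orb (c f cap : ℕ) : List ℕ := close (pullN 0 0) (pullN 1 c) cap cap [f] [f]

theorem close_mem {f g : ℕ → ℕ} {cap : ℕ} {S : ℕ → Prop} (hf : ∀ a, S a → S (f a))
    (hg : ∀ a, S a → S (g a)) : ∀ (n : ℕ) {stack seen : List ℕ}, (∀ a ∈ stack, S a) →
      (∀ a ∈ seen, S a) → ∀ a ∈ close f g cap n stack seen, S a
  | 0, _, _, _, h => h
  | _ + 1, [], _, _, h => h
  | n + 1, x :: stack, seen, hst, h => by
    rw [close]
    cases cap.ble seen.length with
    | true => exact h
    | false =>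
      have hx := hst x List.mem_cons_self
      have hst' : ∀ a ∈ stack, S a := fun a ha => hst a (List.mem_cons_of_mem _ ha)
      simp only [cond_false, push, Compute.forceNat_eq]
      cases seen.contains (f x) <;> simp only [cond_false, cond_true] <;>
        (generalize List.contains _ (g x) = b; cases b) <;> simp only [cond_false, cond_true] <;>
        refine close_mem hf hg n ?_ ?_ <;> simp_all

theorem orb_mem {c : V4} {S : Set V4} (h0 : ∀ g ∈ S, pull 0 0 g ∈ S) (h1 : ∀ g ∈ S, pull 1 c g ∈ S)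
    {f : V4} (hf : f ∈ S) (cap : ℕ) : ∀ a ∈ orb (codeV c) (codeV f) cap, ∃ g ∈ S, codeV g = a := by
  have hstart : ∀ a ∈ [codeV f], ∃ g ∈ S, codeV g = a := fun a ha => ⟨f, hf, (List.mem_singleton.1 ha).symm⟩
  refine close_mem (S := fun a => ∃ g ∈ S, codeV g = a) ?_ ?_ cap hstart hstart
  · rintro _ ⟨g, hg, rfl⟩
    exact ⟨_, h0 g hg, (pullN_codeV 0 0 g).symm⟩
  · rintro _ ⟨g, hg, rfl⟩
    exact ⟨_, h1 g hg, (pullN_codeV 1 c g).symm⟩

/-- Positions after applying a pull-back. -/
def posMap (O : List ℕ) (k c : ℕ) : ℕ → ℕ := fun i => O.idxOf (pullN k c (O.getD i 0))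

/-- A code of an ordered triple of positions. -/
def mapTriple (p : ℕ → ℕ) (t : ℕ) : ℕ := p (t / 36) * 36 + p (t / 6 % 6) * 6 + p (t % 6)

/-- The check on an orbit. -/
noncomputable def orbitCheck (c : ℕ) (O : List ℕ) : Bool :=
  decide O.Nodup &&
  (O.length == 1 && pullN 0 0 (O.getD 0 0) == O.getD 0 0 && pullN 1 c (O.getD 0 0) == O.getD 0 0 ||
   decide (7 ≤ O.length) ||
   O.length == 6 &&
    (O.all fun a => O.contains (pullN 0 0 a) && O.contains (pullN 1 c a)) &&
    ([0, 1, 2, 3].all fun i => (O.map fun a => a / 3 ^ i % 3).sum % 3 == 0) &&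
    ((List.range 81).all fun v => v == 0 || !(O.all fun a =>
      ((a % 3 + 2 * (O.getD 0 0 % 3)) * (v % 3) + (a / 3 % 3 + 2 * (O.getD 0 0 / 3 % 3)) * (v / 3 % 3) +
        (a / 9 % 3 + 2 * (O.getD 0 0 / 9 % 3)) * (v / 9 % 3) +
        (a / 27 % 3 + 2 * (O.getD 0 0 / 27 % 3)) * (v / 27 % 3)) % 3 == 0)) &&
    (close (mapTriple (posMap O 0 0)) (mapTriple (posMap O 1 c)) 121 121 [8] [8]).length == 120)

theorem orbit_all : ((List.range 81).all fun c => (List.range 81).all fun f =>
    orbitCheck c (orb c f 7)) = true := by decide +kernel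

theorem orbit_checked (c f : V4) : orbitCheck (codeV c) (orb (codeV c) (codeV f) 7) = true :=
  List.all_eq_true.1 (List.all_eq_true.1 orbit_all _ (List.mem_range.2 (codeV_lt c))) _
    (List.mem_range.2 (codeV_lt f))

theorem linear_all : ((List.range 81).all fun f => f == 0 ||
    decide (orb 0 f 13).Nodup && Nat.ble 13 (orb 0 f 13).length) = true := by decide +kernel

theorem linear_checked (f : V4) (hf : codeV f ≠ 0) :
    (orb 0 (codeV f) 13).Nodup ∧ 13 ≤ (orb 0 (codeV f) 13).length := by
  simpa [hf] using List.all_eq_true.1 linear_all _ (List.mem_range.2 (codeV_lt f))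

theorem no_invariant_form : ∀ a : Fin 6 → ZMod 3,
    (∀ k : Fin 2, ∀ i j : Fin 4,
      let A : Fin 4 → Fin 4 → ZMod 3 := ![![0, a 0, a 1, a 2], ![-a 0, 0, a 3, a 4],
        ![-a 1, -a 3, 0, a 5], ![-a 2, -a 4, -a 5, 0]]
      (∑ p : Fin 4, tNums k i p * ∑ q : Fin 4, tNums k j q * A p q) = A i j) → a = 0 := by
  decide +kernel

theorem no_invariant_functional : ∀ f : V4, (∀ k i, pair4 f (tNums k i) = f i) → f = 0 := by
  decide +kernel

theorem shift_exists : ∀ c : V4, ∃ f : V4, ∀ i, f i - pair4 f (tNums 0 i) = c i := by decide +kernel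

end Cfsg.Agent.Lib.FischerType
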