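import Mathlib
import Cfsg.Agent.Lib.FischerType.Affine

/-!
An additive group of exponent two with an automorphism `ν` satisfying `1 + ν + ν² = 0` and an action of
the translation group commuting with it: the eigenspace decomposition.
-/

set_option autoImplicit false

namespace Cfsg.Agent.Lib.FischerType

theorem pair4_add_right (f u v : V4) : pair4 f (u + v) = pair4 f u + pair4 f v := by
  simp only [pair4, Pi.add_apply]; ring

theorem pair4_add_left (f g v : V4) : pair4 (f + g) v = pair4 f v + pair4 g v := by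
  simp only [pair4, Pi.add_apply]; ring

theorem pair4_zero_left (v : V4) : pair4 0 v = 0 := by simp [pair4]

theorem exists_pair_eq_one : ∀ f : V4, f ≠ 0 → ∃ u, pair4 f u = 1 ∧ pair4 u f = 1 := by decide +kernel

theorem pair4_pull (k : Fin 2) (c g v : V4) :
    pair4 (pull k c g) v = pair4 g (tApp k v) + pair4 c v := by
  simp only [pair4, pull, tApp]; ring

variable {W : Type*} [AddCommGroup W]

/-- The data: `ν` and the translations. -/
structure Trans (W : Type*) [AddCommGroup W] where
  two : ∀ x : W, x + x = 0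
  nu : AddAut W
  nu_rel : ∀ x, x + nu x + nu (nu x) = 0
  act : V4 → AddAut W
  act_add : ∀ u v x, act (u + v) x = act u (act v x)
  act_nu : ∀ u x, act u (nu x) = nu (act u x)

namespace Trans

variable (T : Trans W)

include T

/-- Powers of `ν`. -/
def pw (j : ZMod 3) (x : W) : W := (T.nu)^[j.val] x

theorem neg_eq (x : W) : -x = x := neg_eq_of_add_eq_zero_left (T.two x)

theorem eq_of_add_eq_zero {x y : W} (h : x + y = 0) : x = y := by
  rw [eq_neg_of_add_eq_zero_left h, T.neg_eq]

theorem nu_two (x : W) : T.nu (T.nu x) = x + T.nu x :=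
  (T.eq_of_add_eq_zero (T.nu_rel x)).symm

theorem nu_three (x : W) : T.nu (T.nu (T.nu x)) = x := by
  rw [T.nu_two, T.nu_two, add_left_comm, T.two, add_zero]

theorem iterate_mod (n : ℕ) (x : W) : (T.nu)^[n] x = (T.nu)^[n % 3] x := by
  conv_lhs => rw [← Nat.mod_add_div n 3]
  rw [Function.iterate_add_apply]
  congr 1
  induction n / 3 with
  | zero => rfl
  | succ m ih =>
    rw [Nat.mul_succ, Function.iterate_add_apply]
    show (T.nu)^[3 * m] (T.nu (T.nu (T.nu x))) = x
    rw [T.nu_three, ih]

@[simp] theorem pw_zero (x : W) : T.pw 0 x = x := rfl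

theorem pw_one (x : W) : T.pw 1 x = T.nu x := rfl

theorem pw_add (a b : ZMod 3) (x : W) : T.pw (a + b) x = T.pw a (T.pw b x) := by
  rw [pw, pw, pw, ← Function.iterate_add_apply, T.iterate_mod (a.val + b.val), ZMod.val_add]

theorem pw_two (x : W) : T.pw 2 x = T.nu (T.nu x) := rfl

theorem pw_map_add (a : ZMod 3) (x y : W) : T.pw a (x + y) = T.pw a x + T.pw a y := by
  rw [pw, pw, pw]
  induction a.val with
  | zero => rfl
  | succ n ih => rw [Function.iterate_succ_apply', Function.iterate_succ_apply',
      Function.iterate_succ_apply', ih, map_add]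

/-- Powers of `ν` as additive maps. -/
def pwHom (a : ZMod 3) : W →+ W := AddMonoidHom.mk' (T.pw a) (T.pw_map_add a)

@[simp] theorem pw_map_zero (a : ZMod 3) : T.pw a 0 = 0 := (T.pwHom a).map_zero

theorem pw_injective (a : ZMod 3) : Function.Injective (T.pw a) := fun x y h => by
  simpa [← T.pw_add] using congrArg (T.pw (-a)) h

theorem act_pw (u : V4) (a : ZMod 3) (x : W) : T.act u (T.pw a x) = T.pw a (T.act u x) := by
  rw [pw, pw]
  induction a.val with
  | zero => rfl
  | succ n ih => rw [Function.iterate_succ_apply', Function.iterate_succ_apply', T.act_nu, ih]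

theorem act_zero (x : W) : T.act 0 x = x := by
  have h := T.act_add 0 0 x
  rw [add_zero] at h
  exact ((T.act 0).injective h).symm

/-- The eigenspace of a functional. -/
def comp (f : V4) : AddSubgroup W where
  carrier := {x | ∀ u, T.act u x = T.pw (pair4 f u) x}
  zero_mem' := fun u => by simp
  add_mem' := fun {x y} hx hy u => by rw [map_add, hx u, hy u, T.pw_map_add]
  neg_mem' := fun {x} hx u => by rw [T.neg_eq x]; exact hx u

theorem pw_mem_comp {f : V4} {x : W} (hx : x ∈ T.comp f) (a : ZMod 3) : T.pw a x ∈ T.comp f := fun u => by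
  rw [T.act_pw, hx u, ← T.pw_add, ← T.pw_add, add_comm]

/-- The projection to an eigenspace. -/
def proj (f : V4) (x : W) : W := ∑ v : V4, T.pw (-pair4 f v) (T.act v x)

theorem proj_mem (f : V4) (x : W) : T.proj f x ∈ T.comp f := fun u => by
  show T.act u (∑ v, _) = T.pwHom (pair4 f u) (∑ v, _)
  rw [map_sum, map_sum]
  refine Fintype.sum_equiv (Equiv.addLeft u) _ _ fun v => ?_
  show _ = T.pw _ (T.pw _ _)
  rw [T.act_pw, ← T.act_add, ← T.pw_add]
  congr 1
  rw [Equiv.coe_addLeft, pair4_add_right]
  ring

theorem three_nsmul (x : W) : x + x + x = x := by rw [T.two, zero_add]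

theorem sum_pw_pair (v : V4) (x : W) (hv : v ≠ 0) : ∑ f : V4, T.pw (pair4 f v) x = 0 := by
  obtain ⟨u, -, hu⟩ := exists_pair_eq_one v hv
  set S := ∑ f : V4, T.pw (pair4 f v) x with hS
  have h : T.pwHom 1 S = S := by
    rw [hS, map_sum]
    refine Fintype.sum_equiv (Equiv.addLeft u) _ _ fun f => ?_
    show T.pw 1 (T.pw _ x) = T.pw (pair4 (u + f) v) x
    rw [← T.pw_add, pair4_add_left, hu]
  have h' : T.nu S = S := h
  have h2 := T.nu_rel S
  rwa [h', h', T.three_nsmul] at h2

theorem nsmul81 (x : W) : 81 • x = x := by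
  rw [show (81 : ℕ) = 40 + 40 + 1 by norm_num, add_nsmul, add_nsmul, one_nsmul, T.two, zero_add]

theorem sum_proj (x : W) : ∑ f, T.proj f x = x := by
  simp only [proj]
  rw [Finset.sum_comm, Finset.sum_eq_single (0 : V4)]
  · have h : ∀ f : V4, T.pw (-pair4 f 0) (T.act 0 x) = x := fun f => by
      simp [pair4, T.act_zero]
    simp only [h, Finset.sum_const]
    exact T.nsmul81 x
  · intro v _ hv
    refine Eq.trans ?_ (T.sum_pw_pair v (T.act v x) hv)
    refine Fintype.sum_equiv (Equiv.neg V4) _ _ fun f => ?_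
    show _ = T.pw (pair4 (-f) v) _
    congr 1
    simp only [pair4, Pi.neg_apply]; ring
  · simp

theorem proj_of_mem {f g : V4} {x : W} (hx : x ∈ T.comp g) :
    T.proj f x = if f = g then x else 0 := by
  have h : T.proj f x = ∑ v : V4, T.pw (pair4 (g - f) v) x := by
    refine Finset.sum_congr rfl fun v _ => ?_
    rw [hx v, ← T.pw_add]
    congr 1
    simp only [pair4, Pi.sub_apply]; ring
  split_ifs with hfg
  · subst hfg
    rw [h]
    simp only [sub_self, pair4_zero_left, T.pw_zero, Finset.sum_const]
    exact T.nsmul81 x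
  · obtain ⟨u, hu, -⟩ := exists_pair_eq_one (g - f) (sub_ne_zero.2 (Ne.symm hfg))
    set S := T.proj f x
    have h' : T.pwHom 1 S = S := by
      rw [h, map_sum]
      refine Fintype.sum_equiv (Equiv.addLeft u) _ _ fun v => ?_
      show T.pw 1 (T.pw _ x) = T.pw (pair4 (g - f) (u + v)) x
      rw [← T.pw_add, pair4_add_right, hu]
    have h'' : T.nu S = S := h'
    have h2 := T.nu_rel S
    rwa [h'', h'', T.three_nsmul] at h2

/-- The decomposition. -/
def decomp : W ≃ ((f : V4) → T.comp f) where
  toFun x f := ⟨T.proj f x, T.proj_mem f x⟩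
  invFun y := ∑ f, (y f : W)
  left_inv x := T.sum_proj x
  right_inv y := by
    funext f
    refine Subtype.ext ?_
    show T.proj f (∑ g, (y g : W)) = y f
    have hadd : ∀ a b, T.proj f (a + b) = T.proj f a + T.proj f b := fun a b => by
      simp only [proj, map_add, T.pw_map_add, Finset.sum_add_distrib]
    rw [show T.proj f = ⇑(AddMonoidHom.mk' (T.proj f) hadd) from rfl, map_sum]
    simp only [AddMonoidHom.mk'_apply]
    rw [Finset.sum_eq_single f]
    · rw [T.proj_of_mem (y f).2, if_pos rfl]
    · intro g _ hg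
      rw [T.proj_of_mem (y g).2, if_neg (Ne.symm hg)]
    · simp

theorem pw_ne_self {x : W} (hx : x ≠ 0) {a : ZMod 3} (ha : a ≠ 0) : T.pw a x ≠ x := by
  intro h
  have hnu : T.nu x = x := by
    obtain rfl | rfl | rfl : a = 0 ∨ a = 1 ∨ a = 2 := by clear h ha; revert a; decide
    · exact absurd rfl ha
    · exact h
    · rw [T.pw_two] at h
      calc T.nu x = T.nu (T.nu (T.nu x)) := by rw [h]
        _ = x := T.nu_three x
  have h2 := T.nu_rel x
  rw [hnu, hnu, T.three_nsmul] at h2
  exact hx h2

theorem four_le [Finite W] {f : V4} (hf : T.comp f ≠ ⊥) : 4 ≤ Nat.card (T.comp f) := by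
  classical
  obtain ⟨x, hx, hx0⟩ := (T.comp f).bot_or_exists_ne_zero.resolve_left hf
  let m : Option (ZMod 3) → T.comp f := fun o => o.elim 0 fun a => ⟨T.pw a x, T.pw_mem_comp hx a⟩
  have hm : Function.Injective m := by
    rintro (_ | a) (_ | b) h <;> simp only [m, Option.elim, Subtype.ext_iff, AddSubgroup.coe_zero] at h
    · rfl
    · exact absurd (T.pw_injective b (h.symm.trans (T.pw_map_zero b).symm)) hx0
    · exact absurd (T.pw_injective a (h.trans (T.pw_map_zero a).symm)) hx0
    · by_contra hne
      refine T.pw_ne_self (a := a - b) hx0 (fun e => hne (by rw [sub_eq_zero.1 e])) ?_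
      apply T.pw_injective b
      rw [← T.pw_add, add_sub_cancel, h]
  have h := Nat.card_le_card_of_injective m hm
  rwa [Nat.card_eq_fintype_card, show Fintype.card (Option (ZMod 3)) = 4 from rfl] at h

/-- The support of the decomposition. -/
noncomputable def supp : Finset V4 := by classical exact Finset.univ.filter fun f => T.comp f ≠ ⊥

theorem mem_supp {f : V4} : f ∈ T.supp ↔ T.comp f ≠ ⊥ := by simp [supp]

theorem four_pow_le [Finite W] : 4 ^ T.supp.card ≤ Nat.card W := by
  classical
  rw [Nat.card_congr T.decomp, Nat.card_pi, ← Finset.prod_subset (Finset.subset_univ T.supp)]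
  · exact Finset.pow_card_le_prod _ _ _ fun f hf => T.four_le (T.mem_supp.1 hf)
  · intro f _ hf
    rw [mem_supp, not_not] at hf
    rw [hf]
    exact Nat.card_unique

theorem eq_of_saturated [Finite W] (h : Nat.card W = 4 ^ T.supp.card) {f : V4} (hf : f ∈ T.supp) :
    Nat.card (T.comp f) = 4 := by
  classical
  rw [Nat.card_congr T.decomp, Nat.card_pi, ← Finset.prod_subset (Finset.subset_univ T.supp) (fun g _ hg => by
    rw [mem_supp, not_not] at hg
    rw [hg]
    exact Nat.card_unique)] at h
  refine le_antisymm ?_ (T.four_le (T.mem_supp.1 hf))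
  by_contra hlt
  push Not at hlt
  rw [← Finset.prod_const] at h
  exact (Finset.prod_lt_prod (fun _ _ => by norm_num) (fun g hg => T.four_le (T.mem_supp.1 hg))
    ⟨f, hf, hlt⟩).ne' h

end Trans

end Cfsg.Agent.Lib.FischerType
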