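import Mathlib
import Cfsg.Agent.Lib.FischerType.Eigen

/-!
Small translation modules: the translations are trivial, or there is a frame of six lines permuted by the
elements of order five.
-/

set_option autoImplicit false

namespace Cfsg.Agent.Lib.FischerType

theorem subset_close {u v : ℕ → ℕ} {cap : ℕ} : ∀ (n : ℕ) (stack : List ℕ) {seen : List ℕ} {a : ℕ},
    a ∈ seen → a ∈ close u v cap n stack seen
  | 0, _, _, _, h => h
  | _ + 1, [], _, _, h => h
  | n + 1, x :: stack, seen, a, h => by
    rw [close]
    cases cap.ble seen.length with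
    | true => exact h
    | false =>
      simp only [cond_false, push, Compute.forceNat_eq]
      cases seen.contains (u x) <;> simp only [cond_false, cond_true] <;>
        (generalize List.contains _ (v x) = b; cases b) <;> simp only [cond_false, cond_true] <;>
        refine subset_close n _ ?_ <;> simp [h]

theorem nodup_close (u v : ℕ → ℕ) {cap : ℕ} : ∀ (n : ℕ) (stack : List ℕ) {seen : List ℕ},
    seen.Nodup → (close u v cap n stack seen).Nodup
  | 0, _, _, h => h
  | _ + 1, [], _, h => h
  | n + 1, x :: stack, seen, h => by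
    rw [close]
    cases cap.ble seen.length with
    | true => exact h
    | false =>
      simp only [cond_false, push, Compute.forceNat_eq]
      cases hux : seen.contains (u x) <;> simp only [cond_false, cond_true] <;>
        (generalize hvx : List.contains _ (v x) = b; cases b) <;>
        simp only [cond_false, cond_true] <;> refine nodup_close u v n _ ?_ <;> simp_all

/-- Translations together with the two elements normalising them. -/
structure Norm (W : Type*) [AddCommGroup W] extends Trans W where
  rel : Fin 2 → AddAut W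
  c : Fin 2 → V4
  rel_nu : ∀ k x, rel k (nu x) = nu (rel k x)
  rel_act : ∀ k v x, rel k (act v x) = toTrans.pw (pair4 (c k) v) (act (tApp k v) (rel k x))

variable {W : Type*} [AddCommGroup W]

namespace Norm

variable (T : Norm W)

theorem rel_pw (k : Fin 2) (a : ZMod 3) (x : W) : T.rel k (T.pw a x) = T.pw a (T.rel k x) := by
  rw [Trans.pw, Trans.pw]
  induction a.val with
  | zero => rfl
  | succ n ih => rw [Function.iterate_succ_apply', Function.iterate_succ_apply', T.rel_nu, ih]

/-- The inverse of an element of order five. -/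
def back (k : Fin 2) : W →+ W := ((T.rel k).symm : W ≃+ W).toAddMonoidHom

theorem rel_back (k : Fin 2) (x : W) : T.rel k (T.back k x) = x := (T.rel k).apply_symm_apply x

theorem back_injective (k : Fin 2) : Function.Injective (T.back k) := (T.rel k).symm.injective

theorem back_mem {k : Fin 2} {g : V4} {y : W} (hy : y ∈ T.comp g) :
    T.back k y ∈ T.comp (pull k (T.c k) g) := fun v => by
  apply (T.rel k).injective
  rw [T.rel_act, T.rel_back, hy (tApp k v), T.rel_pw, T.rel_back, ← T.toTrans.pw_add, pair4_pull, add_comm]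

theorem back_pw (k : Fin 2) (a : ZMod 3) (x : W) : T.back k (T.pw a x) = T.pw a (T.back k x) := by
  apply (T.rel k).injective
  rw [T.rel_back, T.rel_pw, T.rel_back]

theorem supp_pull {k : Fin 2} {g : V4} (hg : g ∈ T.supp) : pull k (T.c k) g ∈ T.supp := by
  rw [Trans.mem_supp] at hg ⊢
  obtain ⟨y, hy, hy0⟩ := (T.comp g).bot_or_exists_ne_zero.resolve_left hg
  intro h
  have := T.back_mem (k := k) hy
  rw [h, AddSubgroup.mem_bot] at this
  exact hy0 (T.back_injective k (this.trans (map_zero _).symm))

theorem orb_length_le [Finite W] (h0 : T.c 0 = 0) {f : V4} (hf : f ∈ T.supp) (cap : ℕ)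
    (hnd : (orb (codeV (T.c 1)) (codeV f) cap).Nodup) :
    (orb (codeV (T.c 1)) (codeV f) cap).length ≤ T.supp.card := by
  classical
  have hsub : (orb (codeV (T.c 1)) (codeV f) cap).toFinset ⊆ T.supp.image codeV := by
    intro a ha
    obtain ⟨g, hg, rfl⟩ := orb_mem (c := T.c 1) (S := (T.supp : Set V4))
      (fun g hg => by rw [← h0]; exact T.supp_pull hg) (fun g hg => T.supp_pull hg) hf cap a
      (List.mem_toFinset.1 ha)
    exact Finset.mem_image_of_mem _ hg
  rw [← List.toFinset_card_of_nodup hnd]
  exact (Finset.card_le_card hsub).trans Finset.card_image_le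

/-- With linear actions only, the translations act trivially in dimension at most 24. -/
theorem act_trivial [Finite W] (hc : T.c = 0) (hcard : Nat.card W ≤ 2 ^ 24) (v : V4) (x : W) :
    T.act v x = x := by
  have hsupp : ∀ f ∈ T.supp, f = 0 := by
    intro f hf
    by_contra hne
    have hf0 : codeV f ≠ 0 := fun e => hne (by
      have := congrArg decV e
      rw [decV_codeV] at this
      rw [this]; decide)
    obtain ⟨hnd, hlen⟩ := linear_checked f hf0
    have hc1 : T.c 1 = 0 := by rw [hc]; rfl
    have hc0 : codeV (T.c 1) = 0 := by rw [hc1]; rfl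
    have h := T.orb_length_le (by rw [hc]; rfl) hf 13 (by rw [hc0]; exact hnd)
    rw [hc0] at h
    have h4 : 4 ^ 13 ≤ Nat.card W := (Nat.pow_le_pow_right (by norm_num) (hlen.trans h)).trans T.four_pow_le
    have := h4.trans hcard
    norm_num at this
  have hall : x ∈ T.comp 0 := by
    rw [← T.toTrans.sum_proj x]
    refine AddSubgroup.sum_mem _ fun f _ => ?_
    by_cases hf : f ∈ T.supp
    · rw [hsupp f hf]; exact T.toTrans.proj_mem _ _
    · rw [Trans.mem_supp, not_not] at hf
      have h := T.toTrans.proj_mem f x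
      rw [hf, AddSubgroup.mem_bot] at h
      rw [h]; exact zero_mem _
  rw [hall v, pair4_zero_left, Trans.pw_zero]

/-- A frame of six lines. -/
structure Frame where
  O : Fin 6 → V4
  O_inj : Function.Injective O
  O_sum : ∀ v, ∑ i, pair4 (O i) v = 0
  O_eval : ∀ v, (∀ i, pair4 (O i) v = pair4 (O 0) v) → v = 0
  supp_eq : ∀ f, T.comp f ≠ ⊥ → ∃ i, O i = f
  perm : Fin 2 → Equiv.Perm (Fin 6)
  perm_spec : ∀ k i, O (perm k i) = pull k (T.c k) (O i)
  triples : ∀ a b d : Fin 6, a ≠ b → a ≠ d → b ≠ d →
    ∃ σ ∈ Subgroup.closure (Set.range perm), σ 0 = a ∧ σ 1 = b ∧ σ 2 = d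
  l : Fin 6 → W
  l_mem : ∀ i, l i ∈ T.comp (O i)
  l_ne : ∀ i, l i ≠ 0
  card_comp : ∀ i, Nat.card (T.comp (O i)) = 4

theorem kernel_of_pair : ∀ f : V4, ∃ v : V4, v ≠ 0 ∧ pair4 f v = 0 := by decide +kernel

/-- The frame exists for a faithful action in dimension twelve. -/
theorem exists_frame [Finite W] (h0 : T.c 0 = 0) (hle : Nat.card W ≤ 2 ^ 12)
    (hfaith : ∀ v, (∀ x, T.act v x = x) → v = 0) : Nat.card W = 2 ^ 12 ∧ Nonempty T.Frame := by
  classical
  set C := codeV (T.c 1) with hC
  have hS6 : T.supp.card ≤ 6 := by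
    by_contra hlt
    have h4 : 4 ^ 7 ≤ Nat.card W := (Nat.pow_le_pow_right (by norm_num) (by omega)).trans T.four_pow_le
    have h := h4.trans hle
    norm_num at h
  -- some functional of the support is moved
  obtain ⟨f, hf, hmove⟩ : ∃ f ∈ T.supp, ¬ ∀ k, pull k (T.c k) f = f := by
    by_contra hno
    push Not at hno
    obtain ⟨x, hx⟩ : ∃ x : W, x ≠ 0 := by
      by_contra hall
      push Not at hall
      exact absurd (hfaith (fun _ => 1) fun x => by rw [hall x, map_zero]) (by decide)
    obtain ⟨f, hf⟩ : ∃ f, f ∈ T.supp := by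
      by_contra hall
      push Not at hall
      refine hx ?_
      rw [← T.toTrans.sum_proj x]
      refine Finset.sum_eq_zero fun g _ => ?_
      have hg := hall g
      rw [Trans.mem_supp, not_not] at hg
      have h := T.toTrans.proj_mem g x
      rwa [hg, AddSubgroup.mem_bot] at h
    have huniq : ∀ g ∈ T.supp, g = f := by
      intro g hg
      refine sub_eq_zero.1 (no_invariant_functional _ fun k i => ?_)
      have h1 := congrFun (hno f hf k) i
      have h2 := congrFun (hno g hg k) i
      simp only [pull] at h1 h2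
      simp only [pair4, Pi.sub_apply] at h1 h2 ⊢
      linear_combination h2 - h1
    obtain ⟨v, hv, hfv⟩ := kernel_of_pair f
    refine hv (hfaith v fun y => ?_)
    have hy : y ∈ T.comp f := by
      rw [← T.toTrans.sum_proj y]
      refine AddSubgroup.sum_mem _ fun g _ => ?_
      by_cases hg : g ∈ T.supp
      · rw [huniq g hg]; exact T.toTrans.proj_mem _ _
      · rw [Trans.mem_supp, not_not] at hg
        have h := T.toTrans.proj_mem g y
        rw [hg, AddSubgroup.mem_bot] at h
        rw [h]; exact zero_mem _
    rw [hy v, hfv, Trans.pw_zero]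
  set L := orb C (codeV f) 7 with hL
  have hchk := orbit_checked (T.c 1) f
  rw [← hC, ← hL, orbitCheck, Bool.and_eq_true, decide_eq_true_eq] at hchk
  obtain ⟨hnd, hchk⟩ := hchk
  have hlen := (T.orb_length_le h0 hf 7 hnd).trans hS6
  have hmem : ∀ a ∈ L, ∃ g ∈ (T.supp : Set V4), codeV g = a :=
    orb_mem (fun g hg => by rw [← h0]; exact T.supp_pull hg) (fun g hg => T.supp_pull hg) hf 7
  have hfL : codeV f ∈ L := subset_close _ _ (List.mem_singleton.2 rfl)
  simp only [Bool.or_eq_true, Bool.and_eq_true, beq_iff_eq, decide_eq_true_eq, List.all_eq_true] at hchk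
  rcases hchk with (⟨⟨h1, ha⟩, hb⟩ | hbig) | ⟨⟨⟨⟨h6, hcl⟩, hsum⟩, heval⟩, htri⟩
  · exfalso
    obtain ⟨a, hLa⟩ := List.length_eq_one_iff.1 h1
    rw [hLa] at ha hb hfL
    rw [List.mem_singleton] at hfL
    subst hfL
    simp only [List.getD_cons_zero] at ha hb
    have hinj : Function.Injective codeV := Function.LeftInverse.injective decV_codeV
    refine hmove fun k => hinj ?_
    have h := pullN_codeV k (T.c k) f
    fin_cases k
    · exact h.symm.trans (by rw [Fin.zero_eta, h0]; exact ha)
    · exact h.symm.trans hb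
  · rw [hL] at hbig; rw [hC] at hbig; omega
  · let O : Fin 6 → V4 := fun i => decV (L.getD i.val 0)
    have hlt : ∀ a ∈ L, a < 81 := fun a ha => by
      obtain ⟨g, -, rfl⟩ := hmem a ha
      exact codeV_lt g
    have hget : ∀ i : Fin 6, L.getD i.val 0 ∈ L := fun i => by
      rw [List.getD_eq_getElem _ _ (by omega)]; exact List.getElem_mem _
    have hcode : ∀ i, codeV (O i) = L.getD i.val 0 := fun i => codeV_decV _ (hlt _ (hget i))
    have hOinj : Function.Injective O := fun i j h => by
      have h' := congrArg codeV h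
      rw [hcode, hcode, List.getD_eq_getElem _ _ (by omega), List.getD_eq_getElem _ _ (by omega),
        hnd.getElem_inj_iff] at h'
      exact Fin.ext h'
    have hOS : ∀ i, O i ∈ T.supp := fun i => by
      obtain ⟨g, hg, hgc⟩ := hmem _ (hget i)
      show decV _ ∈ T.supp
      rw [← hgc, decV_codeV]; exact hg
    have himg : Finset.univ.image O = T.supp := by
      refine Finset.eq_of_subset_of_card_le (fun g hg => ?_) ?_
      · obtain ⟨i, -, rfl⟩ := Finset.mem_image.1 hg; exact hOS i
      · rw [Finset.card_image_of_injective _ hOinj, Finset.card_univ, Fintype.card_fin]; exact hS6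
    have hsupp : ∀ g, g ∈ T.supp → ∃ i, O i = g := fun g hg => by
      rw [← himg] at hg
      obtain ⟨i, -, hi⟩ := Finset.mem_image.1 hg
      exact ⟨i, hi⟩
    have hcard : Nat.card W = 2 ^ 12 := by
      have h := T.toTrans.four_pow_le
      rw [← himg, Finset.card_image_of_injective _ hOinj, Finset.card_univ, Fintype.card_fin] at h
      have h' : (4 : ℕ) ^ 6 = 2 ^ 12 := by norm_num
      omega
    choose p hp using fun k i => hsupp _ (T.supp_pull (k := k) (hOS i))
    have hpb : ∀ k, Function.Bijective (p k) := by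
      intro k
      refine (Finite.injective_iff_bijective).1 fun i j hij => hOinj ?_
      have e : pull k (T.c k) (O i) = pull k (T.c k) (O j) := by rw [← hp, ← hp, hij]
      by_contra hne
      -- two components cannot have the same component as image
      have hcard4 : Nat.card (T.comp (pull k (T.c k) (O j))) = 4 := T.toTrans.eq_of_saturated (by
        rw [hcard, ← himg, Finset.card_image_of_injective _ hOinj, Finset.card_univ, Fintype.card_fin]
        norm_num) (T.supp_pull (hOS j))
      let m : (T.comp (O i)) × (T.comp (O j)) → T.comp (pull k (T.c k) (O j)) := fun u =>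
        ⟨T.back k u.1 + T.back k u.2, add_mem (e ▸ T.back_mem u.1.2) (T.back_mem u.2.2)⟩
      have hm : Function.Injective m := by
        rintro ⟨u, v⟩ ⟨u', v'⟩ h
        have h' : T.back k ((u : W) + v) = T.back k (u' + v') := by
          simpa [m, map_add] using congrArg Subtype.val h
        have key : ∀ g, T.proj g ((u : W) + v) = T.proj g (u' + v') := fun g => by
          rw [T.back_injective k h']
        have hadd : ∀ g a b, T.proj g (a + b) = T.proj g a + T.proj g b := fun g a b => by
          simp only [Trans.proj, map_add, T.toTrans.pw_map_add, Finset.sum_add_distrib]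
        have k1 := key (O i)
        have k2 := key (O j)
        rw [hadd, hadd, T.toTrans.proj_of_mem u.2, T.toTrans.proj_of_mem v.2, T.toTrans.proj_of_mem u'.2,
          T.toTrans.proj_of_mem v'.2] at k1 k2
        simp only [if_pos, if_neg hne, if_neg (Ne.symm hne), add_zero, zero_add] at k1 k2
        exact Prod.ext (Subtype.ext k1) (Subtype.ext k2)
      have hle := Nat.card_le_card_of_injective m hm
      rw [Nat.card_prod, hcard4] at hle
      have h1 := T.toTrans.four_le (Trans.mem_supp _ |>.1 (hOS i))
      have h2 := T.toTrans.four_le (Trans.mem_supp _ |>.1 (hOS j))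
      nlinarith
    let π : Fin 2 → Equiv.Perm (Fin 6) := fun k => Equiv.ofBijective (p k) (hpb k)
    have hπ : ∀ k i, O (π k i) = pull k (T.c k) (O i) := hp
    have hpos : ∀ k i, posMap L k.val (codeV (T.c k)) i.val = (π k i).val := by
      intro k i
      show L.idxOf _ = _
      rw [← hcode, pullN_codeV, ← hπ, hcode, List.getD_eq_getElem _ _ (by omega), hnd.idxOf_getElem]
    choose l hl hl0 using fun i => (T.comp (O i)).bot_or_exists_ne_zero.resolve_left (Trans.mem_supp _ |>.1 (hOS i))
    refine ⟨hcard, ⟨O, hOinj, ?_, ?_, fun g hg => hsupp g ((Trans.mem_supp _).2 hg), π, hπ, ?_, l, hl, hl0, fun i => ?_⟩⟩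
    · intro v
      have hs : ∀ j : Fin 4, ∑ i, O i j = 0 := by
        intro j
        have hj := hsum j.val (by fin_cases j <;> simp)
        have e : ∀ i : Fin 6, O i j = ((L.getD i.val 0 / 3 ^ j.val % 3 : ℕ) : ZMod 3) := fun i => by
          show ((L.getD i.val 0 / 3 ^ j.val : ℕ) : ZMod 3) = _
          rw [ZMod.natCast_mod]
        simp only [e]
        rw [← Nat.cast_sum, ← ZMod.natCast_mod]
        have hL6 : L.map (fun a => a / 3 ^ j.val % 3) =
            List.ofFn fun i : Fin 6 => L.getD i.val 0 / 3 ^ j.val % 3 := by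
          refine List.ext_getElem (by simp [h6]) fun n h1 h2 => ?_
          rw [List.getElem_map, List.getElem_ofFn, List.getD_eq_getElem _ _ (by simpa using h1)]
        rw [hL6, List.sum_ofFn] at hj
        rw [hj]; rfl
      simp only [pair4, Finset.sum_add_distrib, ← Finset.sum_mul, hs]
      ring
    · intro v hv
      by_contra hv0
      have h81 := heval (codeV v) (List.mem_range.2 (codeV_lt v))
      rcases h81 with h | h
      · exact hv0 (by
          have := congrArg decV h
          rw [decV_codeV] at this
          rw [this]; decide)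
      · obtain ⟨a, ha, hne⟩ : ∃ a ∈ L, ((a % 3 + 2 * (L.getD 0 0 % 3)) * (codeV v % 3) +
            (a / 3 % 3 + 2 * (L.getD 0 0 / 3 % 3)) * (codeV v / 3 % 3) +
            (a / 9 % 3 + 2 * (L.getD 0 0 / 9 % 3)) * (codeV v / 9 % 3) +
            (a / 27 % 3 + 2 * (L.getD 0 0 / 27 % 3)) * (codeV v / 27 % 3)) % 3 ≠ 0 := by
          simpa [List.all_eq_true] using h
        obtain ⟨n, hn, rfl⟩ := List.getElem_of_mem ha
        refine hne ?_
        have hi := hv ⟨n, by omega⟩
        obtain ⟨c0, c1, c2, c3⟩ := codeV_digit v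
        obtain ⟨a0, a1, a2, a3⟩ := codeV_digit (O ⟨n, by omega⟩)
        obtain ⟨b0, b1, b2, b3⟩ := codeV_digit (O 0)
        rw [hcode, List.getD_eq_getElem _ _ hn] at a0 a1 a2 a3
        rw [hcode] at b0 b1 b2 b3
        rw [c0, c1, c2, c3, a0, a1, a2, a3]
        rw [show ((0 : Fin 6) : ℕ) = 0 from rfl] at b0 b1 b2 b3
        rw [b0, b1, b2, b3, ← Nat.dvd_iff_mod_eq_zero, ← ZMod.natCast_eq_zero_iff]
        · simp only [pair4] at hi
          push_cast
          simp only [ZMod.natCast_zmod_val]
          have h3 : (2 : ZMod 3) = -1 := by decide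
          rw [h3]
          linear_combination hi
    · intro a b d hab had hbd
      have hclose : ∀ t ∈ close (mapTriple (posMap L 0 0)) (mapTriple (posMap L 1 C)) 121 121 [8] [8],
          ∃ σ ∈ Subgroup.closure (Set.range π), (σ 0).val * 36 + (σ 1).val * 6 + (σ 2).val = t := by
        have step : ∀ k, ∀ σ ∈ Subgroup.closure (Set.range π),
            ∃ σ' ∈ Subgroup.closure (Set.range π), (σ' 0).val * 36 + (σ' 1).val * 6 + (σ' 2).val =
              mapTriple (posMap L k.val (codeV (T.c k))) ((σ 0).val * 36 + (σ 1).val * 6 + (σ 2).val) := by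
          intro k σ hσ
          refine ⟨π k * σ, mul_mem (Subgroup.subset_closure ⟨k, rfl⟩) hσ, ?_⟩
          have e1 : ((σ 0).val * 36 + (σ 1).val * 6 + (σ 2).val) / 36 = (σ 0).val := by omega
          have e2 : ((σ 0).val * 36 + (σ 1).val * 6 + (σ 2).val) / 6 % 6 = (σ 1).val := by omega
          have e3 : ((σ 0).val * 36 + (σ 1).val * 6 + (σ 2).val) % 6 = (σ 2).val := by omega
          rw [mapTriple, e1, e2, e3, hpos, hpos, hpos]
          rfl
        refine close_mem ?_ ?_ 121 ?_ ?_
        · rintro _ ⟨σ, hσ, rfl⟩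
          obtain ⟨σ', h', e⟩ := step 0 σ hσ
          exact ⟨σ', h', e.trans (by rw [h0]; rfl)⟩
        · rintro _ ⟨σ, hσ, rfl⟩
          exact step 1 σ hσ
        all_goals
          intro t ht
          rw [List.mem_singleton] at ht
          exact ⟨1, one_mem _, ht.symm⟩
      set D := (close (mapTriple (posMap L 0 0)) (mapTriple (posMap L 1 C)) 121 121 [8] [8]) with hD
      let good : Finset ℕ := ((Finset.univ : Finset (Fin 6 × Fin 6 × Fin 6)).filter
        fun t => t.1 ≠ t.2.1 ∧ t.1 ≠ t.2.2 ∧ t.2.1 ≠ t.2.2).image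
          fun t => t.1.val * 36 + t.2.1.val * 6 + t.2.2.val
      have hnd' : D.Nodup := hD ▸ nodup_close _ _ _ _ (List.nodup_singleton _)
      have hsubset : D.toFinset ⊆ good := by
        intro t ht
        obtain ⟨σ, -, rfl⟩ := hclose t (List.mem_toFinset.1 ht)
        refine Finset.mem_image.2 ⟨(σ 0, σ 1, σ 2), Finset.mem_filter.2 ⟨Finset.mem_univ _, ?_⟩, rfl⟩
        refine ⟨fun e => ?_, fun e => ?_, fun e => ?_⟩ <;> exact absurd (σ.injective e) (by decide)
      have hgood : good.card ≤ 120 := by decide +kernel
      have heq : D.toFinset = good := Finset.eq_of_subset_of_card_le hsubset (by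
        rw [List.toFinset_card_of_nodup hnd', htri]; exact hgood)
      have hin : a.val * 36 + b.val * 6 + d.val ∈ D := by
        rw [← List.mem_toFinset, heq]
        exact Finset.mem_image.2 ⟨(a, b, d), Finset.mem_filter.2 ⟨Finset.mem_univ _, hab, had, hbd⟩, rfl⟩
      obtain ⟨σ, hσ, e⟩ := hclose _ hin
      exact ⟨σ, hσ, Fin.ext (by omega), Fin.ext (by omega), Fin.ext (by omega)⟩
    · exact T.toTrans.eq_of_saturated (by
        rw [hcard, ← himg, Finset.card_image_of_injective _ hOinj, Finset.card_univ, Fintype.card_fin]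
        norm_num) (hOS i)

end Norm

end Cfsg.Agent.Lib.FischerType
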