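import Mathlib
import Cfsg.Agent.Lib.FischerType.Six
import Cfsg.Agent.Lib.Classical.UnitaryStandard

/-!
A group `(3.U₄(3)).2` acting faithfully on an elementary abelian group of order `2^12`: the translation
subgroup of order `3^5` and the elements of order five normalising it.
-/

set_option autoImplicit false

namespace Cfsg.Agent.Lib.FischerType

open Matrix
open Cfsg.Agent.Lib.UThreeThree (Nine)

/-! ### Facts in the unitary group -/

/-- The image of a vector of exponents. -/
def tauSU (v : V4) : Cfsg.SU 4 Nine 3 :=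
  eSU 0 ^ (v 0).val * (eSU 1 ^ (v 1).val * (eSU 2 ^ (v 2).val * eSU 3 ^ (v 3).val))

theorem tauSU_coe (v : V4) :
    (((tauSU v : Cfsg.SU 4 Nine 3) : Matrix.SpecialLinearGroup (Fin 4) Nine) : Matrix (Fin 4) (Fin 4) Nine) =
      trans v := by
  simp only [tauSU, trans, Subgroup.coe_mul, Matrix.SpecialLinearGroup.coe_mul, SubgroupClass.coe_pow,
    Matrix.SpecialLinearGroup.coe_pow]
  rfl

/-- The image in the projective group. -/
def tauP (v : V4) : U43 := (tauSU v : U43)

/-- The translation generators in the projective group. -/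
def eP (i : Fin 4) : U43 := (eSU i : U43)

/-- The elements of order five in the projective group. -/
def rP (k : Fin 2) : U43 := (rSU k : U43)

theorem eP_comm (i j : Fin 4) : eP i * eP j = eP j * eP i := by
  rw [eP, eP, ← QuotientGroup.mk_mul, ← QuotientGroup.mk_mul]
  exact congrArg _ (Subtype.ext (Subtype.ext (eMat_mul_comm i j)))

theorem eP_cube (i : Fin 4) : eP i ^ 3 = 1 := by
  rw [eP, ← QuotientGroup.mk_pow, ← QuotientGroup.mk_one]
  refine congrArg _ (Subtype.ext (Subtype.ext ?_))
  simp only [SubgroupClass.coe_pow, Matrix.SpecialLinearGroup.coe_pow]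
  rw [pow_succ', pow_two]
  exact eMat_cube i

theorem rP_five (k : Fin 2) : rP k ^ 5 = 1 := by
  rw [rP, ← QuotientGroup.mk_pow, ← QuotientGroup.mk_one]
  refine congrArg _ (Subtype.ext (Subtype.ext ?_))
  simp only [SubgroupClass.coe_pow, Matrix.SpecialLinearGroup.coe_pow]
  exact rMat_five k

theorem tauP_eq (v : V4) :
    tauP v = eP 0 ^ (v 0).val * (eP 1 ^ (v 1).val * (eP 2 ^ (v 2).val * eP 3 ^ (v 3).val)) := rfl

theorem rP_conj (k : Fin 2) (i : Fin 4) : rP k * eP i = tauP (tNums k i) * rP k := by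
  rw [rP, eP, tauP, ← QuotientGroup.mk_mul, ← QuotientGroup.mk_mul]
  refine congrArg _ (Subtype.ext (Subtype.ext ?_))
  simp only [Subgroup.coe_mul, Matrix.SpecialLinearGroup.coe_mul, tauSU_coe]
  exact rMat_conj k i

theorem tauP_eq_one (v : V4) (h : tauP v = 1) : v = 0 := by
  rw [tauP, QuotientGroup.eq_one_iff] at h
  have e := Classical.center_SU_scalar hNine (tauSU v) h 0
  refine trans_injective_center v (trans v 0 0) ?_
  rw [tauSU_coe] at e
  rw [Matrix.smul_one_eq_diagonal]
  exact e

/-- Products of powers of commuting elements of exponent three. -/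
def prod4 {H : Type*} [Group H] (e : Fin 4 → H) (v : V4) : H :=
  e 0 ^ (v 0).val * (e 1 ^ (v 1).val * (e 2 ^ (v 2).val * e 3 ^ (v 3).val))

theorem pow_val_add {H : Type*} [Group H] {x : H} (hx : x ^ 3 = 1) (a b : ZMod 3) :
    x ^ (a + b).val = x ^ a.val * x ^ b.val := by
  rw [← pow_add, ZMod.val_add, ← pow_eq_pow_mod _ hx]

theorem prod4_add {H : Type*} [Group H] {e : Fin 4 → H} (hc : ∀ i j, Commute (e i) (e j))
    (h3 : ∀ i, e i ^ 3 = 1) (u v : V4) : prod4 e (u + v) = prod4 e u * prod4 e v := by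
  have hh : ∀ i j (a b : ℕ), Commute (e i ^ a) (e j ^ b) := fun i j a b => (hc i j).pow_pow a b
  have A : Commute (e 1 ^ (u 1).val * (e 2 ^ (u 2).val * e 3 ^ (u 3).val)) (e 0 ^ (v 0).val) :=
    (hh _ _ _ _).mul_left ((hh _ _ _ _).mul_left (hh _ _ _ _))
  have B : Commute (e 2 ^ (u 2).val * e 3 ^ (u 3).val) (e 1 ^ (v 1).val) :=
    (hh _ _ _ _).mul_left (hh _ _ _ _)
  have C : Commute (e 3 ^ (u 3).val) (e 2 ^ (v 2).val) := hh _ _ _ _
  simp only [prod4, Pi.add_apply]
  rw [pow_val_add (h3 0), pow_val_add (h3 1), pow_val_add (h3 2), pow_val_add (h3 3)]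
  symm
  calc e 0 ^ (u 0).val * (e 1 ^ (u 1).val * (e 2 ^ (u 2).val * e 3 ^ (u 3).val)) *
        (e 0 ^ (v 0).val * (e 1 ^ (v 1).val * (e 2 ^ (v 2).val * e 3 ^ (v 3).val)))
      = e 0 ^ (u 0).val * ((e 1 ^ (u 1).val * (e 2 ^ (u 2).val * e 3 ^ (u 3).val)) * e 0 ^ (v 0).val) *
        (e 1 ^ (v 1).val * (e 2 ^ (v 2).val * e 3 ^ (v 3).val)) := by group
    _ = e 0 ^ (u 0).val * e 0 ^ (v 0).val * (e 1 ^ (u 1).val *
        ((e 2 ^ (u 2).val * e 3 ^ (u 3).val) * e 1 ^ (v 1).val)) *
        (e 2 ^ (v 2).val * e 3 ^ (v 3).val) := by rw [A.eq]; group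
    _ = e 0 ^ (u 0).val * e 0 ^ (v 0).val * (e 1 ^ (u 1).val * e 1 ^ (v 1).val *
        (e 2 ^ (u 2).val * (e 3 ^ (u 3).val * e 2 ^ (v 2).val))) * e 3 ^ (v 3).val := by rw [B.eq]; group
    _ = _ := by rw [C.eq]; group

/-- An additive function on vectors is a functional. -/
theorem additive_expand {f : V4 → ZMod 3} (hf : ∀ u v, f (u + v) = f u + f v) (v : V4) :
    f v = pair4 (fun i => f (Pi.single i 1)) v := by
  let F : V4 →+ ZMod 3 := AddMonoidHom.mk' f hf
  have key : ∀ (i : Fin 4) (x : ZMod 3), f (Pi.single i x) = f (Pi.single i 1) * x := by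
    intro i x
    have hx : (Pi.single i x : V4) = x.val • (Pi.single i (1 : ZMod 3) : V4) := by
      funext j
      rcases eq_or_ne j i with rfl | hj
      · simp [nsmul_eq_mul]
      · simp [Pi.single_eq_of_ne hj]
    show F _ = F _ * x
    rw [hx, map_nsmul, nsmul_eq_mul, ZMod.natCast_zmod_val, mul_comm]
  conv_lhs => rw [show f v = F (∑ i, Pi.single i (v i)) by rw [Finset.univ_sum_single]; rfl]
  rw [map_sum]
  show ∑ i, f (Pi.single i (v i)) = _
  rw [Finset.sum_congr rfl fun i _ => key i (v i), Fin.sum_univ_four]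
  rfl

/-! ### The setting -/

/-- The hypotheses on `L`, `W`. -/
structure Setting (L W : Type*) [Group L] [AddCommGroup W] [DistribMulAction L W] where
  M : Subgroup L
  M_normal : M.Normal
  n : L
  n_mem : n ∈ M
  n_order : orderOf n = 3
  n_central : ∀ m ∈ M, m * n = n * m
  θ : M →* U43
  θ_surj : Function.Surjective θ
  θ_ker : ∀ m : M, θ m = 1 ↔ (m : L) ∈ Subgroup.zpowers n
  faithful : ∀ g : L, (∀ x : W, g • x = x) → g = 1
  two : ∀ x : W, x + x = 0
  card : Nat.card W = 2 ^ 12

namespace Setting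

variable {L W : Type*} [Group L] [AddCommGroup W] [DistribMulAction L W] (S : Setting L W)

/-- Powers of `n` indexed by `ZMod 3`. -/
def np (a : ZMod 3) : L := S.n ^ a.val

theorem n_cube : S.n ^ 3 = 1 := S.n_order ▸ pow_orderOf_eq_one S.n

theorem np_add (a b : ZMod 3) : S.np (a + b) = S.np a * S.np b := pow_val_add S.n_cube a b

theorem np_mem (a : ZMod 3) : S.np a ∈ S.M := pow_mem S.n_mem _

theorem np_comm {m : L} (hm : m ∈ S.M) (a : ZMod 3) : m * S.np a = S.np a * m :=
  (Commute.pow_right (S.n_central m hm) _).eq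

theorem np_injective : Function.Injective S.np := fun a b h => by
  have h' := pow_inj_mod.1 h
  rw [S.n_order, Nat.mod_eq_of_lt a.val_lt, Nat.mod_eq_of_lt b.val_lt] at h'
  exact ZMod.val_injective 3 h'

@[simp] theorem np_zero : S.np 0 = 1 := by simp [np]

theorem exists_np {m : S.M} (h : S.θ m = 1) : ∃ a, (m : L) = S.np a := by
  obtain ⟨i, hi⟩ := Subgroup.mem_zpowers_iff.1 ((S.θ_ker m).1 h)
  refine ⟨(i : ZMod 3), ?_⟩
  rw [← hi, np, ← zpow_natCast, ← zpow_mod_orderOf, ZMod.val_intCast, S.n_order]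

theorem eq_np_mul {m m' : S.M} (h : S.θ m = S.θ m') : ∃ a, (m : L) = S.np a * m' := by
  obtain ⟨a, ha⟩ := S.exists_np (m := m * m'⁻¹) (by rw [map_mul, map_inv, h, mul_inv_cancel])
  exact ⟨a, by rw [← ha]; simp⟩

/-- A lift of a translation. -/
noncomputable def lift (v : V4) : S.M := (S.θ_surj (tauP v)).choose

theorem θ_lift (v : V4) : S.θ (S.lift v) = tauP v := (S.θ_surj (tauP v)).choose_spec

theorem tauP_add (u v : V4) : tauP (u + v) = tauP u * tauP v :=
  prod4_add (fun i j => eP_comm i j) eP_cube u v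

theorem tauP_app (k : Fin 2) (v : V4) : rP k * tauP v = tauP (tApp k v) * rP k := by
  have hpow : ∀ i (a : ℕ), rP k * eP i ^ a * (rP k)⁻¹ = tauP (tNums k i) ^ a := fun i a => by
    rw [← conj_pow, rP_conj]; group
  have hp : ∀ (w : V4) (a : ZMod 3), tauP w ^ a.val = tauP (a • w) := by
    intro w a
    have h : ∀ n : ℕ, tauP w ^ n = tauP ((n : ZMod 3) • w) := by
      intro n
      induction n with
      | zero => simp [tauP_eq]
      | succ n ih => rw [pow_succ, ih, ← tauP_add, Nat.cast_succ, add_smul, one_smul]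
    rw [h, ZMod.natCast_zmod_val]
  have e : tApp k v = v 0 • tNums k 0 + (v 1 • tNums k 1 + (v 2 • tNums k 2 + v 3 • tNums k 3)) := by
    funext j; simp only [tApp, Pi.add_apply, Pi.smul_apply, smul_eq_mul]; ring
  rw [e, tauP_add, tauP_add, tauP_add, ← hp, ← hp, ← hp, ← hp, ← hpow, ← hpow, ← hpow, ← hpow, tauP_eq]
  group

/-- A lift of order five. -/
noncomputable def r (k : Fin 2) : S.M := (S.θ_surj (rP k)).choose ^ 6

theorem θ_r (k : Fin 2) : S.θ (S.r k) = rP k := by
  rw [r, map_pow, (S.θ_surj (rP k)).choose_spec, pow_succ, rP_five, one_mul]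

theorem r_five (k : Fin 2) : S.r k ^ 5 = 1 := by
  set r0 := (S.θ_surj (rP k)).choose with hr0
  obtain ⟨a, ha⟩ := S.exists_np (m := r0 ^ 5) (by rw [map_pow, hr0, (S.θ_surj (rP k)).choose_spec, rP_five])
  refine Subtype.ext ?_
  show ((r0 ^ 6) ^ 5 : S.M).1 = 1
  rw [← pow_mul, show 6 * 5 = 5 * 6 from rfl, pow_mul, Subgroup.coe_pow, ha, np, ← pow_mul,
    show a.val * 6 = 3 * (2 * a.val) by ring, pow_mul, S.n_cube, one_pow]

theorem lifts_commute (i j : Fin 4) : Commute (S.lift (Pi.single i 1)) (S.lift (Pi.single j 1)) := by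
  have hex : ∀ u v, ∃ a, (S.lift u : L) * S.lift v = S.np a * (S.lift v * S.lift u : L) := fun u v =>
    S.eq_np_mul (m := S.lift u * S.lift v) (m' := S.lift v * S.lift u) (by
      rw [map_mul, map_mul, θ_lift, θ_lift, ← tauP_add, ← tauP_add, add_comm])
  choose α hα using hex
  have gen : ∀ {x y : S.M} {u v : V4}, S.θ x = tauP u → S.θ y = tauP v →
      (x : L) * y = S.np (α u v) * (y * x) := by
    intro x y u v hx hy
    obtain ⟨a, ha⟩ := S.eq_np_mul (m := x) (m' := S.lift u) (by rw [hx, θ_lift])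
    obtain ⟨b, hb⟩ := S.eq_np_mul (m := y) (m' := S.lift v) (by rw [hy, θ_lift])
    have ca : ∀ m : S.M, (m : L) * S.np a = S.np a * m := fun m => S.np_comm m.2 a
    have cb : ∀ m : S.M, (m : L) * S.np b = S.np b * m := fun m => S.np_comm m.2 b
    have cα : ∀ c, S.np (α u v) * S.np c = S.np c * S.np (α u v) := fun c => by
      rw [← S.np_add, ← S.np_add, add_comm]
    rw [ha, hb]
    calc S.np a * (S.lift u : L) * (S.np b * S.lift v)
        = S.np a * ((S.lift u : L) * S.np b) * S.lift v := by group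
      _ = S.np a * S.np b * ((S.lift u : L) * S.lift v) := by rw [cb]; group
      _ = S.np a * S.np b * (S.np (α u v) * (S.lift v * S.lift u : L)) := by rw [hα]
      _ = S.np (α u v) * (S.np b * S.np a) * (S.lift v * S.lift u : L) := by
          rw [show S.np b * S.np a = S.np (a + b) by rw [← S.np_add, add_comm],
            ← S.np_add a b, ← mul_assoc, cα]
      _ = S.np (α u v) * (S.np b * ((S.np a * S.lift v) * S.lift u : L)) := by group
      _ = _ := by rw [← ca]; group
  have hself : ∀ u, α u u = 0 := fun u => by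
    apply S.np_injective
    rw [np_zero]
    exact (mul_eq_right.1 (hα u u).symm)
  have hanti : ∀ u v, α v u = - α u v := fun u v => by
    have h := hα u v
    rw [hα v u, ← mul_assoc, ← S.np_add] at h
    have h0 : α u v + α v u = 0 := S.np_injective (by rw [np_zero]; exact mul_eq_right.1 h.symm)
    exact eq_neg_of_add_eq_zero_right h0
  have hadd : ∀ u w v, α (u + w) v = α u v + α w v := fun u w v => by
    have h := gen (x := S.lift u * S.lift w) (y := S.lift v) (u := u + w) (v := v)
      (by rw [map_mul, θ_lift, θ_lift, tauP_add]) (θ_lift S v)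
    refine S.np_injective (mul_right_cancel (b := (S.lift v : L) * (S.lift u * S.lift w)) ?_)
    rw [Subgroup.coe_mul] at h
    rw [← h, S.np_add]
    symm
    calc S.np (α u v) * S.np (α w v) * ((S.lift v : L) * (S.lift u * S.lift w))
        = S.np (α w v) * (S.np (α u v) * ((S.lift v : L) * S.lift u)) * S.lift w := by
          rw [← S.np_add, add_comm, S.np_add]; group
      _ = S.np (α w v) * ((S.lift u : L) * S.lift v) * S.lift w := by rw [hα u v]
      _ = (S.lift u : L) * (S.np (α w v) * (S.lift v * S.lift w)) := by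
          rw [← mul_assoc, ← S.np_comm (S.lift u).2]; group
      _ = _ := by rw [← hα w v]; group
  have hadd' : ∀ v u w, α v (u + w) = α v u + α v w := fun v u w => by
    rw [hanti, hadd, hanti v u, hanti v w]; ring
  have hinv : ∀ k u v, α (tApp k u) (tApp k v) = α u v := fun k u v => by
    have hc : ∀ u, S.θ (S.r k * S.lift u * (S.r k)⁻¹) = tauP (tApp k u) := fun u => by
      rw [map_mul, map_mul, map_inv, θ_r, θ_lift, tauP_app, mul_inv_cancel_right]
    have h := gen (hc u) (hc v)
    simp only [Subgroup.coe_mul, Subgroup.coe_inv] at h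
    refine S.np_injective (mul_right_cancel (b := (S.r k : L) * ((S.lift v : L) * S.lift u) * (S.r k : L)⁻¹) ?_)
    calc S.np (α (tApp k u) (tApp k v)) * ((S.r k : L) * ((S.lift v : L) * S.lift u) * (S.r k : L)⁻¹)
        = S.np (α (tApp k u) (tApp k v)) * ((S.r k : L) * S.lift v * (S.r k : L)⁻¹ *
            ((S.r k : L) * S.lift u * (S.r k : L)⁻¹)) := by group
      _ = (S.r k : L) * ((S.lift u : L) * S.lift v) * (S.r k : L)⁻¹ := by rw [← h]; group
      _ = ((S.r k : L) * S.np (α u v)) * ((S.lift v : L) * S.lift u) * (S.r k : L)⁻¹ := by rw [hα]; group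
      _ = _ := by rw [S.np_comm (S.r k).2]; group
  set a : Fin 4 → Fin 4 → ZMod 3 := fun i j => α (Pi.single i 1) (Pi.single j 1) with ha
  have hexp : ∀ u v, α u v = ∑ p, u p * ∑ q, v q * a p q := fun u v => by
    rw [additive_expand (f := fun u => α u v) (fun u w => hadd u w v) u]
    have h' : ∀ p, α (Pi.single p 1) v = ∑ q, v q * a p q := fun p => by
      rw [additive_expand (f := α (Pi.single p 1)) (hadd' _) v]
      simp only [pair4, Fin.sum_univ_four, ha]; ring
    simp only [pair4, Fin.sum_univ_four, h']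
    ring
  have happ : ∀ k i, tApp k (Pi.single i 1) = tNums k i := by
    intro k i; funext j; fin_cases i <;> simp [tApp]
  have hA : (![![0, a 0 1, a 0 2, a 0 3], ![-a 0 1, 0, a 1 2, a 1 3],
      ![-a 0 2, -a 1 2, 0, a 2 3], ![-a 0 3, -a 1 3, -a 2 3, 0]] : Fin 4 → Fin 4 → ZMod 3) = a := by
    funext p q
    fin_cases p <;> fin_cases q <;> first
      | exact (hself _).symm
      | exact (hanti _ _).symm
      | rfl
  have h0 := no_invariant_form ![a 0 1, a 0 2, a 0 3, a 1 2, a 1 3, a 2 3] (fun k i j => by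
    show _ = _
    simp only [Matrix.cons_val]
    rw [hA, ← happ k i, ← happ k j, ← hexp, hinv])
  have hzero : ∀ p q, a p q = 0 := by
    intro p q
    rw [← hA]
    have z : ∀ m, (![a 0 1, a 0 2, a 0 3, a 1 2, a 1 3, a 2 3] : Fin 6 → ZMod 3) m = 0 :=
      fun m => congrFun h0 m
    have z0 := z 0; have z1 := z 1; have z2 := z 2; have z3 := z 3; have z4 := z 4; have z5 := z 5
    simp only [Matrix.cons_val] at z0 z1 z2 z3 z4 z5
    fin_cases p <;> fin_cases q <;> simp [z0, z1, z2, z3, z4, z5]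
  refine Subtype.ext ?_
  have h := hα (Pi.single i 1) (Pi.single j 1)
  rw [show α (Pi.single i 1) (Pi.single j 1) = 0 from hzero i j, np_zero, one_mul] at h
  exact h

/-- The homomorphism of the translations before normalisation. -/
noncomputable def eps0 (v : V4) : S.M := prod4 (fun i => S.lift (Pi.single i 1)) v

theorem tauP_single (i : Fin 4) : tauP (Pi.single i 1) = eP i := by
  fin_cases i <;> simp [tauP_eq, ZMod.val_one]

theorem θ_eps0 (v : V4) : S.θ (S.eps0 v) = tauP v := by
  simp only [eps0, prod4, map_mul, map_pow, θ_lift]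
  rw [tauP_single, tauP_single, tauP_single, tauP_single, ← tauP_eq]

theorem cube_lift (i : Fin 4) : S.lift (Pi.single i 1) ^ 3 = 1 := by
  -- cubes give an invariant functional
  have hex : ∀ v, ∃ a, ((S.eps0 v ^ 3 : S.M) : L) = S.np a := fun v => S.exists_np (by
    rw [map_pow, θ_eps0, tauP_eq]
    have h : ∀ w, tauP w ^ 3 = 1 := fun w => by
      rw [pow_succ, pow_two, ← tauP_add, ← tauP_add, show w + w + w = 0 from by
        funext j; simp only [Pi.add_apply, Pi.zero_apply]; generalize w j = x; revert x; decide]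
      simp [tauP_eq]
    simpa [tauP_eq] using h v)
  choose γ hγ using hex
  have hcomm : ∀ u v, Commute (S.eps0 u) (S.eps0 v) := fun u v => by
    have hh : ∀ i j (a b : ℕ), Commute (S.lift (Pi.single i 1) ^ a) (S.lift (Pi.single j 1) ^ b) :=
      fun i j a b => (S.lifts_commute i j).pow_pow a b
    simp only [eps0, prod4]
    repeat' apply Commute.mul_left
    all_goals repeat' apply Commute.mul_right
    all_goals exact hh _ _ _ _
  have gen : ∀ {x : S.M} {u : V4}, S.θ x = tauP u → ((x ^ 3 : S.M) : L) = S.np (γ u) := by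
    intro x u hx
    obtain ⟨a, ha⟩ := S.eq_np_mul (m := x) (m' := S.eps0 u) (by rw [hx, θ_eps0])
    rw [Subgroup.coe_pow, ha,
      Commute.mul_pow ((S.np_comm (S.eps0 u).2 a).symm : Commute (S.np a) (S.eps0 u : L)), np,
      ← pow_mul, mul_comm a.val, pow_mul, S.n_cube, one_pow, one_mul, ← Subgroup.coe_pow, hγ]
  have hadd : ∀ u v, γ (u + v) = γ u + γ v := fun u v => S.np_injective (by
    rw [← gen (x := S.eps0 u * S.eps0 v) (by rw [map_mul, θ_eps0, θ_eps0, tauP_add]), S.np_add, ← hγ, ← hγ,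
      (hcomm u v).mul_pow, Subgroup.coe_mul])
  have hinv : ∀ k u, γ (tApp k u) = γ u := fun k u => S.np_injective (by
    rw [← gen (x := S.r k * S.eps0 u * (S.r k)⁻¹) (by
      rw [map_mul, map_mul, map_inv, θ_r, θ_eps0, tauP_app, mul_inv_cancel_right])]
    rw [conj_pow, Subgroup.coe_mul, Subgroup.coe_mul, Subgroup.coe_inv, hγ, S.np_comm (S.r k).2,
      mul_inv_cancel_right])
  have happ : ∀ k i, tApp k (Pi.single i 1) = tNums k i := by
    intro k i; funext j; fin_cases i <;> simp [tApp]
  have hf := no_invariant_functional (fun i => γ (Pi.single i 1)) fun k i => by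
    rw [← additive_expand hadd, ← happ, hinv]
  refine Subtype.ext ?_
  rw [gen (θ_lift S _), show γ (Pi.single i 1) = 0 from congrFun hf i, np_zero]
  rfl

theorem eps0_add (u v : V4) : S.eps0 (u + v) = S.eps0 u * S.eps0 v :=
  prod4_add S.lifts_commute S.cube_lift u v

/-- The translations in `L`, with the shift `f`. -/
noncomputable def eps (f v : V4) : S.M := ⟨S.np (pair4 f v), S.np_mem _⟩ * S.eps0 v

theorem eps_add (f u v : V4) : S.eps f (u + v) = S.eps f u * S.eps f v := by
  refine Subtype.ext ?_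
  simp only [eps, eps0_add, Subgroup.coe_mul, pair4_add_right, np_add]
  have h := S.np_comm (S.eps0 u).2 (pair4 f v)
  calc S.np (pair4 f u) * S.np (pair4 f v) * ((S.eps0 u : L) * S.eps0 v)
      = S.np (pair4 f u) * (S.np (pair4 f v) * (S.eps0 u : L)) * S.eps0 v := by group
    _ = _ := by rw [← h]; group

theorem θ_eps (f v : V4) : S.θ (S.eps f v) = tauP v := by
  rw [eps, map_mul, θ_eps0, (S.θ_ker ⟨S.np _, S.np_mem _⟩).2 (Subgroup.npow_mem_zpowers _ _), one_mul]

theorem exists_shift : ∃ f : V4, ∃ c : Fin 2 → V4, c 0 = 0 ∧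
    ∀ k v, (S.r k : L) * S.eps f v = S.np (pair4 (c k) v) * S.eps f (tApp k v) * S.r k := by
  have hex : ∀ k v, ∃ a, ((S.r k * S.eps0 v : S.M) : L) = S.np a * ((S.eps0 (tApp k v) * S.r k : S.M) : L) :=
    fun k v => S.eq_np_mul (by rw [map_mul, map_mul, θ_r, θ_eps0, θ_eps0, tauP_app])
  choose β hβ using hex
  simp only [Subgroup.coe_mul] at hβ
  have happ : ∀ k u v, tApp k (u + v) = tApp k u + tApp k v := fun k u v => by
    funext j; simp only [tApp, Pi.add_apply]; ring
  have hadd : ∀ k u v, β k (u + v) = β k u + β k v := fun k u v => by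
    refine S.np_injective (mul_right_cancel (b := (S.eps0 (tApp k (u + v)) : L) * S.r k) ?_)
    rw [← hβ, happ, eps0_add, eps0_add, Subgroup.coe_mul, Subgroup.coe_mul, S.np_add]
    calc (S.r k : L) * ((S.eps0 u : L) * S.eps0 v) = (S.r k : L) * S.eps0 u * S.eps0 v := by group
      _ = S.np (β k u) * (S.eps0 (tApp k u) : L) * ((S.r k : L) * S.eps0 v) := by rw [hβ]; group
      _ = S.np (β k u) * ((S.eps0 (tApp k u) : L) * S.np (β k v)) * (S.eps0 (tApp k v) * S.r k : L) := by
          rw [hβ]; group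
      _ = _ := by rw [S.np_comm (S.eps0 _).2]; group
  obtain ⟨f, hf⟩ := shift_exists (-fun i => β 0 (Pi.single i 1))
  refine ⟨f, fun k i => pair4 f (Pi.single i 1) + β k (Pi.single i 1) - pair4 f (tNums k i), ?_, ?_⟩
  · funext i
    have h := hf i
    simp only [Pi.neg_apply] at h
    have e : pair4 f (Pi.single i 1) = f i := by fin_cases i <;> simp [pair4]
    show pair4 f (Pi.single i 1) + β 0 (Pi.single i 1) - pair4 f (tNums 0 i) = 0
    rw [e]
    linear_combination h
  · intro k v
    have hc : pair4 (fun i => pair4 f (Pi.single i 1) + β k (Pi.single i 1) - pair4 f (tNums k i)) v =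
        pair4 f v + β k v - pair4 f (tApp k v) := by
      rw [additive_expand (hadd k) v]
      simp only [pair4, tApp, Pi.single_apply, Fin.reduceEq, if_true, if_false]
      ring
    simp only [eps, Subgroup.coe_mul]
    rw [hc, ← mul_assoc, S.np_comm (S.r k).2, mul_assoc, hβ]
    rw [show pair4 f v + β k v - pair4 f (tApp k v) = pair4 f v + β k v + -pair4 f (tApp k v) by ring,
      S.np_add, S.np_add]
    have hz : S.np (-pair4 f (tApp k v)) * S.np (pair4 f (tApp k v)) = 1 := by
      rw [← S.np_add, neg_add_cancel, np_zero]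
    calc S.np (pair4 f v) * (S.np (β k v) * ((S.eps0 (tApp k v) : L) * S.r k))
        = S.np (pair4 f v) * S.np (β k v) * (S.np (-pair4 f (tApp k v)) * S.np (pair4 f (tApp k v))) *
            ((S.eps0 (tApp k v) : L) * S.r k) := by rw [hz]; group
      _ = _ := by group

end Setting

end Cfsg.Agent.Lib.FischerType
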