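import Mathlib
import Cfsg.Agent.Lib.FischerType.Setup

/-!
The element of order three acts without fixed points, and the six lines exist.
-/

set_option autoImplicit false

namespace Cfsg.Agent.Lib.FischerType

namespace Setting

variable {L W : Type*} [Group L] [AddCommGroup W] [DistribMulAction L W] (S : Setting L W)

/-- An additive automorphism of an invariant subgroup of `W`. -/
def restr (U : AddSubgroup W) (hU : ∀ m ∈ S.M, ∀ x ∈ U, m • x ∈ U) (m : S.M) : AddAut U where
  toFun x := ⟨(m : L) • (x : W), hU m m.2 x x.2⟩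
  invFun x := ⟨(m : L)⁻¹ • (x : W), hU _ (inv_mem m.2) x x.2⟩
  left_inv x := Subtype.ext (inv_smul_smul _ _)
  right_inv x := Subtype.ext (smul_inv_smul _ _)
  map_add' x y := Subtype.ext (smul_add _ _ _)

theorem restr_mul (U : AddSubgroup W) (hU : ∀ m ∈ S.M, ∀ x ∈ U, m • x ∈ U) (a b : S.M) (x : U) :
    S.restr U hU (a * b) x = S.restr U hU a (S.restr U hU b x) :=
  Subtype.ext (mul_smul (a : L) (b : L) (x : W))

theorem restr_commute (U : AddSubgroup W) (hU : ∀ m ∈ S.M, ∀ x ∈ U, m • x ∈ U) (m : S.M) (x : U) :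
    S.restr U hU m (S.restr U hU ⟨S.n, S.n_mem⟩ x) = S.restr U hU ⟨S.n, S.n_mem⟩ (S.restr U hU m x) := by
  rw [← restr_mul, ← restr_mul,
    show m * ⟨S.n, S.n_mem⟩ = ⟨S.n, S.n_mem⟩ * m from Subtype.ext (S.n_central m m.2)]

/-- The fixed points of `n`. -/
def W0 : AddSubgroup W where
  carrier := {x | S.n • x = x}
  zero_mem' := smul_zero _
  add_mem' := fun {x y} (hx : S.n • x = x) (hy : S.n • y = y) => by
    show S.n • (x + y) = x + y
    rw [smul_add, hx, hy]
  neg_mem' := fun {x} (hx : S.n • x = x) => by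
    show S.n • (-x) = -x
    rw [smul_neg, hx]

/-- The elements killed by `1 + n + n²`. -/
def W1 : AddSubgroup W where
  carrier := {x | x + S.n • x + S.n • S.n • x = 0}
  zero_mem' := by simp
  add_mem' := fun {x y} (hx : x + S.n • x + S.n • S.n • x = 0) (hy : y + S.n • y + S.n • S.n • y = 0) => by
    show _ = (0 : W)
    rw [smul_add, smul_add]
    calc _ = (x + S.n • x + S.n • S.n • x) + (y + S.n • y + S.n • S.n • y) := by abel
      _ = 0 := by rw [hx, hy, add_zero]
  neg_mem' := fun {x} (hx : x + S.n • x + S.n • S.n • x = 0) => by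
    show _ = (0 : W)
    rw [smul_neg, smul_neg, ← neg_add, ← neg_add, hx, neg_zero]

theorem smul_n_comm {m : L} (hm : m ∈ S.M) (x : W) : S.n • m • x = m • S.n • x := by
  rw [← mul_smul, ← mul_smul, S.n_central m hm]

theorem W0_inv : ∀ m ∈ S.M, ∀ x ∈ S.W0, m • x ∈ S.W0 := fun m hm x (hx : S.n • x = x) => by
  show S.n • m • x = m • x
  rw [S.smul_n_comm hm, hx]

theorem W1_inv : ∀ m ∈ S.M, ∀ x ∈ S.W1, m • x ∈ S.W1 := fun m hm x (hx : x + S.n • x + S.n • S.n • x = 0) => by
  show m • x + S.n • m • x + S.n • S.n • m • x = 0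
  rw [S.smul_n_comm hm, S.smul_n_comm hm, ← smul_add, ← smul_add, hx, smul_zero]

theorem np_smul_fixed {x : W} (hx : S.n • x = x) (a : ZMod 3) : S.np a • x = x := by
  rw [np]
  induction a.val with
  | zero => simp
  | succ n ih => rw [pow_succ, mul_smul, hx, ih]

theorem n_cube_smul (x : W) : S.n • S.n • S.n • x = x := by
  rw [← mul_smul, ← mul_smul, show S.n * S.n * S.n = S.n ^ 3 by rw [pow_succ, pow_two], n_cube, one_smul]

theorem iterate_smul (g : L) (j : ℕ) (x : W) : (fun y : W => g • y)^[j] x = g ^ j • x := by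
  induction j with
  | zero => simp
  | succ j ih => rw [Function.iterate_succ_apply', ih, pow_succ', mul_smul]

theorem rel_smul {f : V4} {c : Fin 2 → V4}
    (hc : ∀ k v, (S.r k : L) * S.eps f v = S.np (pair4 (c k) v) * S.eps f (tApp k v) * S.r k)
    (k : Fin 2) (v : V4) (x : W) :
    (S.r k : L) • (S.eps f v : L) • x =
      S.np (pair4 (c k) v) • (S.eps f (tApp k v) : L) • (S.r k : L) • x := by
  rw [← mul_smul, ← mul_smul, ← mul_smul, hc, mul_assoc]

/-- The doubled fixed space, with the translations. -/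
noncomputable def normZero {f : V4} {c : Fin 2 → V4}
    (hc : ∀ k v, (S.r k : L) * S.eps f v = S.np (pair4 (c k) v) * S.eps f (tApp k v) * S.r k) :
    Norm (S.W0 × S.W0) where
  two p := Prod.ext (Subtype.ext (S.two _)) (Subtype.ext (S.two _))
  nu :=
    { toFun := fun p => (p.2, p.1 + p.2)
      invFun := fun p => (p.1 + p.2, p.1)
      left_inv := fun p => Prod.ext (Subtype.ext (by
        show (p.2 : W) + ((p.1 : W) + p.2) = p.1
        rw [add_left_comm, S.two, add_zero])) rfl
      right_inv := fun p => Prod.ext rfl (Subtype.ext (by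
        show (p.1 : W) + (p.2 : W) + (p.1 : W) = p.2
        rw [add_comm, ← add_assoc, S.two, zero_add]))
      map_add' := fun p q => Prod.ext rfl (Subtype.ext (by
        show (p.1 : W) + q.1 + (p.2 + q.2) = p.1 + p.2 + (q.1 + q.2)
        abel)) }
  nu_rel p := Prod.ext (Subtype.ext (by
      show (p.1 : W) + p.2 + ((p.1 : W) + p.2) = 0
      exact S.two _)) (Subtype.ext (by
      show (p.2 : W) + ((p.1 : W) + p.2) + ((p.2 : W) + ((p.1 : W) + p.2)) = 0
      exact S.two _))
  act v := (S.restr _ S.W0_inv (S.eps f v)).prodCongr (S.restr _ S.W0_inv (S.eps f v))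
  act_add u v p := by
    rw [eps_add]
    exact Prod.ext (S.restr_mul _ _ _ _ _) (S.restr_mul _ _ _ _ _)
  act_nu v p := Prod.ext rfl ((S.restr _ S.W0_inv (S.eps f v)).map_add p.1 p.2)
  rel k := (S.restr _ S.W0_inv (S.r k)).prodCongr (S.restr _ S.W0_inv (S.r k))
  c := 0
  rel_nu k p := Prod.ext rfl ((S.restr _ S.W0_inv (S.r k)).map_add p.1 p.2)
  rel_act k v p := by
    rw [show pair4 ((0 : Fin 2 → V4) k) v = 0 from pair4_zero_left v]
    refine Prod.ext (Subtype.ext ?_) (Subtype.ext ?_)
    · exact (S.rel_smul hc k v (p.1 : W)).trans (S.np_smul_fixed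
        (S.W0_inv _ (S.eps f _).2 _ (S.W0_inv _ (S.r k).2 _ p.1.2)) _)
    · exact (S.rel_smul hc k v (p.2 : W)).trans (S.np_smul_fixed
        (S.W0_inv _ (S.eps f _).2 _ (S.W0_inv _ (S.r k).2 _ p.2.2)) _)

/-- An invariant subgroup killed by `1 + n + n²`, with the translations. -/
noncomputable def normSub {f : V4} {c : Fin 2 → V4}
    (hc : ∀ k v, (S.r k : L) * S.eps f v = S.np (pair4 (c k) v) * S.eps f (tApp k v) * S.r k)
    (U : AddSubgroup W) (hU : ∀ m ∈ S.M, ∀ x ∈ U, m • x ∈ U)
    (hn : ∀ x ∈ U, x + S.n • x + S.n • S.n • x = 0) : Norm U where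
  two x := Subtype.ext (S.two _)
  nu := S.restr U hU ⟨S.n, S.n_mem⟩
  nu_rel x := Subtype.ext (hn x x.2)
  act v := S.restr U hU (S.eps f v)
  act_add u v x := by rw [eps_add, restr_mul]
  act_nu v x := S.restr_commute U hU _ x
  rel k := S.restr U hU (S.r k)
  c := c
  rel_nu k x := S.restr_commute U hU _ x
  rel_act k v x := by
    refine Subtype.ext ?_
    have hpw : ∀ (a : ZMod 3) (y : U), (((⇑(S.restr U hU ⟨S.n, S.n_mem⟩))^[a.val] y : U) : W) =
        S.np a • (y : W) := by
      intro a y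
      rw [np]
      induction a.val with
      | zero => simp
      | succ j ih => rw [Function.iterate_succ_apply', pow_succ', mul_smul, ← ih]; rfl
    exact (S.rel_smul hc k v (x : W)).trans
      (hpw (pair4 (c k) v) (S.restr U hU (S.eps f (tApp k v)) (S.restr U hU (S.r k) x))).symm

theorem fpf [Finite L] [Finite W] (x : W) : x + S.n • x + S.n • S.n • x = 0 := by
  obtain ⟨f, c, hc0, hc⟩ := S.exists_shift
  haveI := S.M_normal
  -- the translations fix the fixed points of `n`
  have htriv : ∀ v, ∀ y ∈ S.W0, (S.eps f v : L) • y = y := by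
    intro v y hy
    have hcard : Nat.card (S.W0 × S.W0) ≤ 2 ^ 24 := by
      have h : Nat.card S.W0 ≤ 2 ^ 12 := S.card ▸ Nat.card_le_card_of_injective _ Subtype.val_injective
      rw [Nat.card_prod]
      calc _ ≤ 2 ^ 12 * 2 ^ 12 := Nat.mul_le_mul h h
        _ = _ := by norm_num
    have h := (S.normZero hc).act_trivial rfl hcard v (⟨y, hy⟩, 0)
    exact congrArg (fun p : S.W0 × S.W0 => (p.1 : W)) h
  let K : Subgroup S.M :=
    { carrier := {m | ∀ y ∈ S.W0, (m : L) • y = y}
      one_mem' := fun y _ => by simp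
      mul_mem' := fun {a b} ha hb y hy => by rw [Subgroup.coe_mul, mul_smul, hb y hy, ha y hy]
      inv_mem' := fun {a} ha y hy => by
        conv_lhs => rw [← ha y hy]
        rw [Subgroup.coe_inv, inv_smul_smul] }
  have hKn : K.Normal := ⟨fun m hm g y hy => by
    have hg : ((g : L))⁻¹ • y ∈ S.W0 := S.W0_inv _ (inv_mem g.2) y hy
    show ((g * m * g⁻¹ : S.M) : L) • y = y
    rw [Subgroup.coe_mul, Subgroup.coe_mul, Subgroup.coe_inv, mul_smul, mul_smul, hm _ hg, smul_inv_smul]⟩
  have hker : S.θ.ker ≤ K := fun m hm y hy => by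
    obtain ⟨a, ha⟩ := S.exists_np (MonoidHom.mem_ker.1 hm)
    rw [ha]
    exact S.np_smul_fixed hy a
  have hKtop : K = ⊤ := by
    haveI : IsSimpleGroup U43 := Classical.isSimpleGroup_PSU hNine 2 (by norm_num) (by norm_num)
    haveI := hKn.map S.θ S.θ_surj
    rcases Subgroup.Normal.eq_bot_or_eq_top (H := K.map S.θ) inferInstance with h | h
    · exfalso
      have he : S.θ (S.eps f (Pi.single 0 1)) ∈ K.map S.θ := ⟨_, htriv _, rfl⟩
      rw [h, Subgroup.mem_bot, θ_eps] at he
      exact absurd (tauP_eq_one _ he) (by decide)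
    · have h' := congrArg (Subgroup.comap S.θ) h
      rwa [Subgroup.comap_map_eq, Subgroup.comap_top, sup_eq_left.2 hker] at h'
  -- the translations are faithful on the other part
  have hW1 : ∀ y : W, S.n • y + S.n • S.n • y ∈ S.W1 := fun y => by
    show _ = (0 : W)
    simp only [smul_add, n_cube_smul]
    calc S.n • y + S.n • S.n • y + (S.n • S.n • y + y) + (y + S.n • y)
        = (S.n • y + S.n • y) + (S.n • S.n • y + S.n • S.n • y) + (y + y) := by abel
      _ = 0 := by simp [S.two]
  have hW0 : ∀ y : W, y + S.n • y + S.n • S.n • y ∈ S.W0 := fun y => by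
    show S.n • _ = _
    simp only [smul_add, n_cube_smul]
    abel
  obtain ⟨hcard, -⟩ := (S.normSub hc S.W1 S.W1_inv fun y hy => hy).exists_frame hc0
    (S.card ▸ Nat.card_le_card_of_injective _ Subtype.val_injective) (fun v hv => by
      refine tauP_eq_one v ?_
      rw [← θ_eps S f v]
      have hone : S.eps f v = 1 := Subtype.ext (S.faithful _ fun y => by
        have e : y = (y + S.n • y + S.n • S.n • y) + (S.n • y + S.n • S.n • y) := by
          calc y = y + ((S.n • y + S.n • y) + (S.n • S.n • y + S.n • S.n • y)) := by simp [S.two]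
            _ = _ := by abel
        have h0 : S.eps f v ∈ K := hKtop ▸ Subgroup.mem_top _
        rw [e, smul_add, h0 _ (hW0 y)]
        exact congrArg (_ + ·) (congrArg Subtype.val (hv ⟨_, hW1 y⟩)))
      rw [hone, map_one])
  have hbij := (Nat.bijective_iff_injective_and_card (Subtype.val : S.W1 → W)).2
    ⟨Subtype.val_injective, hcard.trans S.card.symm⟩
  obtain ⟨⟨y, hy⟩, rfl⟩ := hbij.2 x
  exact hy

/-- The action on `W` itself. -/
noncomputable def norm {f : V4} {c : Fin 2 → V4}
    (hc : ∀ k v, (S.r k : L) * S.eps f v = S.np (pair4 (c k) v) * S.eps f (tApp k v) * S.r k)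
    (hfpf : ∀ x : W, x + S.n • x + S.n • S.n • x = 0) : Norm W where
  two := S.two
  nu := DistribMulAction.toAddEquiv W S.n
  nu_rel := hfpf
  act v := DistribMulAction.toAddEquiv W (S.eps f v : L)
  act_add u v x := by
    show (S.eps f (u + v) : L) • x = (S.eps f u : L) • (S.eps f v : L) • x
    rw [eps_add, Subgroup.coe_mul, mul_smul]
  act_nu v x := (S.smul_n_comm (S.eps f v).2 x).symm
  rel k := DistribMulAction.toAddEquiv W (S.r k : L)
  c := c
  rel_nu k x := (S.smul_n_comm (S.r k).2 x).symm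
  rel_act k v x := (S.rel_smul hc k v x).trans (iterate_smul S.n _ _).symm

theorem exists_frame [Finite L] [Finite W] :
    ∃ (f : V4) (c : Fin 2 → V4)
      (hc : ∀ k v, (S.r k : L) * S.eps f v = S.np (pair4 (c k) v) * S.eps f (tApp k v) * S.r k)
      (hfpf : ∀ x : W, x + S.n • x + S.n • S.n • x = 0),
      Nonempty (S.norm hc hfpf).Frame := by
  obtain ⟨f, c, hc0, hc⟩ := S.exists_shift
  refine ⟨f, c, hc, S.fpf, ((S.norm hc S.fpf).exists_frame hc0 S.card.le fun v hv => ?_).2⟩
  refine tauP_eq_one v ?_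
  rw [← θ_eps S f v, show S.eps f v = 1 from Subtype.ext (S.faithful _ hv), map_one]

end Setting

end Cfsg.Agent.Lib.FischerType
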