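import Mathlib
import Cfsg.Agent.Lib.FischerType.Module

/-!
Coordinates in the frame of six lines: the diagonal and monomial symmetries, and the form.
-/

set_option autoImplicit false

namespace Cfsg.Agent.Lib.FischerType

/-- The field of order four as a group: `(a, b)` stands for `a + b ν`. -/
abbrev K4 := ZMod 2 × ZMod 2

/-- The space with six coordinates. -/
abbrev W6 := Fin 6 → K4

/-- Multiplication by `ν`. -/
def nuK (p : K4) : K4 := (p.2, p.1 + p.2)

/-- Powers of `ν`. -/
def pwK : ZMod 3 → K4 → K4 := fun j p => nuK^[j.val] p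

theorem pwK_add : ∀ a b : ZMod 3, ∀ p : K4, pwK (a + b) p = pwK a (pwK b p) := by decide +kernel

theorem zmod_two_cases : ∀ a : ZMod 2, a = 0 ∨ a = 1 := by decide

theorem pwK_zero (p : K4) : pwK 0 p = p := rfl

/-- The diagonal map. -/
def dg (c : Fin 6 → ZMod 3) (w : W6) : W6 := fun i => pwK (c i) (w i)

/-- The monomial map. -/
def mono (σ : Equiv.Perm (Fin 6)) (a : Fin 6 → ZMod 3) (w : W6) : W6 :=
  fun j => pwK (a (σ.symm j)) (w (σ.symm j))

theorem mono_mul (σ τ : Equiv.Perm (Fin 6)) (a b : Fin 6 → ZMod 3) (w : W6) :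
    mono σ a (mono τ b w) = mono (σ * τ) (fun i => a (τ i) + b i) w := by
  funext j
  simp only [mono, Equiv.Perm.mul_def, Equiv.symm_trans_apply, Equiv.apply_symm_apply, pwK_add]

theorem mono_one (w : W6) : mono 1 0 w = w := rfl

/-- The number of nonzero coordinates. -/
def wt (w : W6) : ℕ := (Finset.univ.filter fun i => w i ≠ 0).card

/-- A quadratic form of exponent two, invariant under a group. -/
structure Form (L W : Type*) [Group L] [AddCommGroup W] [DistribMulAction L W] where
  q : W → ZMod 2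
  q_zero : q 0 = 0
  B_add : ∀ x y z : W, q (x + y + z) + q (x + y) + q (x + z) + q (y + z) + q x + q y + q z = 0
  nondeg : ∀ x : W, (∀ y, q (x + y) = q x + q y) → x = 0
  inv : ∀ (g : L) (x : W), q (g • x) = q x

namespace Form

variable {L W : Type*} [Group L] [AddCommGroup W] [DistribMulAction L W] (Q : Form L W)

/-- The polar form. -/
def B (x y : W) : ZMod 2 := Q.q (x + y) + Q.q x + Q.q y

theorem B_comm (x y : W) : Q.B x y = Q.B y x := by rw [B, B, add_comm x y]; abel

theorem B_eq_zero_iff (x y : W) : Q.B x y = 0 ↔ Q.q (x + y) = Q.q x + Q.q y := by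
  rw [B]
  generalize Q.q (x + y) = a, Q.q x = b, Q.q y = c
  revert a b c; decide

theorem add_right (x y z : W) : Q.B x (y + z) = Q.B x y + Q.B x z := by
  have h := Q.B_add x y z
  simp only [B, ← add_assoc]
  generalize Q.q (x + y + z) = a, Q.q (x + y) = b, Q.q (x + z) = c, Q.q (y + z) = d, Q.q x = e,
    Q.q y = f, Q.q z = g at h ⊢
  revert a b c d e f g; decide

theorem zero_right (x : W) : Q.B x 0 = 0 := by
  rw [B, add_zero, Q.q_zero, add_zero]; exact CharTwo.add_self_eq_zero _

theorem eq_zero_of_B (x : W) (h : ∀ y, Q.B x y = 0) : x = 0 :=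
  Q.nondeg x fun y => (Q.B_eq_zero_iff x y).1 (h y)

theorem inv_B (g : L) (x y : W) : Q.B (g • x) (g • y) = Q.B x y := by
  rw [B, B, ← smul_add, Q.inv, Q.inv, Q.inv]

/-- The polar form as an additive map in its second argument. -/
def BHom (x : W) : W →+ ZMod 2 := AddMonoidHom.mk' (Q.B x) (Q.add_right x)

end Form

namespace Setting

variable {L W : Type*} [Group L] [AddCommGroup W] [DistribMulAction L W]

/-- Coordinates of `W` adapted to `L` and the form. -/
structure Coord (S : Setting L W) (Q : Form L W) where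
  Ψ : W6 ≃+ W
  nu : ∀ w, Ψ (fun i => nuK (w i)) = S.n • Ψ w
  diag : ∀ c : Fin 6 → ZMod 3, ∑ i, c i = 0 → ∃ g ∈ S.M, ∀ w, g • Ψ w = Ψ (dg c w)
  triple : ∀ a b d : Fin 6, a ≠ b → a ≠ d → b ≠ d → ∃ (σ : Equiv.Perm (Fin 6)) (t : Fin 6 → ZMod 3),
    σ 0 = a ∧ σ 1 = b ∧ σ 2 = d ∧ Equiv.Perm.sign σ = 1 ∧ ∑ i, t i = 0 ∧ ∃ g ∈ S.M, ∀ w, g • Ψ w = Ψ (mono σ t w)
  form : ∀ w, Q.q (Ψ w) = (wt w : ZMod 2)

variable (S : Setting L W)

theorem exists_coord [Finite L] [Finite W] (Q : Form L W) : Nonempty (S.Coord Q) := by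
  classical
  obtain ⟨f, c, hc, hfpf, ⟨F⟩⟩ := S.exists_frame
  set T := S.norm hc hfpf with hT
  have hpw : ∀ (a : ZMod 3) (x : W), T.pw a x = S.np a • x := fun a x => iterate_smul S.n _ x
  have hnu : ∀ x, T.nu x = S.n • x := fun _ => rfl
  -- the elements of a component
  have helts : ∀ i, ∀ x ∈ T.comp (F.O i), x ≠ 0 → ∃ a, x = T.pw a (F.l i) := by
    intro i x hx hx0
    let m : Option (ZMod 3) → T.comp (F.O i) := fun o =>
      o.elim 0 fun a => ⟨T.pw a (F.l i), T.toTrans.pw_mem_comp (F.l_mem i) a⟩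
    have hm : Function.Injective m := by
      rintro (_ | a) (_ | b) h <;> simp only [m, Option.elim, Subtype.ext_iff, AddSubgroup.coe_zero] at h
      · rfl
      · exact absurd (T.toTrans.pw_injective b (h.symm.trans (T.toTrans.pw_map_zero b).symm)) (F.l_ne i)
      · exact absurd (T.toTrans.pw_injective a (h.trans (T.toTrans.pw_map_zero a).symm)) (F.l_ne i)
      · by_contra hne
        refine T.toTrans.pw_ne_self (a := a - b) (F.l_ne i) (fun e => hne (by rw [sub_eq_zero.1 e])) ?_
        apply T.toTrans.pw_injective b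
        rw [← T.toTrans.pw_add, add_sub_cancel, h]
    have hb := (Nat.bijective_iff_injective_and_card m).2 ⟨hm, by
      rw [F.card_comp, Nat.card_eq_fintype_card]; rfl⟩
    obtain ⟨o, ho⟩ := hb.2 ⟨x, hx⟩
    rcases o with _ | a
    · exact absurd (congrArg Subtype.val ho).symm hx0
    · exact ⟨a, (congrArg Subtype.val ho).symm⟩
  -- one coordinate
  let sc : Fin 6 → K4 → W := fun i p => p.1.val • F.l i + p.2.val • T.nu (F.l i)
  have sc_add : ∀ i p p', sc i (p + p') = sc i p + sc i p' := by
    intro i p p'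
    have key : ∀ (a b : ZMod 2) (y : W), (a + b).val • y = a.val • y + b.val • y := by
      intro a b y
      rcases zmod_two_cases a with rfl | rfl <;> rcases zmod_two_cases b with rfl | rfl <;>
        simp [ZMod.val_one, CharTwo.add_self_eq_zero, S.two]
    simp only [sc, Prod.fst_add, Prod.snd_add, key]
    abel
  have sc_nu : ∀ i p, sc i (nuK p) = T.nu (sc i p) := by
    intro i p
    have h2 := T.toTrans.nu_two (F.l i)
    obtain ⟨a, b⟩ := p
    simp only [sc, nuK, map_add, map_nsmul, h2]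
    rcases zmod_two_cases a with rfl | rfl <;> rcases zmod_two_cases b with rfl | rfl <;>
      simp [ZMod.val_one, CharTwo.add_self_eq_zero, S.two]
    rw [add_left_comm, S.two, add_zero]
  have sc_pw : ∀ i p (a : ZMod 3), sc i (pwK a p) = T.pw a (sc i p) := by
    intro i p a
    simp only [pwK, Trans.pw]
    induction a.val with
    | zero => rfl
    | succ j ih => rw [Function.iterate_succ_apply', Function.iterate_succ_apply', sc_nu, ih]
  have sc_mem : ∀ i p, sc i p ∈ T.comp (F.O i) := fun i p =>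
    add_mem (AddSubgroup.nsmul_mem _ (F.l_mem i) _)
      (AddSubgroup.nsmul_mem _ (T.toTrans.pw_mem_comp (F.l_mem i) 1) _)
  have sc_ne : ∀ i p, sc i p = 0 → p = 0 := by
    intro i p hp
    obtain ⟨a, b⟩ := p
    have h3 := T.toTrans.pw_ne_self (F.l_ne i) (show (1 : ZMod 3) ≠ 0 by decide)
    rw [T.toTrans.pw_one] at h3
    have h4 : T.nu (F.l i) ≠ 0 := fun e => F.l_ne i (T.nu.injective (e.trans (map_zero _).symm))
    revert hp
    rcases zmod_two_cases a with rfl | rfl <;> rcases zmod_two_cases b with rfl | rfl <;>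
      simp [sc, ZMod.val_one, F.l_ne i, h4]
    intro e
    exact h3 (T.toTrans.eq_of_add_eq_zero e).symm
  let φ : W6 →+ W := AddMonoidHom.mk' (fun w => ∑ i, sc i (w i)) fun u v => by
    simp only [Pi.add_apply, sc_add, Finset.sum_add_distrib]
  have proj_sum : ∀ (j : Fin 6) (y : Fin 6 → W), (∀ i, y i ∈ T.comp (F.O i)) →
      T.proj (F.O j) (∑ i, y i) = y j := by
    intro j y hy
    have hadd : ∀ a b, T.proj (F.O j) (a + b) = T.proj (F.O j) a + T.proj (F.O j) b := fun a b => by
      simp only [Trans.proj, map_add, T.toTrans.pw_map_add, Finset.sum_add_distrib]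
    rw [show T.proj (F.O j) = ⇑(AddMonoidHom.mk' (T.proj (F.O j)) hadd) from rfl, map_sum]
    simp only [AddMonoidHom.mk'_apply]
    rw [Finset.sum_eq_single j]
    · rw [T.toTrans.proj_of_mem (hy j), if_pos rfl]
    · intro i _ hi
      rw [T.toTrans.proj_of_mem (hy i), if_neg fun e => hi (F.O_inj e).symm]
    · simp
  have hφinj : Function.Injective φ := by
    refine (injective_iff_map_eq_zero φ).2 fun w hw => funext fun j => sc_ne j _ ?_
    have h := proj_sum j (fun i => sc i (w i)) fun i => sc_mem i _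
    rw [show (∑ i, sc i (w i)) = 0 from hw, T.toTrans.proj_of_mem (zero_mem (T.comp (F.O j))), if_pos rfl] at h
    exact h.symm
  have hφ := (Nat.bijective_iff_injective_and_card φ).2 ⟨hφinj, by
    rw [Nat.card_eq_fintype_card, S.card, Fintype.card_fun, Fintype.card_prod, ZMod.card, Fintype.card_fin]
    norm_num⟩
  let Ψ : W6 ≃+ W := AddEquiv.ofBijective φ hφ
  have hΨ : ∀ w, Ψ w = ∑ i, sc i (w i) := fun _ => rfl
  -- the inverses of the elements of order five
  choose a ha using fun k i => helts (F.perm k i) (T.back k (F.l i))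
    (by rw [F.perm_spec]; exact T.back_mem (F.l_mem i))
    (fun e => F.l_ne i (T.back_injective k (e.trans (map_zero _).symm)))
  have hback : ∀ k w, T.back k (Ψ w) = Ψ (mono (F.perm k) (a k) w) := by
    intro k w
    rw [hΨ, hΨ, map_sum]
    refine Fintype.sum_equiv (F.perm k) _ _ fun i => ?_
    simp only [mono, Equiv.symm_apply_apply, sc_pw]
    have hn : ∀ (j : ℕ) (d : ZMod 3) (y : W), T.pw d (j • y) = j • T.pw d y := fun j d y =>
      map_nsmul (T.toTrans.pwHom d) j y
    simp only [sc, map_add, map_nsmul, T.toTrans.pw_map_add, hn]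
    rw [← T.toTrans.pw_one, T.back_pw, ha k i, ← T.toTrans.pw_one, ← T.toTrans.pw_add, ← T.toTrans.pw_add,
      add_comm (1 : ZMod 3) (a k i)]
  have hmono : ∀ k, ∑ i, a k i = 0 ∧ Equiv.Perm.sign (F.perm k) = 1 := by
    intro k
    have hiter : ∀ (j : ℕ) i, (T.back k)^[j] (F.l i) =
        T.pw (∑ m ∈ Finset.range j, a k ((F.perm k ^ m) i)) (F.l ((F.perm k ^ j) i)) := by
      intro j i
      induction j with
      | zero => simp
      | succ j ih =>
        rw [Function.iterate_succ_apply', ih, T.back_pw, ha, ← T.toTrans.pw_add, Finset.sum_range_succ,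
          show (F.perm k ^ (j + 1)) i = F.perm k ((F.perm k ^ j) i) by rw [pow_succ']; rfl]
    have hfive : ∀ i, (T.back k)^[5] (F.l i) = F.l i := by
      intro i
      have h5 : ((S.r k : L))⁻¹ ^ 5 = 1 := by rw [inv_pow, ← Subgroup.coe_pow, r_five, OneMemClass.coe_one, inv_one]
      calc (T.back k)^[5] (F.l i) = ((S.r k : L))⁻¹ ^ 5 • F.l i := iterate_smul _ 5 _
        _ = F.l i := by rw [h5, one_smul]
    have hfix : ∀ i, (F.perm k ^ 5) i = i := by
      intro i
      have h := (hiter 5 i).symm.trans (hfive i)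
      by_contra hne
      have hmem := T.toTrans.pw_mem_comp (F.l_mem ((F.perm k ^ 5) i))
        (∑ m ∈ Finset.range 5, a k ((F.perm k ^ m) i))
      rw [h] at hmem
      have h2 := T.toTrans.proj_of_mem (f := F.O i) hmem
      rw [T.toTrans.proj_of_mem (F.l_mem i), if_pos rfl, if_neg fun e => hne (F.O_inj e).symm] at h2
      exact F.l_ne i h2
    have hz : ∀ i, ∑ m ∈ Finset.range 5, a k ((F.perm k ^ m) i) = 0 := by
      intro i
      have h := (hiter 5 i).symm.trans (hfive i)
      rw [hfix i] at h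
      by_contra hne
      exact T.toTrans.pw_ne_self (F.l_ne i) hne h
    have h5 : ∑ i, ∑ m ∈ Finset.range 5, a k ((F.perm k ^ m) i) = 5 * ∑ i, a k i := by
      rw [Finset.sum_comm, Finset.sum_congr rfl fun m _ => Equiv.sum_comp (F.perm k ^ m) (a k),
        Finset.sum_const, Finset.card_range, nsmul_eq_mul]
      rfl
    rw [Finset.sum_eq_zero fun i _ => hz i] at h5
    constructor
    · generalize ∑ i, a k i = s at h5
      revert s; decide
    · have h := congrArg Equiv.Perm.sign (show F.perm k ^ 5 = 1 from Equiv.ext hfix)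
      rw [map_pow, map_one] at h
      rcases Int.units_eq_one_or (Equiv.Perm.sign (F.perm k)) with e | e
      · exact e
      · rw [e] at h; exact absurd h (by decide)
  -- realised monomial maps
  have hgroup : ∀ σ ∈ Subgroup.closure (Set.range F.perm), ∃ t : Fin 6 → ZMod 3,
      Equiv.Perm.sign σ = 1 ∧ ∑ i, t i = 0 ∧ ∃ g ∈ S.M, ∀ w, g • Ψ w = Ψ (mono σ t w) := by
    intro σ hσ
    induction hσ using Subgroup.closure_induction with
    | mem σ hσ =>
      obtain ⟨k, rfl⟩ := hσ
      exact ⟨a k, (hmono k).2, (hmono k).1, (S.r k : L)⁻¹, inv_mem (S.r k).2, hback k⟩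
    | one => exact ⟨0, map_one _, by simp, 1, one_mem _, fun w => by rw [one_smul, mono_one]⟩
    | mul σ τ _ _ hσ hτ =>
      obtain ⟨s, hsσ, hs, g, hg, hgs⟩ := hσ
      obtain ⟨t, htτ, ht, h, hh, hht⟩ := hτ
      refine ⟨fun i => s (τ i) + t i, by rw [map_mul, hsσ, htτ, one_mul], ?_, g * h, mul_mem hg hh, fun w => by rw [mul_smul, hht, hgs, mono_mul]⟩
      rw [Finset.sum_add_distrib, Equiv.sum_comp τ s, hs, ht, add_zero]
    | inv σ _ hσ =>
      obtain ⟨s, hsσ, hs, g, hg, hgs⟩ := hσ
      refine ⟨fun i => - s (σ⁻¹ i), by rw [map_inv, hsσ, inv_one], ?_, g⁻¹, inv_mem hg, fun w => ?_⟩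
      · rw [Finset.sum_neg_distrib, Equiv.sum_comp σ⁻¹ s, hs, neg_zero]
      · rw [inv_smul_eq_iff, hgs, mono_mul]
        have e1 : σ * σ⁻¹ = 1 := mul_inv_cancel σ
        have e2 : (fun i => s (σ⁻¹ i) + - s (σ⁻¹ i)) = (0 : Fin 6 → ZMod 3) := funext fun i => add_neg_cancel _
        rw [e1, e2, mono_one]
  refine ⟨⟨Ψ, ?_, ?_, ?_, ?_⟩⟩
  · intro w
    rw [hΨ, hΨ, Finset.smul_sum]
    exact Finset.sum_congr rfl fun i _ => sc_nu i (w i)
  · intro e he
    -- every sum-zero vector comes from `Ā`
    let m : ZMod 3 × V4 → (Fin 5 → ZMod 3) := fun u i => u.1 + pair4 (F.O i.castSucc) u.2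
    have htot : ∀ u : ZMod 3 × V4, ∑ i, (u.1 + pair4 (F.O i) u.2) = 0 := fun u => by
      rw [Finset.sum_add_distrib, F.O_sum, Finset.sum_const, Finset.card_univ, Fintype.card_fin, add_zero]
      generalize u.1 = x; revert x; decide
    have hlast : ∀ (x y : Fin 6 → ZMod 3), ∑ i, x i = 0 → ∑ i, y i = 0 →
        (∀ i : Fin 5, x i.castSucc = y i.castSucc) → x = y := by
      intro x y hx hy h
      rw [Fin.sum_univ_castSucc] at hx hy
      rw [Finset.sum_congr rfl fun i _ => h i] at hx
      refine funext fun i => Fin.lastCases ?_ h i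
      exact add_left_cancel (hx.trans hy.symm)
    have hm : Function.Injective m := by
      rintro ⟨x, v⟩ ⟨x', v'⟩ h
      have hall := hlast _ _ (htot (x, v)) (htot (x', v')) (congrFun h)
      have hv : v = v' := by
        refine sub_eq_zero.1 (F.O_eval _ fun i => ?_)
        have h1 := congrFun hall i
        have h2 := congrFun hall 0
        simp only [pair4, Pi.sub_apply] at h1 h2 ⊢
        linear_combination h1 - h2
      subst hv
      exact Prod.ext (add_right_cancel (congrFun hall 0)) rfl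
    have hb := (Fintype.bijective_iff_injective_and_card m).2 ⟨hm, by
      rw [Fintype.card_prod, Fintype.card_fun, Fintype.card_fun, ZMod.card, Fintype.card_fin, Fintype.card_fin]
      norm_num⟩
    obtain ⟨⟨x, v⟩, hxv⟩ := hb.2 (fun i => e i.castSucc)
    have hall := hlast e (fun i => x + pair4 (F.O i) v) he (htot (x, v)) fun i => (congrFun hxv i).symm
    refine ⟨S.np x * (S.eps f v : L), mul_mem (S.np_mem x) (S.eps f v).2, fun w => ?_⟩
    rw [mul_smul, hΨ, hΨ, Finset.smul_sum, Finset.smul_sum]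
    refine Finset.sum_congr rfl fun i _ => ?_
    rw [show dg e w i = pwK (e i) (w i) from rfl, sc_pw, congrFun hall i, T.toTrans.pw_add]
    show S.np x • T.act v (sc i (w i)) = _
    rw [sc_mem i (w i) v, hpw x]
  · intro p q r h1 h2 h3
    obtain ⟨σ, hσ, e0, e1, e2⟩ := F.triples p q r h1 h2 h3
    obtain ⟨t, hsgn, ht, hg⟩ := hgroup σ hσ
    exact ⟨σ, t, e0, e1, e2, hsgn, ht, hg⟩
  · -- the form
    have orth : ∀ i j, i ≠ j → ∀ x ∈ T.comp (F.O i), ∀ y ∈ T.comp (F.O j), Q.B x y = 0 := by
      intro i j hij x hx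
      have hij' : F.O i - F.O j ≠ 0 := sub_ne_zero.2 fun e => hij (F.O_inj e)
      obtain ⟨u, hu, -⟩ := exists_pair_eq_one _ hij'
      have hd : pair4 (F.O i) u = pair4 (F.O j) u + 1 := by
        simp only [pair4, Pi.sub_apply] at hu ⊢
        linear_combination hu
      have h1 : ∀ y ∈ T.comp (F.O j), Q.B x y = Q.B x (T.pw 2 y) := by
        intro y hy
        have hh : Q.B ((T.act u) x) ((T.act u) y) = Q.B x y := Q.inv_B (S.eps f u : L) x y
        rw [hx u, hy u, hd, hpw, hpw, S.np_add, mul_smul, Q.inv_B] at hh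
        rw [← hh, hpw]
        conv_lhs => rw [show y = S.np 1 • S.np 2 • y by
          rw [← mul_smul, ← S.np_add, show (1 : ZMod 3) + 2 = 0 by decide, np_zero, one_smul]]
        exact Q.inv_B _ _ _
      intro y hy
      -- `1 + ν²` is onto, with inverse `ν²`
      have hy2 : y = T.pw 2 y + T.pw 2 (T.pw 2 y) := by
        rw [← T.toTrans.pw_add, show (2 : ZMod 3) + 2 = 1 by decide, T.toTrans.pw_one, T.toTrans.pw_two,
          T.toTrans.nu_two, add_assoc, S.two, add_zero]
      rw [hy2, Q.add_right, ← h1 _ (T.toTrans.pw_mem_comp hy 2)]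
      exact CharTwo.add_self_eq_zero _
    have Bsum : ∀ (x : W) (y : Fin 6 → W) (s : Finset (Fin 6)), Q.B x (∑ i ∈ s, y i) = ∑ i ∈ s, Q.B x (y i) :=
      fun x y s => map_sum (Q.BHom x) y s
    have hsplit : ∀ (w : W6) (s : Finset (Fin 6)),
        Q.q (∑ i ∈ s, sc i (w i)) = ∑ i ∈ s, Q.q (sc i (w i)) := by
      intro w s
      induction s using Finset.induction_on with
      | empty => simp [Q.q_zero]
      | insert i s his ih =>
        rw [Finset.sum_insert his, Finset.sum_insert his, ← ih]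
        refine (Q.B_eq_zero_iff _ _).1 ?_
        rw [Bsum]
        exact Finset.sum_eq_zero fun j hj => orth i j (fun e => his (e ▸ hj)) _ (sc_mem i _) _ (sc_mem j _)
    have hl : ∀ i b, Q.q (T.pw b (F.l i)) = 1 := by
      intro i b
      rw [hpw, Q.inv]
      by_contra h0
      have hq : Q.q (F.l i) = 0 := by generalize Q.q (F.l i) = z at h0 ⊢; revert z; decide
      have hall : ∀ x ∈ T.comp (F.O i), Q.q x = 0 := by
        intro x hx
        rcases eq_or_ne x 0 with rfl | hx0
        · exact Q.q_zero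
        · obtain ⟨d, rfl⟩ := helts i x hx hx0
          rw [hpw, Q.inv, hq]
      refine F.l_ne i (Q.eq_zero_of_B _ fun y => ?_)
      obtain ⟨w, rfl⟩ := Ψ.surjective y
      rw [hΨ, Bsum]
      refine Finset.sum_eq_zero fun j _ => ?_
      rcases eq_or_ne i j with rfl | hij
      · rw [Form.B, hall _ (F.l_mem i), hall _ (sc_mem i _), hall _ (add_mem (F.l_mem i) (sc_mem i _))]
        simp
      · exact orth i j hij _ (F.l_mem i) _ (sc_mem j _)
    intro w
    rw [hΨ, hsplit, wt, Finset.natCast_card_filter]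
    refine Finset.sum_congr rfl fun i _ => ?_
    rcases eq_or_ne (w i) 0 with h | h
    · simp [h, sc, Q.q_zero]
    · rw [if_pos h]
      obtain ⟨b, hb⟩ := helts i _ (sc_mem i (w i)) (fun e => h (sc_ne i _ e))
      rw [hb, hl]

end Setting

end Cfsg.Agent.Lib.FischerType
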