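import Mathlib
import Cfsg.Agent.Lib.FischerType.Coords

/-!
An element of order seven without fixed points on `W`.
-/

set_option autoImplicit false

namespace Cfsg.Agent.Lib.FischerType

open Cfsg.Agent.Lib.UThreeThree (Nine)

/-- The sign of a value. -/
def sign2 (z : ZMod 2) : ℤ := if z = 0 then 1 else -1

theorem sign2_add : ∀ a b : ZMod 2, sign2 (a + b) = sign2 a * sign2 b := by decide

namespace Form

variable {L W : Type*} [Group L] [AddCommGroup W] [DistribMulAction L W] (Q : Form L W)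

theorem gauss_sq [Fintype W] (two : ∀ x : W, x + x = 0) (U : AddSubgroup W) [Fintype U]
    (hU : ∀ x ∈ U, (∀ y ∈ U, Q.B x y = 0) → x = 0) :
    (∑ x : U, sign2 (Q.q (x : W))) ^ 2 = (Fintype.card U : ℤ) := by
  classical
  have key : ∀ h : U, ∑ x : U, sign2 (Q.B (h : W) (x : W)) = if h = 0 then (Fintype.card U : ℤ) else 0 := by
    intro h
    split_ifs with h0
    · subst h0
      have h1 : ∀ x : U, sign2 (Q.B ((0 : U) : W) (x : W)) = 1 := fun x => by
        rw [Q.B_comm, AddSubgroup.coe_zero, Q.zero_right]; rfl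
      rw [Finset.sum_congr rfl fun x _ => h1 x]
      simp
    · obtain ⟨y, hy, hBy⟩ : ∃ y ∈ U, Q.B (h : W) y ≠ 0 := by
        by_contra hno
        push Not at hno
        exact h0 (Subtype.ext (hU _ h.2 hno))
      have hB1 : Q.B (h : W) y = 1 := by generalize Q.B (h : W) y = z at hBy ⊢; revert z; decide
      set s := ∑ x : U, sign2 (Q.B (h : W) (x : W)) with hs
      have hneg : -s = s := by
        rw [hs, ← Finset.sum_neg_distrib]
        refine Fintype.sum_equiv (Equiv.addLeft ⟨y, hy⟩) _ _ fun x => ?_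
        show _ = sign2 (Q.B (h : W) (y + (x : W)))
        rw [Q.add_right, sign2_add, hB1, show sign2 1 = -1 from rfl, neg_one_mul]
      omega
  rw [pow_two, Finset.sum_mul_sum]
  have hsplit : ∀ x h : U, sign2 (Q.q (x : W)) * sign2 (Q.q ((x + h : U) : W)) =
      sign2 (Q.q (h : W)) * sign2 (Q.B (h : W) (x : W)) := by
    intro x h
    rw [← sign2_add, ← sign2_add, Form.B, AddSubgroup.coe_add, add_comm (h : W)]
    congr 1
    generalize Q.q (x : W) = a, Q.q ((x : W) + h) = b, Q.q (h : W) = d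
    revert a b d; decide
  calc ∑ x : U, ∑ y : U, sign2 (Q.q (x : W)) * sign2 (Q.q (y : W))
      = ∑ x : U, ∑ h : U, sign2 (Q.q (h : W)) * sign2 (Q.B (h : W) (x : W)) := by
        refine Finset.sum_congr rfl fun x _ => ?_
        rw [← Equiv.sum_comp (Equiv.addLeft x)]
        exact Finset.sum_congr rfl fun h _ => hsplit x h
    _ = ∑ h : U, sign2 (Q.q (h : W)) * ∑ x : U, sign2 (Q.B (h : W) (x : W)) := by
        rw [Finset.sum_comm]
        exact Finset.sum_congr rfl fun h _ => (Finset.mul_sum _ _ _).symm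
    _ = _ := by
        simp only [key, mul_ite, mul_zero, Finset.sum_ite_eq', Finset.mem_univ, if_true, AddSubgroup.coe_zero,
          Q.q_zero]
        simp [sign2]

end Form

namespace Setting

variable {L W : Type*} [Group L] [AddCommGroup W] [DistribMulAction L W] (S : Setting L W)

/-- The count of fixed points modulo a prime. -/
theorem modEq_one {X : Type*} [Finite X] {p : ℕ} [Fact p.Prime] (g : Equiv.Perm X) (hg : g ^ p = 1)
    (hne : g ≠ 1) (x0 : X) (h0 : ∀ x, g x = x ↔ x = x0) : Nat.card X ≡ 1 [MOD p] := by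
  have hz : IsPGroup p (Subgroup.zpowers g) := IsPGroup.of_card (n := 1) (by
    rw [Nat.card_zpowers, orderOf_eq_prime hg hne, pow_one])
  have h := hz.card_modEq_card_fixedPoints X
  have hfix : MulAction.fixedPoints (Subgroup.zpowers g) X = {x0} := by
    ext x
    constructor
    · intro hx
      exact (h0 x).1 (hx ⟨g, Subgroup.mem_zpowers g⟩)
    · rintro rfl ⟨m, hm⟩
      obtain ⟨i, rfl⟩ := Subgroup.mem_zpowers_iff.1 hm
      exact Equiv.Perm.zpow_apply_eq_self_of_apply_eq_self ((h0 x).2 rfl) i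
  rwa [hfix, Nat.card_coe_set_eq, Set.ncard_singleton] at h

theorem exists_seven [Finite L] [Finite W] (Q : Form L W) (hfpf : ∀ x : W, x + S.n • x + S.n • S.n • x = 0) :
    ∃ g ∈ S.M, g ^ 7 = 1 ∧ ∀ x : W, g • x = x → x = 0 := by
  classical
  haveI : Fintype W := Fintype.ofFinite W
  haveI : Fact (Nat.Prime 7) := ⟨by norm_num⟩
  haveI : Fact (Nat.Prime 3) := ⟨by norm_num⟩
  have hU43 : 7 ∣ Nat.card U43 := by
    have h := Classical.natCard_PSU (F := Nine) (q := 3) hNine 4 (by norm_num)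
    norm_num [Finset.prod_range_succ, Nat.even_iff] at h
    rw [Nat.card_eq_fintype_card]
    exact ⟨466560, show Fintype.card (Cfsg.PSU 4 Nine 3) = 7 * 466560 by omega⟩
  obtain ⟨m, hm⟩ := exists_prime_orderOf_dvd_card' 7
    (hU43.trans (Subgroup.card_dvd_of_surjective S.θ S.θ_surj))
  set g : L := (m : L) with hgdef
  have hgord : orderOf g = 7 := by rw [hgdef, Subgroup.orderOf_coe, hm]
  have hg7 : g ^ 7 = 1 := hgord ▸ pow_orderOf_eq_one g
  refine ⟨g, m.2, hg7, ?_⟩
  have it7 : ∀ x : W, g • g • g • g • g • g • g • x = x := fun x => by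
    simp only [← mul_smul]
    rw [show g * (g * (g * (g * (g * (g * g))))) = g ^ 7 by simp only [pow_succ', pow_zero, mul_one], hg7, one_smul]
  let d : W →+ W := AddMonoidHom.mk' (fun x => x + g • x) fun x y => by rw [smul_add]; abel
  set U := d.range with hUdef
  haveI : Fintype U := Fintype.ofFinite U
  have hg_U : ∀ u ∈ U, g • u ∈ U := by
    rintro _ ⟨x, rfl⟩
    exact ⟨g • x, (smul_add g x (g • x)).symm⟩
  have hn_U : ∀ u ∈ U, S.n • u ∈ U := by
    rintro _ ⟨x, rfl⟩
    refine ⟨S.n • x, ?_⟩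
    show S.n • x + g • S.n • x = S.n • (x + g • x)
    rw [smul_add, S.smul_n_comm m.2]
  -- the splitting into fixed points and `U`
  have hfixU : ∀ u ∈ U, g • u = u → u = 0 := by
    rintro _ ⟨x, rfl⟩ h
    have h' : g • (x + g • x) = x + g • x := h
    have e2 : g • g • x = x := by
      rw [smul_add] at h'
      calc g • g • x = g • x + g • g • x + g • x := by rw [add_comm, ← add_assoc, S.two, zero_add]
        _ = x + g • x + g • x := by rw [h']
        _ = x := by rw [add_assoc, S.two, add_zero]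
    have hx7 := it7 x
    simp only [e2] at hx7
    show x + g • x = 0
    rw [hx7, S.two]
  have hdec : ∀ x : W, ∃ c, g • c = c ∧ x + c ∈ U := by
    intro x
    refine ⟨x + g • x + g • g • x + g • g • g • x + g • g • g • g • x + g • g • g • g • g • x +
      g • g • g • g • g • g • x, ?_, g • (x + g • g • x + g • g • g • g • x), ?_⟩
    · simp only [smul_add, it7]; abel
    · show g • (x + g • g • x + g • g • g • g • x) + g • g • (x + g • g • x + g • g • g • g • x) = _
      simp only [smul_add]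
      generalize g • g • g • g • g • g • x = a6
      generalize g • g • g • g • g • x = a5
      generalize g • g • g • g • x = a4
      generalize g • g • g • x = a3
      generalize g • g • x = a2
      generalize g • x = a1
      symm
      calc x + (x + a1 + a2 + a3 + a4 + a5 + a6) = (x + x) + (a1 + a3 + a5 + (a2 + a4 + a6)) := by abel
        _ = a1 + a3 + a5 + (a2 + a4 + a6) := by rw [S.two, zero_add]
  have horth : ∀ c, g • c = c → ∀ u ∈ U, Q.B c u = 0 := by
    rintro c hc _ ⟨x, rfl⟩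
    show Q.B c (x + g • x) = 0
    have h := Q.inv_B g c x
    rw [hc] at h
    rw [Q.add_right, h]
    exact CharTwo.add_self_eq_zero _
  have hnd : ∀ x ∈ U, (∀ y ∈ U, Q.B x y = 0) → x = 0 := by
    intro u hu hall
    refine Q.eq_zero_of_B u fun y => ?_
    obtain ⟨c, hc, hyc⟩ := hdec y
    have e : y = c + (y + c) := by rw [add_left_comm, S.two, add_zero]
    rw [e, Q.add_right, hall _ hyc, add_zero, Q.B_comm, horth c hc u hu]
  -- the restrictions to `U`
  have hginv : g⁻¹ = g ^ 6 := inv_eq_of_mul_eq_one_right (by rw [← pow_succ', hg7])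
  have hginvU : ∀ u ∈ U, g⁻¹ • u ∈ U := fun u hu => by
    rw [hginv, ← iterate_smul g 6 u]
    exact hg_U _ (hg_U _ (hg_U _ (hg_U _ (hg_U _ (hg_U u hu)))))
  have hninvU : ∀ u ∈ U, S.n⁻¹ • u ∈ U := fun u hu => by
    rw [show S.n⁻¹ = S.n ^ 2 from inv_eq_of_mul_eq_one_right (by rw [← pow_succ', S.n_cube]), ← iterate_smul S.n 2 u]
    exact hn_U _ (hn_U u hu)
  have mkperm : ∀ (h : L) (p : W → Prop) (hp : ∀ u, p u → p (h • u)) (hp' : ∀ u, p u → p (h⁻¹ • u)) (k : ℕ),
      h ^ k = 1 → ∃ π : Equiv.Perm {u : W // p u}, π ^ k = 1 ∧ ∀ u, (π u : W) = h • (u : W) := by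
    intro h p hp hp' k hk
    let π : Equiv.Perm {u : W // p u} :=
      ⟨fun u => ⟨h • (u : W), hp _ u.2⟩, fun u => ⟨h⁻¹ • (u : W), hp' _ u.2⟩,
        fun u => Subtype.ext (inv_smul_smul _ _), fun u => Subtype.ext (smul_inv_smul _ _)⟩
    refine ⟨π, Equiv.ext fun u => Subtype.ext ?_, fun _ => rfl⟩
    have hit : ∀ j : ℕ, ((π ^ j) u : W) = h ^ j • (u : W) := by
      intro j
      induction j with
      | zero => simp
      | succ j ih => rw [pow_succ', pow_succ', mul_smul, ← ih]; rfl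
    rw [hit, hk, one_smul]; rfl
  have hnfix : ∀ u : W, S.n • u = u → u = 0 := fun u hu => by
    have := hfpf u
    rwa [hu, hu, S.two, zero_add] at this
  have hUne : U ≠ ⊥ := by
    intro h
    have : g = 1 := S.faithful g fun x => by
      have hx : x + g • x ∈ U := ⟨x, rfl⟩
      rw [h, AddSubgroup.mem_bot] at hx
      exact (eq_of_sub_eq_zero (by rw [sub_eq_add_neg, neg_eq_of_add_eq_zero_left (S.two x)]; rwa [add_comm] at hx))
    rw [this, orderOf_one] at hgord
    norm_num at hgord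
  obtain ⟨u0, hu0, hu0'⟩ := U.bot_or_exists_ne_zero.resolve_left hUne
  -- congruences
  have cong : ∀ (p : W → Prop), (∀ u, p u → u ∈ U) → p 0 → (∀ h : L, (h = g ∨ h = g⁻¹ ∨ h = S.n ∨ h = S.n⁻¹) → ∀ u, p u → p (h • u)) →
      Nat.card {u : W // p u} ≡ 1 [MOD 21] := by
    intro p hpU hp0 hp
    by_cases htriv : ∀ u, p u → u = 0
    · have : Nat.card {u : W // p u} = 1 := by
        rw [Nat.card_eq_one_iff_exists]
        exact ⟨⟨0, hp0⟩, fun u => Subtype.ext (htriv _ u.2)⟩
      rw [this]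
    push Not at htriv
    obtain ⟨u1, hu1, hu1'⟩ := htriv
    obtain ⟨π, hπ, hπa⟩ := mkperm g p (hp g (Or.inl rfl)) (hp g⁻¹ (Or.inr (Or.inl rfl))) 7 hg7
    obtain ⟨ρ, hρ, hρa⟩ := mkperm S.n p (hp S.n (Or.inr (Or.inr (Or.inl rfl))))
      (hp S.n⁻¹ (Or.inr (Or.inr (Or.inr rfl)))) 3 S.n_cube
    have h7 := modEq_one π hπ (fun e => hu1' (hfixU _ (hpU _ hu1) (by
        rw [← hπa ⟨u1, hu1⟩, e]; rfl))) ⟨0, hp0⟩ fun u => ⟨fun e => Subtype.ext (hfixU _ (hpU _ u.2) (by
        rw [← hπa u, e])), fun e => by subst e; exact Subtype.ext ((hπa _).trans (smul_zero g))⟩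
    have h3 := modEq_one ρ hρ (fun e => hu1' (hnfix _ (by rw [← hρa ⟨u1, hu1⟩, e]; rfl))) ⟨0, hp0⟩
      fun u => ⟨fun e => Subtype.ext (hnfix _ (by rw [← hρa u, e])),
        fun e => by subst e; exact Subtype.ext ((hρa _).trans (smul_zero S.n))⟩
    exact (Nat.modEq_and_modEq_iff_modEq_mul (by norm_num : Nat.Coprime 3 7)).1 ⟨h3, h7⟩
  have hclosed : ∀ h : L, (h = g ∨ h = g⁻¹ ∨ h = S.n ∨ h = S.n⁻¹) → ∀ u ∈ U, h • u ∈ U := by
    rintro h (rfl | rfl | rfl | rfl)
    exacts [hg_U, hginvU, hn_U, hninvU]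
  have hcU := cong (· ∈ U) (fun _ h => h) (zero_mem U) hclosed
  have hc0 := cong (fun u => u ∈ U ∧ Q.q u = 0) (fun _ h => h.1) ⟨zero_mem U, Q.q_zero⟩
    (fun h hh u hu => ⟨hclosed h hh u hu.1, by rw [Q.inv]; exact hu.2⟩)
  -- the order of `U`
  have hpow : ∃ k ≤ 12, Nat.card U = 2 ^ k := (Nat.dvd_prime_pow Nat.prime_two).1 (S.card ▸ U.card_addSubgroup_dvd_card)
  obtain ⟨k, hk12, hk⟩ := hpow
  have hUgt : 1 < Nat.card U := Finite.one_lt_card_iff_nontrivial.2
    ⟨⟨⟨u0, hu0⟩, 0, fun e => hu0' (congrArg Subtype.val e)⟩⟩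
  change Nat.card U ≡ 1 [MOD 21] at hcU
  have hgauss := Q.gauss_sq S.two U hnd
  rw [← Nat.card_eq_fintype_card, hk] at hgauss
  rw [hk, Nat.ModEq] at hcU
  rw [hk] at hUgt
  have hsum : ∑ x : U, sign2 (Q.q (x : W)) =
      2 * ((Finset.univ.filter fun x : U => Q.q (x : W) = 0).card : ℤ) - (2 ^ k : ℕ) := by
    rw [Finset.card_filter, Nat.cast_sum, Finset.mul_sum]
    have hcard : ((2 ^ k : ℕ) : ℤ) = ∑ _x : U, (1 : ℤ) := by
      rw [Finset.sum_const, Finset.card_univ, ← Nat.card_eq_fintype_card, hk]; simp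
    rw [hcard, ← Finset.sum_sub_distrib]
    refine Finset.sum_congr rfl fun x _ => ?_
    unfold sign2
    split_ifs <;> simp
  have hN0 : (Finset.univ.filter fun x : U => Q.q (x : W) = 0).card = Nat.card {u : W // u ∈ U ∧ Q.q u = 0} := by
    rw [← Fintype.card_subtype, ← Nat.card_eq_fintype_card]
    exact Nat.card_congr ⟨fun x => ⟨x.1.1, x.1.2, x.2⟩, fun u => ⟨⟨u.1, u.2.1⟩, u.2.2⟩, fun _ => rfl, fun _ => rfl⟩
  rw [← hN0, Nat.ModEq] at hc0
  have hle : (Finset.univ.filter fun x : U => Q.q (x : W) = 0).card ≤ 2 ^ k := by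
    rw [← hk, Nat.card_eq_fintype_card]; exact Finset.card_le_univ _
  generalize (Finset.univ.filter fun x : U => Q.q (x : W) = 0).card = N at hsum hle hc0
  rw [hsum] at hgauss
  have hk' : k = 6 ∨ k = 12 := by
    interval_cases k <;> first | exact Or.inl rfl | exact Or.inr rfl | omega
  rcases hk' with rfl | rfl
  · exfalso
    norm_num at hgauss hle hc0
    have : ((2 * (N : ℤ) - 64) - 8) * ((2 * (N : ℤ) - 64) + 8) = 0 := by linear_combination hgauss
    rcases mul_eq_zero.1 this with h | h <;> omega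
  · have htop : ∀ x : W, x ∈ U := by
      have hb := (Nat.bijective_iff_injective_and_card (Subtype.val : U → W)).2
        ⟨Subtype.val_injective, hk.trans S.card.symm⟩
      intro x
      obtain ⟨y, rfl⟩ := hb.2 x
      exact y.2
    exact fun x hx => hfixU x (htop x) hx

end Setting

end Cfsg.Agent.Lib.FischerType
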