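import Mathlib
import Cfsg.Agent.Lib.FischerType.Seven

/-!
Exactly two orbits on the singular vectors, of sizes 378 and 1701.
-/

set_option autoImplicit false

namespace Cfsg.Agent.Lib.FischerType

/-- The exponent of a nonzero element of `K4`. -/
def lg (p : K4) : ZMod 3 := if p = (0, 1) then 1 else if p = (1, 1) then 2 else 0

/-- Five representatives of singular vectors. -/
def repW : Fin 5 → W6 :=
  ![![(1, 0), (1, 0), 0, 0, 0, 0], ![0, 0, (1, 0), (1, 0), (1, 0), (1, 0)],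
    ![(1, 0), (1, 0), (1, 0), (1, 0), (1, 0), (1, 0)], ![(1, 0), (1, 0), (1, 0), (1, 0), (1, 0), (0, 1)],
    ![(1, 0), (1, 0), (1, 0), (1, 0), (1, 0), (1, 1)]]

/-- The block of a singular vector. -/
def blk (w : W6) : Fin 5 :=
  if wt w = 2 then 0 else if wt w = 4 then 1 else ![2, 3, 4] (∑ i, lg (w i))

/-- A nonzero singular vector. -/
def Sing (w : W6) : Prop := w ≠ 0 ∧ wt w % 2 = 0

instance : DecidablePred Sing := fun w => inferInstanceAs (Decidable (w ≠ 0 ∧ wt w % 2 = 0))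

/-- The sizes of the blocks. -/
def bsize : Fin 5 → ℕ := ![135, 1215, 243, 243, 243]

theorem card_block : ∀ k : Fin 5, (Finset.univ.filter fun w : W6 => Sing w ∧ blk w = k).card = bsize k := by
  decide +kernel

theorem rep_sing : ∀ k, Sing (repW k) ∧ blk (repW k) = k := by decide +kernel

theorem orbit_options : ∀ P : Finset (Fin 5), P.Nonempty → (∑ k ∈ P, bsize k) % 7 = 0 →
    19595520 % (∑ k ∈ P, bsize k) = 0 →
      ((0 : Fin 5) ∈ P ∧ (1 : Fin 5) ∉ P ∧ P.card = 2) ∨ ((0 : Fin 5) ∉ P ∧ (1 : Fin 5) ∈ P ∧ P.card = 3) := by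
  decide +kernel

theorem pwK_lg : ∀ p : K4, p ≠ 0 → pwK (lg p) (1, 0) = p := by decide +kernel

theorem pwK_eq_zero : ∀ (a : ZMod 3) (p : K4), pwK a p = 0 ↔ p = 0 := by decide +kernel

theorem lg_pwK : ∀ (a : ZMod 3) (p : K4), p ≠ 0 → lg (pwK a p) = a + lg p := by decide +kernel

theorem pwK_lg_sub : ∀ p p' : K4, p ≠ 0 → p' ≠ 0 → pwK (lg p' - lg p) p = p' := by decide +kernel

theorem wt_le (w : W6) : wt w ≤ 6 := (Finset.card_le_univ _).trans (by simp)

theorem wt_sing {w : W6} (hw : Sing w) : wt w = 2 ∨ wt w = 4 ∨ wt w = 6 := by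
  have h0 : wt w ≠ 0 := by
    intro h
    refine hw.1 (funext fun i => ?_)
    by_contra hi
    rw [wt, Finset.card_eq_zero] at h
    have : i ∈ Finset.univ.filter fun i => w i ≠ 0 := Finset.mem_filter.2 ⟨Finset.mem_univ i, hi⟩
    rw [h] at this
    simp at this
  have := wt_le w
  have := hw.2
  omega

/-- Two vectors with the same support, and the same class when the support is full, differ by a diagonal map. -/
theorem exists_dg {u w : W6} (hsupp : ∀ i, u i = 0 ↔ w i = 0)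
    (hcls : (∀ i, u i ≠ 0) → ∑ i, lg (u i) = ∑ i, lg (w i)) :
    ∃ c : Fin 6 → ZMod 3, ∑ i, c i = 0 ∧ dg c u = w := by
  have key : ∀ i, pwK (lg (w i) - lg (u i)) (u i) = w i := by
    intro i
    by_cases hi : u i = 0
    · rw [hi, (pwK_eq_zero _ _).2 rfl, (hsupp i).1 hi]
    · exact pwK_lg_sub _ _ hi fun e => hi ((hsupp i).2 e)
  by_cases hfull : ∀ i, u i ≠ 0
  · exact ⟨fun i => lg (w i) - lg (u i), by rw [Finset.sum_sub_distrib, hcls hfull, sub_self], funext key⟩
  · push Not at hfull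
    obtain ⟨d, hd⟩ := hfull
    let e : Fin 6 → ZMod 3 := fun i => lg (w i) - lg (u i)
    refine ⟨Function.update e d (e d - ∑ i, e i), ?_, funext fun i => ?_⟩
    · rw [Finset.sum_update_of_mem (Finset.mem_univ d),
        ← Finset.sum_sdiff (Finset.subset_univ {d}) (f := e), Finset.sum_singleton]
      ring
    · show pwK _ _ = _
      rcases eq_or_ne i d with rfl | hi
      · rw [hd, (pwK_eq_zero _ _).2 rfl, (hsupp i).1 hd]
      · rw [Function.update_of_ne hi]; exact key i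

namespace Setting

variable {L W : Type*} [Group L] [AddCommGroup W] [DistribMulAction L W] {S : Setting L W} {Q : Form L W}
  (K : S.Coord Q)

/-- Every singular vector is the image of the representative of its block. -/
theorem Coord.exists_move {w : W6} (hw : Sing w) :
    ∃ g ∈ S.M, g • K.Ψ (repW (blk w)) = K.Ψ w := by
  classical
  have finish : ∀ (σ : Equiv.Perm (Fin 6)) (t : Fin 6 → ZMod 3), (∃ g ∈ S.M, ∀ v, g • K.Ψ v = K.Ψ (mono σ t v)) →
      (∀ i, mono σ t (repW (blk w)) i = 0 ↔ w i = 0) →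
      ((∀ i, mono σ t (repW (blk w)) i ≠ 0) → ∑ i, lg (mono σ t (repW (blk w)) i) = ∑ i, lg (w i)) →
      ∃ g ∈ S.M, g • K.Ψ (repW (blk w)) = K.Ψ w := by
    rintro σ t ⟨g, hg, hgv⟩ h1 h2
    obtain ⟨c, hc, hcw⟩ := exists_dg h1 h2
    obtain ⟨h, hh, hhv⟩ := K.diag c hc
    exact ⟨h * g, mul_mem hh hg, by rw [mul_smul, hgv, hhv, hcw]⟩
  have third : ∀ i j : Fin 6, ∃ d, i ≠ d ∧ j ≠ d := by decide
  rcases wt_sing hw with h | h | h
  · obtain ⟨i, j, hij, hset⟩ := Finset.card_eq_two.1 h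
    obtain ⟨d, hid, hjd⟩ := third i j
    obtain ⟨σ, t, h0, h1, -, -, -, hg⟩ := K.triple i j d hij hid hjd
    have hb : blk w = 0 := by rw [blk, if_pos h]
    have hsup : ∀ m, w m ≠ 0 ↔ m = i ∨ m = j := fun m => by
      have := congrArg (m ∈ ·) hset
      simpa using this
    refine finish σ t hg (fun m => ?_) fun hall => ?_
    · have hw' : w m = 0 ↔ ¬ (m = i ∨ m = j) := by rw [← hsup]; tauto
      rw [hw', mono, pwK_eq_zero, hb, ← h0, ← h1, ← σ.symm_apply_eq, ← σ.symm_apply_eq]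
      generalize σ.symm m = p
      revert p; decide
    · exfalso
      have h' := hall (σ 2)
      rw [mono, hb, Equiv.symm_apply_apply] at h'
      exact h' ((pwK_eq_zero _ _).2 rfl)
  · have h' : (Finset.univ.filter fun m => w m = 0).card = 2 := by
      have := Finset.card_filter_add_card_filter_not (s := (Finset.univ : Finset (Fin 6))) (fun m => w m ≠ 0)
      simp only [not_not, Finset.card_univ, Fintype.card_fin] at this
      rw [show (Finset.univ.filter fun m => w m ≠ 0).card = 4 from h] at this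
      omega
    obtain ⟨i, j, hij, hset⟩ := Finset.card_eq_two.1 h'
    obtain ⟨d, hid, hjd⟩ := third i j
    obtain ⟨σ, t, h0, h1, -, -, -, hg⟩ := K.triple i j d hij hid hjd
    have hb : blk w = 1 := by rw [blk, if_neg (by omega), if_pos h]
    have hsup : ∀ m, w m = 0 ↔ m = i ∨ m = j := fun m => by
      have := congrArg (m ∈ ·) hset
      simpa using this
    refine finish σ t hg (fun m => ?_) fun hall => ?_
    · rw [hsup, mono, pwK_eq_zero, hb, ← h0, ← h1, ← σ.symm_apply_eq, ← σ.symm_apply_eq]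
      generalize σ.symm m = p
      revert p; decide
    · exfalso
      have h' := hall (σ 0)
      rw [mono, hb, Equiv.symm_apply_apply] at h'
      exact h' ((pwK_eq_zero _ _).2 rfl)
  · have hfull : ∀ m, w m ≠ 0 := by
      intro m hm
      have hne : (Finset.univ.filter fun m => w m ≠ 0) = Finset.univ :=
        Finset.eq_univ_of_card _ (by rw [show (Finset.univ.filter fun m => w m ≠ 0).card = 6 from h]; simp)
      have := hne ▸ Finset.mem_univ m
      exact (Finset.mem_filter.1 this).2 hm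
    obtain ⟨g, hg, hgv⟩ := K.diag 0 (by simp)
    have hb : blk w = ![2, 3, 4] (∑ i, lg (w i)) := by rw [blk, if_neg (by omega), if_neg (by omega)]
    have h6 : ∀ (x : ZMod 3) (m : Fin 6), repW (![2, 3, 4] x) m ≠ 0 ∧
        ∑ i, lg (repW (![2, 3, 4] x) i) = x := by decide +kernel
    refine finish 1 0 ⟨g, hg, fun v => hgv v⟩ (fun m => ?_) fun _ => ?_
    · rw [mono_one, hb]
      exact ⟨fun e => absurd e (h6 _ m).1, fun e => absurd e (hfull m)⟩
    · simp only [mono_one, hb]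
      exact (h6 _ 0).2

/-- The orbit data: a small orbit of 378 vectors and a large one of 1701. -/
theorem Coord.two_orbits [Finite L] [Finite W] (hL : Nat.card L = 19595520) :
    ∃ k : Fin 5, 2 ≤ k ∧
      (∀ w, Sing w → ((∃ g : L, g • K.Ψ (repW 0) = K.Ψ w) ↔ (blk w = 0 ∨ blk w = k))) ∧
      (∀ w, Sing w → ((∃ g : L, g • K.Ψ (repW 1) = K.Ψ w) ↔ ¬ (blk w = 0 ∨ blk w = k))) ∧
      Nat.card (MulAction.orbit L (K.Ψ (repW 0))) = 378 ∧
      Nat.card (MulAction.orbit L (K.Ψ (repW 1))) = 1701 := by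
  classical
  haveI : Fact (Nat.Prime 7) := ⟨by norm_num⟩
  let P : Fin 5 → Finset (Fin 5) := fun a =>
    Finset.univ.filter fun k => ∃ g : L, g • K.Ψ (repW a) = K.Ψ (repW k)
  have hP : ∀ a k, k ∈ P a ↔ ∃ g : L, g • K.Ψ (repW a) = K.Ψ (repW k) := fun a k => by simp [P]
  have hsing : ∀ a (g : L), Sing (K.Ψ.symm (g • K.Ψ (repW a))) := by
    intro a g
    constructor
    · intro h
      rw [EmbeddingLike.map_eq_zero_iff, smul_eq_zero_iff_eq, EmbeddingLike.map_eq_zero_iff] at h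
      exact (rep_sing a).1.1 h
    · have h1 := K.form (K.Ψ.symm (g • K.Ψ (repW a)))
      rw [AddEquiv.apply_symm_apply, Q.inv, K.form] at h1
      have h2 := (ZMod.natCast_eq_natCast_iff' _ _ _).1 h1
      rw [← h2]
      exact (rep_sing a).1.2
  have hmem : ∀ a w, Sing w → ((∃ g : L, g • K.Ψ (repW a) = K.Ψ w) ↔ blk w ∈ P a) := by
    intro a w hw
    obtain ⟨h, -, hh⟩ := K.exists_move hw
    rw [hP]
    constructor
    · rintro ⟨g, hg⟩
      exact ⟨h⁻¹ * g, by rw [mul_smul, hg, ← hh, inv_smul_smul]⟩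
    · rintro ⟨g, hg⟩
      exact ⟨h * g, by rw [mul_smul, hg, hh]⟩
  have hcard : ∀ a, Nat.card (MulAction.orbit L (K.Ψ (repW a))) = ∑ k ∈ P a, bsize k := by
    intro a
    let F : Finset W6 := Finset.univ.filter fun w => Sing w ∧ blk w ∈ P a
    have e : MulAction.orbit L (K.Ψ (repW a)) = K.Ψ '' (F : Set W6) := by
      ext x
      constructor
      · rintro ⟨g, rfl⟩
        refine ⟨K.Ψ.symm (g • K.Ψ (repW a)), ?_, AddEquiv.apply_symm_apply _ _⟩
        simp only [F, Finset.coe_filter, Finset.mem_univ, true_and, Set.mem_ofPred_eq]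
        exact ⟨hsing a g, (hmem a _ (hsing a g)).1 ⟨g, (AddEquiv.apply_symm_apply _ _).symm⟩⟩
      · rintro ⟨w, hw, rfl⟩
        simp only [F, Finset.coe_filter, Finset.mem_univ, true_and, Set.mem_ofPred_eq] at hw
        obtain ⟨g, hg⟩ := (hmem a w hw.1).2 hw.2
        exact ⟨g, hg⟩
    rw [e, Nat.card_image_of_injective K.Ψ.injective, Nat.card_coe_set_eq, Set.ncard_coe_finset,
      Finset.card_eq_sum_card_fiberwise (f := blk) (t := P a) (fun w hw => (Finset.mem_filter.1 hw).2.2)]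
    refine Finset.sum_congr rfl fun k hk => ?_
    rw [← card_block k]
    congr 1
    ext w
    simp only [F, Finset.mem_filter, Finset.mem_univ, true_and]
    exact ⟨fun h => ⟨h.1.1, h.2⟩, fun h => ⟨⟨h.1, h.2 ▸ hk⟩, h.2⟩⟩
  obtain ⟨g7, -, hg7, hfree⟩ := S.exists_seven Q S.fpf
  have h7 : ∀ a, Nat.card (MulAction.orbit L (K.Ψ (repW a))) % 7 = 0 := by
    intro a
    have hz : IsPGroup 7 (Subgroup.zpowers g7) := by
      rintro ⟨x, hx⟩
      obtain ⟨i, rfl⟩ := Subgroup.mem_zpowers_iff.1 hx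
      refine ⟨1, Subtype.ext ?_⟩
      rw [pow_one, SubgroupClass.coe_pow, ← zpow_natCast, ← zpow_mul, mul_comm, zpow_mul, zpow_natCast, hg7,
        one_zpow]
      rfl
    have h := hz.card_modEq_card_fixedPoints (MulAction.orbit L (K.Ψ (repW a)))
    have hempty : MulAction.fixedPoints (Subgroup.zpowers g7) (MulAction.orbit L (K.Ψ (repW a))) = ∅ := by
      refine Set.eq_empty_iff_forall_notMem.2 fun x hx => ?_
      have hxfix : g7 • (x : W) = x := congrArg Subtype.val (hx ⟨g7, Subgroup.mem_zpowers g7⟩)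
      obtain ⟨g, hg⟩ := x.2
      have hx0 := hfree _ hxfix
      rw [← hg] at hx0
      have hg0 : g • K.Ψ (repW a) = 0 := hx0
      rw [smul_eq_zero_iff_eq, EmbeddingLike.map_eq_zero_iff] at hg0
      exact (rep_sing a).1.1 hg0
    rw [hempty, Nat.card_coe_set_eq (∅ : Set _), Set.ncard_empty] at h
    exact h
  have hdvd : ∀ a, 19595520 % (∑ k ∈ P a, bsize k) = 0 := by
    intro a
    rw [← hcard, ← hL]
    refine Nat.mod_eq_zero_of_dvd ?_
    rw [Nat.card_congr (MulAction.orbitEquivQuotientStabilizer L (K.Ψ (repW a)))]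
    exact Subgroup.index_dvd_card _
  have hself : ∀ a, a ∈ P a := fun a => (hP a a).2 ⟨1, one_smul L _⟩
  have hopt := fun a => orbit_options (P a) ⟨a, hself a⟩ (by rw [← hcard]; exact h7 a) (hdvd a)
  have hclass : ∀ a b, b ∈ P a → P b = P a := by
    intro a b hb
    obtain ⟨g, hg⟩ := (hP a b).1 hb
    ext k
    rw [hP, hP]
    constructor
    · rintro ⟨h, hh⟩; exact ⟨h * g, by rw [mul_smul, hg, hh]⟩
    · rintro ⟨h, hh⟩; exact ⟨h * g⁻¹, by rw [mul_smul, ← hg, inv_smul_smul, hh]⟩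
  have h0 := (hopt 0).resolve_right fun h => h.1 (hself 0)
  have h1 := (hopt 1).resolve_left fun h => h.2.1 (hself 1)
  have hdisj : ∀ k, k ∈ P 0 → k ∉ P 1 := fun k hk hk' =>
    h0.2.1 (by rw [← hclass 0 k hk, hclass 1 k hk']; exact hself 1)
  have hA' : ∀ A : Finset (Fin 5), (0 : Fin 5) ∈ A → (1 : Fin 5) ∉ A → A.card = 2 →
      A = {0, 2} ∨ A = {0, 3} ∨ A = {0, 4} := by decide +kernel
  have hB' : ∀ B : Finset (Fin 5), (0 : Fin 5) ∉ B → (1 : Fin 5) ∈ B → B.card = 3 →
      B = {1, 3, 4} ∨ B = {1, 2, 4} ∨ B = {1, 2, 3} := by decide +kernel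
  obtain ⟨k, hk2, hA, hB, hsA, hsB⟩ : ∃ k : Fin 5, 2 ≤ k ∧ P 0 = {0, k} ∧
      (∀ m, m ∈ P 1 ↔ ¬ (m = 0 ∨ m = k)) ∧ ∑ m ∈ P 0, bsize m = 378 ∧ ∑ m ∈ P 1, bsize m = 1701 := by
    rcases hA' _ (hself 0) h0.2.1 h0.2.2 with e | e | e <;>
      rcases hB' _ h1.1 h1.2.1 h1.2.2 with e' | e' | e' <;> rw [e, e'] <;>
      first
        | exact ⟨2, by decide, rfl, by decide, by decide, by decide⟩
        | exact ⟨3, by decide, rfl, by decide, by decide, by decide⟩
        | exact ⟨4, by decide, rfl, by decide, by decide, by decide⟩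
        | (exfalso
           have hd := hdisj
           rw [e, e'] at hd
           revert hd; decide)
  refine ⟨k, hk2, fun w hw => ?_, fun w hw => ?_, by rw [hcard, hsA], by rw [hcard, hsB]⟩
  · rw [hmem 0 w hw, hA]; simp
  · rw [hmem 1 w hw, hB]

end Setting

end Cfsg.Agent.Lib.FischerType
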