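import Mathlib
import Cfsg.Agent.Lib.FischerType.Orbits

/-!
An alternating group of degree six fixing a vector of weight six.
-/

set_option autoImplicit false

namespace Cfsg.Agent.Lib.FischerType

theorem card_alt6 : Nat.card (alternatingGroup (Fin 6)) = 360 := by
  rw [nat_card_alternatingGroup, Nat.card_fin]; rfl

theorem isSimpleGroup_alt6 : IsSimpleGroup (alternatingGroup (Fin 6)) :=
  alternatingGroup.isSimpleGroup (by simp)

theorem alt6_eq_top (P : Subgroup (alternatingGroup (Fin 6))) (h : 120 ≤ Nat.card P) : P = ⊤ := by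
  classical
  haveI := isSimpleGroup_alt6
  have hi := P.card_mul_index
  rw [card_alt6] at hi
  have hidx : P.index ≤ 3 := by nlinarith
  rcases Subgroup.Normal.eq_bot_or_eq_top P.normalCore_normal with e | e
  · exfalso
    rw [Subgroup.normalCore_eq_ker, MonoidHom.ker_eq_bot_iff] at e
    have hle := Nat.card_le_card_of_injective _ e
    rw [card_alt6, Nat.card_perm, ← Subgroup.index_eq_card] at hle
    have := Nat.factorial_le hidx
    norm_num [Nat.factorial] at this
    omega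
  · exact top_le_iff.1 (e ▸ P.normalCore_le)

theorem card_triples :
    Fintype.card {p : Fin 6 × Fin 6 × Fin 6 // p.1 ≠ p.2.1 ∧ p.1 ≠ p.2.2 ∧ p.2.1 ≠ p.2.2} = 120 := by
  decide +kernel

theorem dg_eq_mono (c : Fin 6 → ZMod 3) (w : W6) : dg c w = mono 1 c w := rfl

namespace Setting

variable {L W : Type*} [Group L] [AddCommGroup W] [DistribMulAction L W] {S : Setting L W} {Q : Form L W}
  (K : S.Coord Q)

/-- Elements acting as even monomial maps fixing `x`, with their permutations. -/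
def Coord.graph (x : W6) : Subgroup (L × Equiv.Perm (Fin 6)) where
  carrier := {p | ∃ t : Fin 6 → ZMod 3, Equiv.Perm.sign p.2 = 1 ∧
    (∀ w, p.1 • K.Ψ w = K.Ψ (mono p.2 t w)) ∧ mono p.2 t x = x}
  one_mem' := ⟨0, map_one _, fun w => by rw [Prod.fst_one, one_smul, Prod.snd_one, mono_one], mono_one x⟩
  mul_mem' := by
    rintro p q ⟨s, hs, hp, hpx⟩ ⟨t, ht, hq, hqx⟩
    refine ⟨fun i => s (q.2 i) + t i, by rw [Prod.snd_mul, map_mul, hs, ht, one_mul], fun w => ?_, ?_⟩
    · rw [Prod.fst_mul, mul_smul, hq, hp, mono_mul]; rfl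
    · rw [Prod.snd_mul, ← mono_mul, hqx, hpx]
  inv_mem' := by
    rintro p ⟨s, hs, hp, hpx⟩
    have e2 : (fun i => s (p.2⁻¹ i) + - s (p.2⁻¹ i)) = (0 : Fin 6 → ZMod 3) := funext fun i => add_neg_cancel _
    have key : ∀ w, mono p.2 s (mono p.2⁻¹ (fun i => - s (p.2⁻¹ i)) w) = w := fun w => by
      rw [mono_mul, mul_inv_cancel, e2, mono_one]
    have key2 : ∀ w, mono p.2⁻¹ (fun i => - s (p.2⁻¹ i)) (mono p.2 s w) = w := fun w => by
      rw [mono_mul, inv_mul_cancel]
      have e3 : (fun i => - s (p.2⁻¹ (p.2 i)) + s i) = (0 : Fin 6 → ZMod 3) := funext fun i => by simp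
      rw [e3, mono_one]
    refine ⟨fun i => - s (p.2⁻¹ i), by rw [Prod.snd_inv, map_inv, hs, inv_one], fun w => ?_, ?_⟩
    · rw [Prod.fst_inv, inv_smul_eq_iff, hp, Prod.snd_inv, key]
    · conv_lhs => rw [← hpx]
      rw [Prod.snd_inv, key2]

/-- The alternating group of degree six inside the fixer of a vector of weight six. -/
theorem Coord.exists_alt6 {x : W6} (hx : ∀ i, x i ≠ 0) :
    ∃ φ : alternatingGroup (Fin 6) →* L, Function.Injective φ ∧ (∀ σ, φ σ • K.Ψ x = K.Ψ x) ∧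
      ∀ σ, ∃ t : Fin 6 → ZMod 3, (∀ w, φ σ • K.Ψ w = K.Ψ (mono (σ : Equiv.Perm (Fin 6)) t w)) ∧
        mono (σ : Equiv.Perm (Fin 6)) t x = x := by
  classical
  let f : K.graph x →* alternatingGroup (Fin 6) :=
    ((MonoidHom.snd L (Equiv.Perm (Fin 6))).comp (K.graph x).subtype).codRestrict _ fun p =>
      Equiv.Perm.mem_alternatingGroup.2 (by obtain ⟨t, ht, -, -⟩ := p.2; exact ht)
  have finj : Function.Injective f := by
    rintro ⟨⟨l, σ⟩, t, _, hl, hlx⟩ ⟨⟨l', σ'⟩, t', _, hl', hlx'⟩ e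
    have e' : σ = σ' := congrArg Subtype.val e
    subst e'
    have ht : t = t' := funext fun i => by
      have h := congrFun (hlx.trans hlx'.symm) (σ i)
      simp only [mono, Equiv.symm_apply_apply] at h
      have h2 := congrArg lg h
      rwa [lg_pwK _ _ (hx i), lg_pwK _ _ (hx i), add_left_inj] at h2
    subst ht
    refine Subtype.ext (Prod.ext ?_ rfl)
    show l = l'
    refine (inv_mul_eq_one.1 (S.faithful (l'⁻¹ * l) fun y => ?_)).symm
    obtain ⟨w, rfl⟩ := K.Ψ.surjective y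
    rw [mul_smul, inv_smul_eq_iff, hl, hl']
  have hsurj : Function.Surjective f := by
    rw [← MonoidHom.range_eq_top]
    refine alt6_eq_top _ ?_
    rw [← card_triples, ← Nat.card_eq_fintype_card]
    refine Nat.card_le_card_of_surjective (fun σ : f.range => (⟨(σ.1.1 0, σ.1.1 1, σ.1.1 2),
      σ.1.1.injective.ne (by decide), σ.1.1.injective.ne (by decide), σ.1.1.injective.ne (by decide)⟩ :
        {p : Fin 6 × Fin 6 × Fin 6 // p.1 ≠ p.2.1 ∧ p.1 ≠ p.2.2 ∧ p.2.1 ≠ p.2.2})) ?_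
    rintro ⟨⟨a, b, d⟩, h1, h2, h3⟩
    obtain ⟨σ, t, e0, e1, e2, hsgn, ht, g, -, hg⟩ := K.triple a b d h1 h2 h3
    have hfull : ∀ i, mono σ t x i ≠ 0 := fun i e => hx (σ.symm i) ((pwK_eq_zero _ _).1 e)
    obtain ⟨c, hc, hcx⟩ := exists_dg (u := mono σ t x) (w := x)
      (fun i => ⟨fun e => absurd e (hfull i), fun e => absurd e (hx i)⟩) fun _ => by
        have : ∀ i, lg (mono σ t x i) = t (σ.symm i) + lg (x (σ.symm i)) := fun i => lg_pwK _ _ (hx _)
        rw [Finset.sum_congr rfl fun i _ => this i, Finset.sum_add_distrib, Equiv.sum_comp σ.symm t,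
          Equiv.sum_comp σ.symm fun i => lg (x i), ht, zero_add]
    obtain ⟨h, -, hh⟩ := K.diag c hc
    have hmem : ((h * g, σ) : L × Equiv.Perm (Fin 6)) ∈ K.graph x := by
      refine ⟨fun i => c (σ i) + t i, hsgn, fun w => ?_, ?_⟩
      · show (h * g) • K.Ψ w = _
        rw [mul_smul, hg, hh, dg_eq_mono, mono_mul, one_mul]
      · conv_rhs => rw [← hcx, dg_eq_mono, mono_mul, one_mul]
    exact ⟨⟨f ⟨_, hmem⟩, ⟨_, rfl⟩⟩, Subtype.ext (Prod.ext e0 (Prod.ext e1 e2))⟩
  let e : K.graph x ≃* alternatingGroup (Fin 6) := MulEquiv.ofBijective f ⟨finj, hsurj⟩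
  refine ⟨((MonoidHom.fst L (Equiv.Perm (Fin 6))).comp (K.graph x).subtype).comp e.symm.toMonoidHom, ?_, fun σ => ?_, fun σ => ?_⟩
  · intro σ τ h
    apply e.symm.injective
    change (e.symm σ : L × Equiv.Perm (Fin 6)).1 = (e.symm τ : L × Equiv.Perm (Fin 6)).1 at h
    revert h
    generalize e.symm σ = p
    generalize e.symm τ = q
    intro h
    obtain ⟨⟨l, s⟩, t, _, hl, hlx⟩ := p
    obtain ⟨⟨l', s'⟩, t', _, hl', hlx'⟩ := q
    obtain rfl : l = l' := h
    refine Subtype.ext (Prod.ext rfl (Equiv.ext fun i => ?_))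
    show s i = s' i
    have hw := congrFun (K.Ψ.injective ((hl (Pi.single i (1, 0))).symm.trans (hl' (Pi.single i (1, 0))))) (s i)
    simp only [mono, Equiv.symm_apply_apply, Pi.single_eq_same] at hw
    by_contra hne
    rw [Pi.single_eq_of_ne (fun e' => hne (s'.symm_apply_eq.1 e')),
      (pwK_eq_zero _ _).2 rfl, pwK_eq_zero] at hw
    exact absurd hw (by decide)
  · obtain ⟨t, _, hl, hlx⟩ := (e.symm σ).2
    show (e.symm σ : L × Equiv.Perm (Fin 6)).1 • K.Ψ x = K.Ψ x
    rw [hl, hlx]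
  · obtain ⟨t, _, hl, hlx⟩ := (e.symm σ).2
    have hσ : (e.symm σ : L × Equiv.Perm (Fin 6)).2 = (σ : Equiv.Perm (Fin 6)) :=
      congrArg Subtype.val (e.apply_symm_apply σ)
    rw [hσ] at hl hlx
    exact ⟨t, hl, hlx⟩

end Setting

end Cfsg.Agent.Lib.FischerType
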