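import Mathlib
import Cfsg.Agent.Lib.FischerType.Orbits

/-!
A vector of the small orbit is fixed by no large elementary abelian normal 2-subgroup of its stabiliser.
-/

set_option autoImplicit false

namespace Cfsg.Agent.Lib.FischerType

/-- The last four coordinates. -/
def tail (w : W6) : Fin 4 → K4 := ![w 2, w 3, w 4, w 5]

/-- Extension by zeros. -/
def ext (u : Fin 4 → K4) : W6 := ![0, 0, u 0, u 1, u 2, u 3]

/-- A vector of the line through `repW 0`. -/
def lineW (p : K4) : W6 := ![p, p, 0, 0, 0, 0]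

/-- Scalars on four coordinates. -/
def dg4 (c : Fin 4 → ZMod 3) (u : Fin 4 → K4) : Fin 4 → K4 := fun i => pwK (c i) (u i)

/-- One for a nonzero element. -/
def nz (p : K4) : ℕ := if p = 0 then 0 else 1

/-- The number of nonzero entries among the last four. -/
def wt4 (u : Fin 4 → K4) : ℕ := ∑ i, nz (u i)

theorem wt_split (w : W6) : wt w = nz (w 0) + nz (w 1) + wt4 (tail w) := by
  have h : ∀ p : K4, (if p ≠ 0 then 1 else 0 : ℕ) = nz p := fun p => by by_cases hp : p = 0 <;> simp [nz, hp]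
  rw [wt, Finset.card_filter, Finset.sum_congr rfl fun i _ => h (w i), Fin.sum_univ_six, wt4, Fin.sum_univ_four]
  show _ = _ + (nz (w 2) + nz (w 3) + nz (w 4) + nz (w 5))
  omega

theorem nz_ortho : ∀ a b : K4,
    ((nz (a + (1, 0)) + nz (b + (1, 0))) % 2 = (nz a + nz b) % 2 ∧
      (nz (a + (0, 1)) + nz (b + (0, 1))) % 2 = (nz a + nz b) % 2) ↔ a = b := by decide +kernel

theorem k4_self : ∀ p : K4, p + p = 0 := by decide +kernel

theorem ext_zero : ext 0 = 0 := by decide +kernel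

theorem tail_zero : tail 0 = 0 := by decide +kernel

theorem lineW_zero : lineW 0 = 0 := by decide +kernel

theorem repW_zero_rest : ∀ m : Fin 6, m ≠ 0 → m ≠ 1 → repW 0 m = 0 := by decide +kernel

theorem one_zero_ne : ((1, 0) : K4) ≠ 0 := by decide +kernel

theorem wt_e0 : wt ![(1, 0), 0, 0, 0, 0, 0] % 2 = 1 := by decide +kernel

theorem wt_e0_single : ∀ (i : Fin 4) (p : K4), p ≠ 0 → wt (![(1, 0), 0, 0, 0, 0, 0] + ext (Pi.single i p)) % 2 =
    (wt ![(1, 0), 0, 0, 0, 0, 0] % 2 + 1 % 2) % 2 := by decide +kernel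

theorem e0_ne_e1 : (![0, (1, 0), 0, 0, 0, 0] : W6) ≠ ![(1, 0), 0, 0, 0, 0, 0] := by decide +kernel

theorem idx_inj : ∀ m m' : Fin 4, (![2, 3, 4, 5] m : Fin 6) = ![2, 3, 4, 5] m' → m = m' := by decide +kernel

theorem ortho_iff (w : W6) :
    (wt (w + repW 0) % 2 = wt w % 2 ∧ wt (w + fun i => nuK (repW 0 i)) % 2 = wt w % 2) ↔ w 0 = w 1 := by
  have t1 : tail (w + repW 0) = tail w := by funext i; fin_cases i <;> simp [tail, repW]
  have t2 : tail (w + fun i => nuK (repW 0 i)) = tail w := by funext i; fin_cases i <;> simp [tail, repW, nuK]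
  rw [wt_split (w + repW 0), wt_split (w + _), wt_split w, t1, t2, ← nz_ortho (w 0) (w 1)]
  have e1 : (w + repW 0) 0 = w 0 + (1, 0) ∧ (w + repW 0) 1 = w 1 + (1, 0) := ⟨rfl, rfl⟩
  have e2 : (w + fun i => nuK (repW 0 i)) 0 = w 0 + (0, 1) ∧ (w + fun i => nuK (repW 0 i)) 1 = w 1 + (0, 1) :=
    ⟨rfl, rfl⟩
  rw [e1.1, e1.2, e2.1, e2.2]
  omega

theorem tail_ext (u : Fin 4 → K4) : tail (ext u) = u := by funext i; fin_cases i <;> rfl

theorem ext_add : ∀ u v : Fin 4 → K4, ext (u + v) = ext u + ext v := fun u v => by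
  funext i; fin_cases i <;> simp [ext]

theorem tail_add (u v : W6) : tail (u + v) = tail u + tail v := by funext i; fin_cases i <;> rfl

theorem eq_line_ext {w : W6} (h : w 0 = w 1) : w = lineW (w 0) + ext (tail w) := by
  funext i; fin_cases i <;> simp [lineW, ext, tail, ← h]

theorem tail_line (p : K4) : tail (lineW p) = 0 := by funext i; fin_cases i <;> rfl

theorem tail_dg (c : Fin 6 → ZMod 3) (w : W6) : tail (dg c w) = dg4 ![c 2, c 3, c 4, c 5] (tail w) := by
  funext i; fin_cases i <;> rfl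

theorem line_cases : ∀ a b : ZMod 2, lineW (a, b) = 0 ∨ lineW (a, b) = repW 0 ∨
    lineW (a, b) = (fun i => nuK (repW 0 i)) ∨ lineW (a, b) = repW 0 + fun i => nuK (repW 0 i) := by
  decide +kernel

theorem head_decomp : ∀ a : K4, (![a, 0, 0, 0, 0, 0] : W6) = 0 ∨
    (![a, 0, 0, 0, 0, 0] : W6) = ![(1, 0), 0, 0, 0, 0, 0] ∨
    (![a, 0, 0, 0, 0, 0] : W6) = (fun i => nuK (![(1, 0), 0, 0, 0, 0, 0] i)) ∨
    (![a, 0, 0, 0, 0, 0] : W6) = (![(1, 0), 0, 0, 0, 0, 0] : W6) + fun i => nuK (![(1, 0), 0, 0, 0, 0, 0] i) := by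
  decide +kernel

theorem eq_head_ext (w : W6) : w = ![w 0 + w 1, 0, 0, 0, 0, 0] + lineW (w 1) + ext (tail w) := by
  funext i; fin_cases i <;> simp [lineW, ext, tail, k4_self, add_assoc]

theorem wt4_add_single : ∀ u : Fin 4 → K4, (∀ i : Fin 4, ∀ p : K4, p ≠ 0 →
    wt4 (u + Pi.single i p) % 2 = (wt4 u + 1) % 2) → u = 0 := by
  decide +kernel

theorem wt_add_single (y : W6) (h : ∀ i : Fin 4, ∀ p : K4, p ≠ 0 →
    wt (y + ext (Pi.single i p)) % 2 = (wt y + 1) % 2) : y 2 = 0 ∧ y 3 = 0 ∧ y 4 = 0 ∧ y 5 = 0 := by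
  have key : tail y = 0 := by
    refine wt4_add_single _ fun i p hp => ?_
    have hh := h i p hp
    rw [wt_split (y + _), wt_split y, tail_add, tail_ext, show (y + ext (Pi.single i p)) 0 = y 0 from add_zero _,
      show (y + ext (Pi.single i p)) 1 = y 1 from add_zero _] at hh
    omega
  exact ⟨congrFun key 0, congrFun key 1, congrFun key 2, congrFun key 3⟩

theorem head_two : ∀ a b : K4, wt ![a, b, 0, 0, 0, 0] % 2 = 1 →
    wt (![a, b, 0, 0, 0, 0] + repW 0) % 2 = wt (![(1, 0), 0, 0, 0, 0, 0] + repW 0) % 2 →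
    wt (![a, b, 0, 0, 0, 0] + fun i => nuK (repW 0 i)) % 2 =
      wt (![(1, 0), 0, 0, 0, 0, 0] + fun i => nuK (repW 0 i)) % 2 →
    (![a, b, 0, 0, 0, 0] : W6) = ![(1, 0), 0, 0, 0, 0, 0] ∨ (![a, b, 0, 0, 0, 0] : W6) = ![0, (1, 0), 0, 0, 0, 0] := by
  decide +kernel

theorem head_cases (y : W6)
    (key : ∀ i : Fin 4, ∀ p : K4, p ≠ 0 → wt (y + ext (Pi.single i p)) % 2 = (wt y + 1) % 2)
    (hwt : wt y % 2 = 1) (h1 : wt (y + repW 0) % 2 = wt (![(1, 0), 0, 0, 0, 0, 0] + repW 0) % 2)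
    (h2 : wt (y + fun i => nuK (repW 0 i)) % 2 =
      wt (![(1, 0), 0, 0, 0, 0, 0] + fun i => nuK (repW 0 i)) % 2) :
    y = ![(1, 0), 0, 0, 0, 0, 0] ∨ y = ![0, (1, 0), 0, 0, 0, 0] := by
  obtain ⟨e2, e3, e4, e5⟩ := wt_add_single y key
  have e : y = ![y 0, y 1, 0, 0, 0, 0] := by funext i; fin_cases i <;> simp [e2, e3, e4, e5]
  rw [e] at hwt h1 h2 ⊢
  exact head_two _ _ hwt h1 h2

theorem third_of_four : ∀ i j : Fin 4, ∃ k, i ≠ k ∧ j ≠ k := by decide

theorem sum_two_single : ∀ i j : Fin 4, i ≠ j → ∀ a : ZMod 3,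
    ∑ m : Fin 4, (if m = i then a else if m = j then -a else 0) = 0 := by decide +kernel

theorem pwK_map_add : ∀ (a : ZMod 3) (p p' : K4), pwK a (p + p') = pwK a p + pwK a p' := by decide +kernel

theorem pwK_add_self : ∀ (a : ZMod 3) (p : K4), a ≠ 0 → p ≠ 0 → pwK a p + p ≠ 0 := by decide +kernel

theorem span_facts : ∀ p q : K4, p ≠ 0 → ∃ a : ZMod 3, q = 0 ∨ q = pwK a p := by decide +kernel

/-- A subgroup invariant under the scalars and a transitive set of maps is trivial or everything. -/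
theorem closure_top {H : Set (Fin 4 → K4)} (h0 : (0 : Fin 4 → K4) ∈ H)
    (hadd : ∀ u ∈ H, ∀ v ∈ H, u + v ∈ H)
    (hdg : ∀ c : Fin 4 → ZMod 3, ∑ i, c i = 0 → ∀ u ∈ H, dg4 c u ∈ H)
    (hmove : ∀ i j : Fin 4, (∃ u ∈ H, u i ≠ 0) → ∃ u ∈ H, u j ≠ 0)
    (hne : ∃ u ∈ H, u ≠ 0) : ∀ u, u ∈ H := by
  obtain ⟨u, hu, hune⟩ := hne
  obtain ⟨i, hi⟩ : ∃ i, u i ≠ 0 := by
    by_contra hno
    push Not at hno
    exact hune (funext hno)
  have single : ∀ i, ∀ w ∈ H, w i ≠ 0 → ∃ p ≠ 0, Pi.single i p ∈ H := by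
    intro i w hw hwi
    have kill : ∀ j, j ≠ i → ∀ w ∈ H, w i ≠ 0 → ∃ w' ∈ H, w' i ≠ 0 ∧ (∀ m, m ≠ i → m ≠ j → w' m = 0) ∧
        (∀ m, w m = 0 → w' m = 0) := by
      intro j hj w hw hwi
      let c : Fin 4 → ZMod 3 := fun m => if m = i then 1 else if m = j then -1 else 0
      refine ⟨dg4 c w + w, hadd _ (hdg c (sum_two_single i j (Ne.symm hj) 1) w hw) _ hw, ?_, fun m h1 h2 => ?_,
        fun m hm => ?_⟩
      · show pwK (c i) (w i) + w i ≠ 0
        rw [show c i = 1 from if_pos rfl]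
        exact pwK_add_self 1 _ one_ne_zero hwi
      · show pwK (c m) (w m) + w m = 0
        rw [show c m = 0 by simp [c, h1, h2], pwK_zero]
        exact CharTwo.add_self_eq_zero _
      · show pwK (c m) (w m) + w m = 0
        rw [hm, (pwK_eq_zero _ _).2 rfl, add_zero]
    obtain ⟨j, hij, -⟩ := third_of_four i i
    obtain ⟨k, hik, hjk⟩ := third_of_four i j
    obtain ⟨w₁, hw₁, hwi₁, h1, -⟩ := kill j (Ne.symm hij) w hw hwi
    obtain ⟨w', hw', hwi', h2, h3⟩ := kill k (Ne.symm hik) w₁ hw₁ hwi₁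
    refine ⟨w' i, hwi', ?_⟩
    convert hw' using 1
    funext m
    rcases eq_or_ne m i with rfl | hm
    · simp
    rw [Pi.single_eq_of_ne hm]
    rcases eq_or_ne m j with rfl | hmj
    · exact (h2 _ hm hjk).symm
    · exact (h3 _ (h1 m hm hmj)).symm
  -- all single vectors
  have hall : ∀ (m : Fin 4) (q : K4), Pi.single m q ∈ H := by
    intro m q
    obtain ⟨w, hw, hwm⟩ := hmove i m ⟨u, hu, hi⟩
    obtain ⟨p, hp, hpm⟩ := single m w hw hwm
    obtain ⟨a, rfl | rfl⟩ := span_facts p q hp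
    · rw [Pi.single_zero]; exact h0
    · obtain ⟨m', hm', -⟩ := third_of_four m m
      have := hdg _ (sum_two_single m m' hm' a) _ hpm
      convert this using 1
      funext x
      rcases eq_or_ne x m with rfl | hx
      · simp [dg4]
      · simp [dg4, Pi.single_eq_of_ne hx, (pwK_eq_zero _ _).2 rfl]
  intro v
  rw [show v = Pi.single 0 (v 0) + Pi.single 1 (v 1) + Pi.single 2 (v 2) + Pi.single 3 (v 3) by
    funext x; fin_cases x <;> simp]
  exact hadd _ (hadd _ (hadd _ (hall _ _) _ (hall _ _)) _ (hall _ _)) _ (hall _ _)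

namespace Setting

variable {L W : Type*} [Group L] [AddCommGroup W] [DistribMulAction L W] {S : Setting L W} {Q : Form L W}
  (K : S.Coord Q)

/-- The action in coordinates. -/
def Coord.act (e : L) (w : W6) : W6 := K.Ψ.symm (e • K.Ψ w)

theorem Coord.act_add (e : L) (u v : W6) : K.act e (u + v) = K.act e u + K.act e v := by
  simp [Coord.act]

theorem Coord.act_mul (e f : L) (w : W6) : K.act (e * f) w = K.act e (K.act f w) := by
  simp [Coord.act, mul_smul]

theorem Coord.act_one (w : W6) : K.act 1 w = w := by simp [Coord.act]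

theorem Coord.act_spec {e : L} {w w' : W6} (h : e • K.Ψ w = K.Ψ w') : K.act e w = w' := by
  simp [Coord.act, h]

theorem Coord.act_wt (e : L) (w : W6) : wt (K.act e w) % 2 = wt w % 2 := by
  have h1 := K.form (K.act e w)
  rw [Coord.act, AddEquiv.apply_symm_apply, Q.inv, K.form] at h1
  exact ((ZMod.natCast_eq_natCast_iff' _ _ _).1 h1).symm

theorem Coord.act_nu {e : L} (he : e ∈ S.M) (w : W6) :
    K.act e (fun i => nuK (w i)) = fun i => nuK (K.act e w i) := by
  apply K.Ψ.injective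
  rw [Coord.act, AddEquiv.apply_symm_apply, K.nu, K.nu, Coord.act, AddEquiv.apply_symm_apply, smul_n_comm S he]

/-- An element of `M` fixing the representative fixes the line. -/
theorem Coord.fix_line : ∀ g ∈ S.M, g • K.Ψ (repW 0) = K.Ψ (repW 0) → ∀ p, K.act g (lineW p) = lineW p := by
  intro g hg hgx p
  have h1 : K.act g (repW 0) = repW 0 := K.act_spec hgx
  have h2 : K.act g (fun i => nuK (repW 0 i)) = fun i => nuK (repW 0 i) := by rw [K.act_nu hg, h1]
  obtain ⟨a, b⟩ := p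
  rcases line_cases a b with h | h | h | h <;> rw [h]
  · simp [Coord.act]
  · exact h1
  · exact h2
  · rw [K.act_add, h1, h2]

/-- Diagonal symmetries of the last four coordinates. -/
theorem Coord.diag_tail : ∀ c : Fin 4 → ZMod 3, ∑ i, c i = 0 → ∃ g ∈ S.M, g • K.Ψ (repW 0) = K.Ψ (repW 0) ∧
      ∀ u, K.act g (ext u) = ext (dg4 c u) := by
  intro c hc
  obtain ⟨g, hgM, hg⟩ := K.diag ![0, 0, c 0, c 1, c 2, c 3] (by
    rw [Fin.sum_univ_four] at hc
    simp only [Fin.sum_univ_six, Matrix.cons_val]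
    linear_combination hc)
  refine ⟨g, hgM, ?_, fun u => K.act_spec ?_⟩
  · rw [hg]
    congr 1
    funext i; fin_cases i <;> simp [dg, repW, pwK_zero, (pwK_eq_zero _ _).2 rfl]
  · rw [hg]
    congr 1
    funext i; fin_cases i <;> simp [dg, dg4, ext, (pwK_eq_zero _ _).2 rfl]

/-- Monomial symmetries of the last four coordinates. -/
theorem Coord.mono_tail : ∀ j : Fin 4, ∃ g ∈ S.M, g • K.Ψ (repW 0) = K.Ψ (repW 0) ∧
      ∃ (τ : Equiv.Perm (Fin 4)) (a : Fin 4 → ZMod 3), τ j = 0 ∧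
        ∀ u, K.act g (ext u) = ext (fun m => pwK (a m) (u (τ m))) := by
  intro j
  obtain ⟨σ, t, h0, h1, h2, -, -, g, hgM, hg⟩ := K.triple 0 1 (![2, 3, 4, 5] j) (by decide)
    (by fin_cases j <;> decide) (by fin_cases j <;> decide)
  have hs0 : σ.symm 0 = 0 := σ.symm_apply_eq.2 h0.symm
  have hs1 : σ.symm 1 = 1 := σ.symm_apply_eq.2 h1.symm
  let c : Fin 6 → ZMod 3 := ![-t 0, -t 1, t 0 + t 1, 0, 0, 0]
  obtain ⟨h, hhM, hh⟩ := K.diag c (by simp only [c, Fin.sum_univ_six, Matrix.cons_val]; ring)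
  have hidx : ∀ i : Fin 6, i ≠ 0 → i ≠ 1 → ∃ m : Fin 4, ![2, 3, 4, 5] m = i := by decide
  have hne : ∀ m : Fin 4, σ.symm (![2, 3, 4, 5] m) ≠ 0 ∧ σ.symm (![2, 3, 4, 5] m) ≠ 1 := by
    intro m
    have hm : (![2, 3, 4, 5] m : Fin 6) ≠ 0 ∧ (![2, 3, 4, 5] m : Fin 6) ≠ 1 := by revert m; decide
    exact ⟨fun e => hm.1 (σ.symm.injective (e.trans hs0.symm)),
      fun e => hm.2 (σ.symm.injective (e.trans hs1.symm))⟩
  choose τ₀ hτ₀ using fun m => hidx _ (hne m).1 (hne m).2
  have hτinj : Function.Injective τ₀ := fun m m' e => by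
    exact idx_inj _ _ (σ.symm.injective (by rw [← hτ₀, ← hτ₀, e]))
  let τ : Equiv.Perm (Fin 4) := Equiv.ofBijective τ₀ (Finite.injective_iff_bijective.1 hτinj)
  refine ⟨h * g, mul_mem hhM hgM, ?_, τ,
    fun m => c (![2, 3, 4, 5] m) + t (σ.symm (![2, 3, 4, 5] m)), ?_, fun u => K.act_spec ?_⟩
  · rw [mul_smul, hg, hh]
    congr 1
    funext m
    simp only [dg, mono]
    rcases eq_or_ne m 0 with rfl | hm0
    · simp only [hs0, c, Matrix.cons_val_zero]
      rw [← pwK_add, neg_add_cancel, pwK_zero]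
    rcases eq_or_ne m 1 with rfl | hm1
    · simp only [hs1, c, Matrix.cons_val_one, Matrix.cons_val_zero]
      rw [← pwK_add, neg_add_cancel, pwK_zero]
    · have hz := repW_zero_rest
      obtain ⟨m', rfl⟩ := hidx m hm0 hm1
      rw [hz _ hm0 hm1, hz _ (hne m').1 (hne m').2, (pwK_eq_zero _ _).2 rfl, (pwK_eq_zero _ _).2 rfl]
  · have hj : (![2, 3, 4, 5] (τ₀ j) : Fin 6) = ![2, 3, 4, 5] (0 : Fin 4) := by
      rw [hτ₀]; exact σ.symm_apply_eq.2 h2.symm
    show τ₀ j = 0
    exact idx_inj _ _ hj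
  · rw [mul_smul, hg, hh]
    congr 1
    funext i
    have hext : ∀ (v : Fin 4 → K4) (m : Fin 4), ext v (![2, 3, 4, 5] m) = v m := by
      intro v m; fin_cases m <;> rfl
    have hext0 : ∀ v : Fin 4 → K4, ext v 0 = 0 ∧ ext v 1 = 0 := fun v => ⟨rfl, rfl⟩
    rcases eq_or_ne i 0 with rfl | hi0
    · simp only [dg, mono, hs0, (hext0 _).1, (pwK_eq_zero _ _).2 rfl]
    rcases eq_or_ne i 1 with rfl | hi1
    · simp only [dg, mono, hs1, (hext0 _).2, (pwK_eq_zero _ _).2 rfl]
    obtain ⟨m, rfl⟩ := hidx i hi0 hi1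
    simp only [dg, mono, hext, pwK_add]
    rw [← hext u (τ m)]
    show pwK _ (pwK _ (ext u (σ.symm _))) = pwK _ (pwK _ (ext u (![2, 3, 4, 5] (τ₀ m))))
    rw [hτ₀]

/-- Elements fixing the last four coordinates modulo the line fix them. -/
theorem Coord.fix_ext [Finite L] (E' : Subgroup L) (hM : E' ≤ S.M)
    (hfix : ∀ e ∈ E', e • K.Ψ (repW 0) = K.Ψ (repW 0))
    (hnorm : ∀ g : L, g • K.Ψ (repW 0) = K.Ψ (repW 0) → ∀ e ∈ E', g * e * g⁻¹ ∈ E')
    (hsplit : ∀ e ∈ E', ∀ u, K.act e (ext u) = lineW (K.act e (ext u) 0) + ext u)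
    (hdvd : Nat.card E' ∣ 51840) : ∀ e ∈ E', ∀ u, K.act e (ext u) = ext u := by
  have hxline := K.fix_line
  have hdiag := K.diag_tail
  have hmono := K.mono_tail
  have hline : ∀ e ∈ E', ∀ p, K.act e (lineW p) = lineW p := fun e he => hxline e (hM he) (hfix e he)
  have hinvact : ∀ g : L, ∀ v w : W6, K.act g v = w → K.act g⁻¹ w = v := fun g v w e => by
    rw [← e, ← K.act_mul, inv_mul_cancel, K.act_one]
  have hconj : ∀ g : L, g • K.Ψ (repW 0) = K.Ψ (repW 0) → ∀ e ∈ E', g⁻¹ * e * g ∈ E' := fun g hg e he => by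
    simpa using hnorm g⁻¹ (inv_smul_eq_iff.2 hg.symm) e he
  have hconj' := hnorm
  -- the map to the line
  let φ : L → (Fin 4 → K4) := fun e j => K.act e (ext (Pi.single j (1, 0))) 0
  have hφmul : ∀ e ∈ E', ∀ f ∈ E', φ (e * f) = φ e + φ f := by
    intro e he f hf
    funext j
    show K.act (e * f) (ext (Pi.single j (1, 0))) 0 = K.act e _ 0 + K.act f _ 0
    rw [K.act_mul]
    conv_lhs => rw [hsplit f hf, K.act_add, hline e he]
    rw [add_comm]; rfl
  have hsingle : ∀ (a : ZMod 3) (i : Fin 4) (p : K4),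
      (fun m => pwK a ((Pi.single i p : Fin 4 → K4) m)) = Pi.single i (pwK a p) := fun a i p => by
    funext m
    rcases eq_or_ne m i with rfl | hm
    · simp
    · simp [Pi.single_eq_of_ne hm, (pwK_eq_zero _ _).2 rfl]
  have hscal : ∀ e ∈ E', ∀ (i : Fin 4) (a : ZMod 3),
      K.act e (ext (Pi.single i (pwK a (1, 0)))) 0 = pwK a (φ e i) := by
    intro e he i a
    have h : ∀ (n : ℕ) (w : W6), K.act e (fun m => nuK^[n] (w m)) = fun m => nuK^[n] (K.act e w m) := by
      intro n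
      induction n with
      | zero => intro w; rfl
      | succ n ih => intro w; simp only [Function.iterate_succ_apply']; rw [K.act_nu (hM he), ih]
    have hext : ∀ u : Fin 4 → K4, (ext fun m => pwK a (u m)) = fun m => nuK^[a.val] (ext u m) := by
      intro u
      funext m
      fin_cases m <;> simp [ext, pwK, Function.iterate_fixed (show nuK 0 = 0 from rfl)]
    rw [← hsingle, hext, h]
    rfl
  have hfixsingle : ∀ e ∈ E', ∀ i : Fin 4, φ e i = 0 → ∀ p, K.act e (ext (Pi.single i p)) = ext (Pi.single i p) := by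
    intro e he i hzero p
    obtain ⟨a, rfl | rfl⟩ := span_facts (1, 0) p one_zero_ne
    · rw [Pi.single_zero, ext_zero]; simp [Coord.act]
    · rw [hsplit e he, hscal e he, hzero, (pwK_eq_zero _ _).2 rfl, lineW_zero, zero_add]
  let D : Set (Fin 4 → K4) := φ '' (E' : Set L)
  have hD0 : (0 : Fin 4 → K4) ∈ D := ⟨1, one_mem _, funext fun j => by
    show K.act 1 _ 0 = 0
    rw [K.act_one]; rfl⟩
  have hDadd : ∀ u ∈ D, ∀ v ∈ D, u + v ∈ D := by
    rintro _ ⟨e, he, rfl⟩ _ ⟨f, hf, rfl⟩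
    exact ⟨e * f, mul_mem he hf, hφmul e he f hf⟩
  have hDdg : ∀ c : Fin 4 → ZMod 3, ∑ i, c i = 0 → ∀ u ∈ D, dg4 c u ∈ D := by
    rintro c hc _ ⟨e, he, rfl⟩
    obtain ⟨g, hgM, hg, hgw⟩ := hdiag (-c) (by simp [hc])
    refine ⟨g * e * g⁻¹, hconj' g hg e he, funext fun j => ?_⟩
    show K.act (g * e * g⁻¹) (ext (Pi.single j (1, 0))) 0 = pwK (c j) (φ e j)
    have hinv' : K.act g⁻¹ (ext (Pi.single j (1, 0))) = ext (Pi.single j (pwK (c j) (1, 0))) := by
      refine hinvact g _ _ ?_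
      rw [hgw]
      congr 1
      funext m
      rcases eq_or_ne m j with rfl | hm
      · simp only [dg4, Pi.single_eq_same, Pi.neg_apply, ← pwK_add, neg_add_cancel, pwK_zero]
      · simp [dg4, Pi.single_eq_of_ne hm, (pwK_eq_zero _ _).2 rfl]
    rw [K.act_mul, K.act_mul, hinv', hsplit e he, K.act_add, hxline g hgM hg, hgw, hscal e he]
    exact (add_zero _)
  have move : ∀ g ∈ S.M, g • K.Ψ (repW 0) = K.Ψ (repW 0) → ∀ (i j : Fin 4),
      (∃ p : K4, p ≠ 0 ∧ K.act g (ext (Pi.single j (1, 0))) = ext (Pi.single i p)) →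
      ∀ e ∈ E', φ e i ≠ 0 → φ (g⁻¹ * e * g) j ≠ 0 := by
    rintro g hgM hg i j ⟨p, hp, ep⟩ e he hne hzero
    refine hne ?_
    have h1 := hfixsingle _ (hconj g hg e he) j hzero (1, 0)
    have h2 : K.act e (ext (Pi.single i p)) = ext (Pi.single i p) := by
      rw [← ep]
      conv_rhs => rw [← h1, ← K.act_mul, show g * (g⁻¹ * e * g) = e * g by group, K.act_mul]
    obtain ⟨a, rfl | rfl⟩ := span_facts (1, 0) p one_zero_ne
    · exact absurd rfl hp
    have h3 := hscal e he i a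
    rw [h2] at h3
    exact (pwK_eq_zero a _).1 h3.symm
  have hDmv : ∀ i j : Fin 4, (∃ u ∈ D, u i ≠ 0) → ∃ u ∈ D, u j ≠ 0 := by
    rintro i j ⟨_, ⟨e, he, rfl⟩, hne⟩
    obtain ⟨g, hgM, hg, τ, a, hτ, hgu⟩ := hmono i
    obtain ⟨g', hgM', hg', τ', a', hτ', hgu'⟩ := hmono j
    have e1 : K.act g (ext (Pi.single 0 (1, 0))) = ext (Pi.single i (pwK (a i) (1, 0))) := by
      rw [hgu]
      congr 1
      funext m
      rcases eq_or_ne m i with rfl | hm
      · simp [hτ]
      · rw [Pi.single_eq_of_ne hm, Pi.single_eq_of_ne fun e => hm (τ.injective (e.trans hτ.symm)),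
          (pwK_eq_zero _ _).2 rfl]
    have e2 : K.act g'⁻¹ (ext (Pi.single j (1, 0))) = ext (Pi.single 0 (pwK (-a' j) (1, 0))) := by
      refine hinvact g' _ _ ?_
      rw [hgu']
      congr 1
      funext m
      rcases eq_or_ne m j with rfl | hm
      · simp [hτ', ← pwK_add, pwK_zero]
      · rw [Pi.single_eq_of_ne hm, Pi.single_eq_of_ne fun e => hm (τ'.injective (e.trans hτ'.symm)),
          (pwK_eq_zero _ _).2 rfl]
    have hnz : ∀ b : ZMod 3, pwK b (1, 0) ≠ (0 : K4) := fun b e => absurd ((pwK_eq_zero _ _).1 e) one_zero_ne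
    have he1 := hconj g hg e he
    have h0 := move g hgM hg i 0 ⟨_, hnz _, e1⟩ e he hne
    exact ⟨_, ⟨g'⁻¹⁻¹ * (g⁻¹ * e * g) * g'⁻¹, hconj _ (inv_smul_eq_iff.2 hg'.symm) _ he1, rfl⟩,
      move g'⁻¹ (inv_mem hgM') (inv_smul_eq_iff.2 hg'.symm) 0 j ⟨_, hnz _, e2⟩ _ he1 h0⟩
  by_cases hDne : ∃ u ∈ D, u ≠ 0
  · -- the image has order 256
    have hDall := closure_top hD0 hDadd hDdg hDmv hDne
    let f : E' →* Multiplicative (Fin 4 → K4) :=
      MonoidHom.mk' (fun e => Multiplicative.ofAdd (φ e)) fun a b => by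
        show Multiplicative.ofAdd (φ ((a : L) * b)) = _
        rw [hφmul _ a.2 _ b.2]; rfl
    have hsurj : Function.Surjective f := fun u => by
      obtain ⟨e, he, hu⟩ := hDall u.toAdd
      exact ⟨⟨e, he⟩, congrArg Multiplicative.ofAdd hu⟩
    exfalso
    have h256 := (Subgroup.card_dvd_of_surjective f hsurj).trans hdvd
    rw [Nat.card_congr (Multiplicative.toAdd (α := Fin 4 → K4)), Nat.card_eq_fintype_card, Fintype.card_fun,
      Fintype.card_prod, ZMod.card, Fintype.card_fin] at h256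
    norm_num at h256
  · push Not at hDne
    intro e he u
    have hz : ∀ i, φ e i = 0 := fun i => congrFun (hDne _ ⟨e, he, rfl⟩) i
    rw [show u = Pi.single 0 (u 0) + Pi.single 1 (u 1) + Pi.single 2 (u 2) + Pi.single 3 (u 3) by
      funext x; fin_cases x <;> simp]
    simp only [ext_add, K.act_add, hfixsingle e he _ (hz _)]

/-- Two elements of `M` fixing the line and the last four coordinates agree when they agree on the head. -/
theorem Coord.eq_of_head {e f : L} (he : e ∈ S.M) (hf : f ∈ S.M)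
    (hle : e • K.Ψ (repW 0) = K.Ψ (repW 0)) (hlf : f • K.Ψ (repW 0) = K.Ψ (repW 0))
    (hext : ∀ u, K.act e (ext u) = K.act f (ext u))
    (hef : K.act e ![(1, 0), 0, 0, 0, 0, 0] = K.act f ![(1, 0), 0, 0, 0, 0, 0]) : e = f := by
  have hall : ∀ w, K.act e w = K.act f w := by
    intro w
    have hn : K.act e (fun i => nuK (![(1, 0), 0, 0, 0, 0, 0] i)) =
        K.act f (fun i => nuK (![(1, 0), 0, 0, 0, 0, 0] i)) := by
      rw [K.act_nu he, K.act_nu hf]
      exact congrArg (fun (v : W6) i => nuK (v i)) hef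
    rw [eq_head_ext w]
    simp only [K.act_add, K.fix_line e he hle, K.fix_line f hf hlf, hext]
    congr 1
    congr 1
    rcases head_decomp (w 0 + w 1) with r | r | r | r <;> rw [r]
    · simp [Coord.act]
    · exact hef
    · exact hn
    · rw [K.act_add, K.act_add, hn]
      exact congrArg (· + _) hef
  refine mul_inv_eq_one.1 (S.faithful _ fun x => ?_)
  obtain ⟨w, rfl⟩ := K.Ψ.surjective x
  have h1 := congrArg K.Ψ (hall (K.act f⁻¹ w))
  rw [← K.act_mul f, mul_inv_cancel, K.act_one, ← K.act_mul] at h1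
  rw [Coord.act, AddEquiv.apply_symm_apply] at h1
  exact h1

/-- The head of an element fixing the line and the last four coordinates up to a scalar. -/
theorem Coord.head_of_fix {e : L} (he : e ∈ S.M) (hle : e • K.Ψ (repW 0) = K.Ψ (repW 0)) (c : ZMod 3)
    (hext : ∀ u, K.act e (ext u) = ext fun i => pwK c (u i)) :
    K.act e ![(1, 0), 0, 0, 0, 0, 0] = ![(1, 0), 0, 0, 0, 0, 0] ∨
      K.act e ![(1, 0), 0, 0, 0, 0, 0] = ![0, (1, 0), 0, 0, 0, 0] := by
  have key : ∀ i : Fin 4, ∀ p : K4, p ≠ 0 →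
      wt (K.act e ![(1, 0), 0, 0, 0, 0, 0] + ext (Pi.single i p)) % 2 =
        (wt (K.act e ![(1, 0), 0, 0, 0, 0, 0]) + 1) % 2 := by
    intro i p hp
    have hq : pwK (-c) p ≠ 0 := fun h => hp ((pwK_eq_zero _ _).1 h)
    have hs : (Pi.single i p : Fin 4 → K4) = fun m => pwK c ((Pi.single i (pwK (-c) p) : Fin 4 → K4) m) := by
      funext m
      rcases eq_or_ne m i with rfl | hm
      · simp [← pwK_add, pwK_zero]
      · simp [Pi.single_eq_of_ne hm, (pwK_eq_zero _ _).2 rfl]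
    conv_lhs => rw [hs, ← hext, ← K.act_add, K.act_wt]
    rw [Nat.add_mod (wt (K.act e _)), K.act_wt]
    exact wt_e0_single i _ hq
  have hwt : wt (K.act e ![(1, 0), 0, 0, 0, 0, 0]) % 2 = 1 := by rw [K.act_wt]; exact wt_e0
  have hx : K.act e (repW 0) = repW 0 := K.act_spec hle
  have hnu : K.act e (fun i => nuK (repW 0 i)) = fun i => nuK (repW 0 i) := by rw [K.act_nu he, hx]
  refine head_cases _ key hwt ?_ ?_
  · conv_lhs => rw [← hx, ← K.act_add, K.act_wt]
  · conv_lhs => rw [← hnu, ← K.act_add, K.act_wt]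

/-- No large normal elementary abelian 2-subgroup fixes the representative of weight two. -/
theorem Coord.no_two_normal [Finite L] [Finite W] (E : Subgroup L) (hinv : ∀ e ∈ E, e * e = 1)
    (hfix : ∀ e ∈ E, e • K.Ψ (repW 0) = K.Ψ (repW 0))
    (hnorm : ∀ g : L, g • K.Ψ (repW 0) = K.Ψ (repW 0) → ∀ e ∈ E, g * e * g⁻¹ ∈ E)
    (hcard : 32 ≤ Nat.card E) (hMi : S.M.index = 2)
    (horb : Nat.card (MulAction.orbit L (K.Ψ (repW 0))) = 378) (hL : Nat.card L = 19595520) : False := by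
  classical
  haveI := S.M_normal
  haveI : Fact (Nat.Prime 2) := ⟨Nat.prime_two⟩
  set E' := E ⊓ S.M with hE'
  have hE'card : 16 ≤ Nat.card E' := by
    let f : E →* L ⧸ S.M := (QuotientGroup.mk' S.M).comp E.subtype
    have h1 := f.ker.card_mul_index
    have h2 : f.ker.index ≤ 2 := by
      rw [Subgroup.index_ker, ← hMi]
      exact Nat.card_le_card_of_injective _ Subtype.val_injective
    have h3 : Nat.card f.ker = Nat.card E' := by
      refine Nat.card_congr
        { toFun := fun x => ⟨x.1.1, x.1.2, (QuotientGroup.eq_one_iff _).1 (MonoidHom.mem_ker.1 x.2)⟩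
          invFun := fun x => ⟨⟨x.1, x.2.1⟩, MonoidHom.mem_ker.2 ((QuotientGroup.eq_one_iff _).2 x.2.2)⟩
          left_inv := fun x => rfl
          right_inv := fun x => rfl }
    rw [h3] at h1
    nlinarith
  have hx : ∀ e ∈ E', K.act e (repW 0) = repW 0 := fun e he => K.act_spec (hfix e he.1)
  have hline : ∀ e ∈ E', ∀ p, K.act e (lineW p) = lineW p := by
    intro e he p
    have hnu : K.act e (fun i => nuK (repW 0 i)) = fun i => nuK (repW 0 i) := by
      rw [K.act_nu he.2, hx e he]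
    obtain ⟨a, b⟩ := p
    rcases line_cases a b with h | h | h | h <;> rw [h]
    · simp [Coord.act]
    · exact hx e he
    · exact hnu
    · rw [K.act_add, hx e he, hnu]
  have hU : ∀ e ∈ E', ∀ w : W6, w 0 = w 1 → K.act e w 0 = K.act e w 1 := by
    intro e he w hw
    obtain ⟨h1, h2⟩ := (ortho_iff w).2 hw
    have hnu : K.act e (fun i => nuK (repW 0 i)) = fun i => nuK (repW 0 i) := by
      rw [K.act_nu he.2, hx e he]
    refine (ortho_iff _).1 ⟨?_, ?_⟩
    · conv_lhs => rw [← hx e he, ← K.act_add]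
      rw [K.act_wt, K.act_wt, h1]
    · conv_lhs => rw [← hnu, ← K.act_add]
      rw [K.act_wt, K.act_wt, h2]
  have hrel : ∀ e ∈ E', ∀ u : Fin 4 → K4,
      K.act e (ext u) = lineW (K.act e (ext u) 0) + ext (tail (K.act e (ext u))) := fun e he u =>
    eq_line_ext (hU e he _ rfl)
  -- the action on the last four coordinates
  let P : L → (Fin 4 → K4) → (Fin 4 → K4) := fun e u => tail (K.act e (ext u))
  have hPmul : ∀ e ∈ E', ∀ f ∈ E', ∀ u, P (e * f) u = P e (P f u) := by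
    intro e he f hf u
    show tail (K.act (e * f) (ext u)) = tail (K.act e (ext (tail (K.act f (ext u)))))
    rw [K.act_mul]
    conv_lhs => rw [hrel f hf u, K.act_add, hline e he, tail_add, tail_line, zero_add]
  -- diagonal and monomial symmetries fixing the representative
  have hxline := K.fix_line
  have hdiag := K.diag_tail
  have hmono := K.mono_tail
  have hconj : ∀ g : L, g • K.Ψ (repW 0) = K.Ψ (repW 0) → ∀ e ∈ E', g⁻¹ * e * g ∈ E' := fun g hg e he =>
    ⟨by simpa using hnorm g⁻¹ (inv_smul_eq_iff.2 hg.symm) e he.1,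
      by simpa using S.M_normal.conj_mem e he.2 g⁻¹⟩
  have hconj' : ∀ g : L, g • K.Ψ (repW 0) = K.Ψ (repW 0) → ∀ e ∈ E', g * e * g⁻¹ ∈ E' := fun g hg e he => by
    simpa using hconj g⁻¹ (inv_smul_eq_iff.2 hg.symm) e he
  -- every vector of the last four coordinates is fixed modulo the line
  let F : Set (Fin 4 → K4) := {u | ∀ e ∈ E', P e u = u}
  have hFmove : ∀ g ∈ S.M, g • K.Ψ (repW 0) = K.Ψ (repW 0) → ∀ u u' : Fin 4 → K4,
      K.act g (ext u) = ext u' → u ∈ F → u' ∈ F := by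
    intro g hgM hg u u' huu hu e he
    show tail (K.act e (ext u')) = u'
    have h1 : tail (K.act (g⁻¹ * e * g) (ext u)) = u := hu _ (hconj g hg e he)
    rw [← huu, ← K.act_mul, show e * g = g * (g⁻¹ * e * g) by group, K.act_mul,
      hrel _ (hconj g hg e he) u, h1, K.act_add, hxline g hgM hg, huu, tail_add, tail_line, zero_add, tail_ext]
  have hF0 : (0 : Fin 4 → K4) ∈ F := fun e _ => by
    show tail (K.act e (ext 0)) = 0
    rw [ext_zero]
    rw [show K.act e 0 = 0 by simp [Coord.act], tail_zero]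
  have hFadd : ∀ u ∈ F, ∀ v ∈ F, u + v ∈ F := fun u hu v hv e he => by
    show tail (K.act e (ext (u + v))) = u + v
    rw [ext_add, K.act_add, tail_add]
    exact congrArg₂ (· + ·) (hu e he) (hv e he)
  have hFdg : ∀ c : Fin 4 → ZMod 3, ∑ i, c i = 0 → ∀ u ∈ F, dg4 c u ∈ F := fun c hc u hu => by
    obtain ⟨g, hgM, hg, hgw⟩ := hdiag c hc
    exact hFmove g hgM hg u _ (hgw u) hu
  have hinvact : ∀ g : L, ∀ v w : W6, K.act g v = w → K.act g⁻¹ w = v := fun g v w e => by
    rw [← e, ← K.act_mul, inv_mul_cancel, K.act_one]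
  have hFmv : ∀ i j : Fin 4, (∃ u ∈ F, u i ≠ 0) → ∃ u ∈ F, u j ≠ 0 := by
    rintro i j ⟨u, hu, hui⟩
    obtain ⟨g, hgM, hg, τ, a, hτ, hgu⟩ := hmono i
    let w : Fin 4 → K4 := fun m => pwK (-a (τ.symm m)) (u (τ.symm m))
    have e1 : K.act g (ext w) = ext u := by
      rw [hgu]
      congr 1
      funext m
      simp only [w, Equiv.symm_apply_apply, ← pwK_add, add_neg_cancel, pwK_zero]
    have hw : w ∈ F := hFmove g⁻¹ (inv_mem hgM) (inv_smul_eq_iff.2 hg.symm) u w (hinvact g _ _ e1) hu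
    have hw0 : w 0 ≠ 0 := fun e => hui (by
      have hi : τ.symm 0 = i := τ.symm_apply_eq.2 hτ.symm
      simp only [w, hi] at e
      exact (pwK_eq_zero _ _).1 e)
    obtain ⟨g', hgM', hg', τ', a', hτ', hgu'⟩ := hmono j
    refine ⟨_, hFmove g' hgM' hg' _ _ (hgu' w) hw, fun e => hw0 ?_⟩
    have e' := (pwK_eq_zero _ _).1 e
    rwa [hτ'] at e'
  have hp2 : IsPGroup 2 E' := fun e => ⟨1, Subtype.ext (by
    rw [pow_one, SubgroupClass.coe_pow, pow_two]; exact hinv _ e.2.1)⟩
  have hFne : ∃ u ∈ F, u ≠ 0 := by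
    let ρ : E' →* Equiv.Perm (Fin 4 → K4) :=
      { toFun := fun e =>
          { toFun := P e
            invFun := P (e⁻¹ : E')
            left_inv := fun u => by
              rw [← hPmul _ (e⁻¹).2 _ e.2, Subgroup.coe_inv, inv_mul_cancel]
              show tail (K.act 1 (ext u)) = u
              rw [K.act_one, tail_ext]
            right_inv := fun u => by
              rw [← hPmul _ e.2 _ (e⁻¹).2, Subgroup.coe_inv, mul_inv_cancel]
              show tail (K.act 1 (ext u)) = u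
              rw [K.act_one, tail_ext] }
        map_one' := Equiv.ext fun u => by
          show tail (K.act 1 (ext u)) = u
          rw [K.act_one, tail_ext]
        map_mul' := fun e f => Equiv.ext fun u => hPmul _ e.2 _ f.2 u }
    letI : MulAction E' (Fin 4 → K4) := MulAction.compHom _ ρ
    obtain ⟨b, hb, hb0⟩ := hp2.exists_fixed_point_of_prime_dvd_card_of_fixed_point (Fin 4 → K4)
      (by rw [Nat.card_eq_fintype_card, Fintype.card_fun, Fintype.card_prod, ZMod.card, Fintype.card_fin]; norm_num)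
      (a := 0) (fun e => hF0 e.1 e.2)
    exact ⟨b, fun e he => hb ⟨e, he⟩, Ne.symm hb0⟩
  have hFall := closure_top hF0 hFadd hFdg hFmv hFne
  have hsplit : ∀ e ∈ E', ∀ u, K.act e (ext u) = lineW (K.act e (ext u) 0) + ext u := fun e he u => by
    conv_lhs => rw [hrel e he u]
    rw [show tail (K.act e (ext u)) = u from hFall u e he]
  have hstab : Nat.card (MulAction.stabilizer L (K.Ψ (repW 0))) = 51840 := by
    have h := (MulAction.stabilizer L (K.Ψ (repW 0))).card_mul_index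
    rw [show (MulAction.stabilizer L (K.Ψ (repW 0))).index = 378 by
      rw [← horb, Nat.card_congr (MulAction.orbitEquivQuotientStabilizer L (K.Ψ (repW 0)))]; rfl, hL] at h
    omega
  have hEdvd : Nat.card E' ∣ 51840 :=
    hstab ▸ Subgroup.card_dvd_of_le fun e he => MulAction.mem_stabilizer_iff.2 (hfix e he.1)
  have hfixext := K.fix_ext E' inf_le_right (fun e he => hfix e he.1) hconj' hsplit hEdvd
  -- at most two elements
  let y : L → W6 := fun e => K.act e ![(1, 0), 0, 0, 0, 0, 0]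
  have hy : ∀ e ∈ E', y e = ![(1, 0), 0, 0, 0, 0, 0] ∨ y e = ![0, (1, 0), 0, 0, 0, 0] := fun e he =>
    K.head_of_fix he.2 (hfix e he.1) 0 fun u => by rw [hfixext e he]; rfl
  have hdet : ∀ e ∈ E', ∀ f ∈ E', y e = y f → e = f := fun e he f hf =>
    K.eq_of_head he.2 hf.2 (hfix e he.1) (hfix f hf.1) fun u => by rw [hfixext e he, hfixext f hf]
  have hle2 : Nat.card E' ≤ 2 := by
    let f : E' → Bool := fun e => decide (y e = ![(1, 0), 0, 0, 0, 0, 0])
    have hf : Function.Injective f := by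
      intro e e' h
      refine Subtype.ext (hdet e e.2 e' e'.2 ?_)
      simp only [f, decide_eq_decide] at h
      rcases hy e e.2 with r | r <;> rcases hy e' e'.2 with r' | r'
      · rw [r, r']
      · rw [r, r'] at h; exact absurd (h.1 rfl) e0_ne_e1
      · rw [r, r'] at h; exact absurd (h.2 rfl) e0_ne_e1
      · rw [r, r']
    exact (Nat.card_le_card_of_injective f hf).trans (by simp)
  omega

end Setting

end Cfsg.Agent.Lib.FischerType
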