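import Mathlib
import Cfsg.Agent.Lib.FischerType.Small
import Cfsg.Agent.Lib.FischerType.Alt6

/-!
Elements fixing the all-one vector: the weight forces a transvection.
-/

set_option autoImplicit false

namespace Cfsg.Agent.Lib.FischerType

/-- The all-one vector. -/
def ones : W6 := fun _ => (1, 0)

/-- Constant vectors. -/
def constW (p : K4) : W6 := fun _ => p

/-- The parity of being nonzero. -/
def nz2 (p : K4) : ZMod 2 := if p = 0 then 0 else 1

theorem wt_cast (w : W6) : (wt w : ZMod 2) = ∑ i, nz2 (w i) := by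
  rw [wt, Finset.natCast_card_filter]
  refine Finset.sum_congr rfl fun i _ => ?_
  by_cases h : w i = 0 <;> simp [nz2, h]

theorem wt_mod_iff (v w : W6) : wt v % 2 = wt w % 2 ↔ (∑ i, nz2 (v i)) = ∑ i, nz2 (w i) := by
  rw [← wt_cast, ← wt_cast]; exact (ZMod.natCast_eq_natCast_iff' _ _ _).symm

theorem nz2_shift : ∀ p : K4, nz2 (p + (1, 0)) = nz2 p + 1 + p.2 ∧ nz2 (p + (0, 1)) = nz2 p + 1 + p.1 := by
  decide +kernel

theorem ones_ortho (w : W6) :
    (wt (w + ones) % 2 = wt w % 2 ∧ wt (w + fun i => nuK (ones i)) % 2 = wt w % 2) ↔ ∑ i, w i = 0 := by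
  rw [wt_mod_iff, wt_mod_iff]
  have e1 : ∑ i, nz2 ((w + ones) i) = (∑ i, nz2 (w i)) + (∑ i, w i).2 := by
    rw [Finset.sum_congr rfl fun i _ => show nz2 ((w + ones) i) = nz2 (w i) + 1 + (w i).2 from (nz2_shift _).1,
      Finset.sum_add_distrib, Finset.sum_add_distrib, Prod.snd_sum]
    simp [show (6 : ZMod 2) = 0 from rfl]
  have e2 : ∑ i, nz2 ((w + fun i => nuK (ones i)) i) = (∑ i, nz2 (w i)) + (∑ i, w i).1 := by
    rw [Finset.sum_congr rfl fun i _ =>
        show nz2 ((w + fun i => nuK (ones i)) i) = nz2 (w i) + 1 + (w i).1 from (nz2_shift _).2,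
      Finset.sum_add_distrib, Finset.sum_add_distrib, Prod.fst_sum]
    simp [show (6 : ZMod 2) = 0 from rfl]
  rw [e1, e2, add_eq_left, add_eq_left, Prod.ext_iff]
  exact ⟨fun ⟨a, b⟩ => ⟨b, a⟩, fun ⟨a, b⟩ => ⟨b, a⟩⟩

theorem const_sum : ∀ p : K4, ∑ _i : Fin 6, p = 0 := by decide +kernel

/-- Coordinates modulo the constants. -/
def pr (w : W6) : Fin 4 → K4 := ![w 1 + w 0, w 2 + w 0, w 3 + w 0, w 4 + w 0]

/-- A representative with zero sum. -/
def sec (a : Fin 4 → K4) : W6 := ![0, a 0, a 1, a 2, a 3, a 0 + a 1 + a 2 + a 3]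

theorem sec_sum (a : Fin 4 → K4) : ∑ i, sec a i = 0 := by
  simp [Fin.sum_univ_six, sec, k4_self]

theorem pr_add (u v : W6) : pr (u + v) = pr u + pr v := by
  funext i; fin_cases i <;> simp [pr] <;> abel

theorem pr_const (p : K4) : pr (constW p) = 0 := by funext i; fin_cases i <;> simp [pr, constW, k4_self]

theorem pr_sec (a : Fin 4 → K4) : pr (sec a) = a := by funext i; fin_cases i <;> simp [pr, sec]

theorem const_cases : ∀ a b : ZMod 2, constW (a, b) = 0 ∨ constW (a, b) = ones ∨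
    constW (a, b) = (fun i => nuK (ones i)) ∨ constW (a, b) = ones + fun i => nuK (ones i) := by
  decide +kernel

theorem k4_last : ∀ a b c d e f : K4, a + b + c + d + e + f = 0 →
    f = a + ((b + a) + (c + a) + (d + a) + (e + a)) := by decide +kernel

theorem eq_const_sec {w : W6} (h : ∑ i, w i = 0) : w = constW (w 0) + sec (pr w) := by
  rw [Fin.sum_univ_six] at h
  funext i
  fin_cases i <;> simp [constW, sec, pr]
  · rw [add_left_comm, k4_self, add_zero]
  · rw [add_left_comm, k4_self, add_zero]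
  · rw [add_left_comm, k4_self, add_zero]
  · rw [add_left_comm, k4_self, add_zero]
  · exact k4_last _ _ _ _ _ _ h

/-- Two equal nonzero coordinates. -/
def pairW (i j : Fin 6) (d : K4) : W6 := Pi.single i d + Pi.single j d

theorem three_others : ∀ k l : Fin 6, k ≠ l → ∃ a b c : Fin 6, a ≠ k ∧ a ≠ l ∧ b ≠ k ∧ b ≠ l ∧ c ≠ k ∧ c ≠ l ∧
    a ≠ b ∧ a ≠ c ∧ b ≠ c := by decide +kernel

theorem two_others : ∀ a b : Fin 6, a ≠ b → ∃ c d : Fin 6, c ≠ d ∧ c ≠ a ∧ c ≠ b ∧ d ≠ a ∧ d ≠ b := by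
  decide +kernel

theorem exists_four (w : W6) (hcon : ∃ i, w i ≠ w 0) : ∃ i j k l : Fin 6, i ≠ j ∧ i ≠ k ∧ i ≠ l ∧ j ≠ k ∧ j ≠ l ∧
    k ≠ l ∧ w i ≠ w j ∧ w k = w l := by
  obtain ⟨k, l, hkl, ekl⟩ := Fintype.exists_ne_map_eq_of_card_lt w (by decide +kernel)
  by_cases hrest : ∃ i j, i ≠ k ∧ i ≠ l ∧ j ≠ k ∧ j ≠ l ∧ w i ≠ w j
  · obtain ⟨i, j, h1, h2, h3, h4, h5⟩ := hrest
    exact ⟨i, j, k, l, fun e => h5 (congrArg w e), h1, h2, h3, h4, hkl, h5, ekl⟩
  push Not at hrest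
  obtain ⟨a, b, c, hak, hal, hbk, hbl, hck, hcl, hab, hac, hbc⟩ := three_others k l hkl
  refine ⟨k, a, b, c, Ne.symm hak, Ne.symm hbk, Ne.symm hck, hab, hac, hbc, fun e => ?_, hrest b c hbk hbl hck hcl⟩
  have hall : ∀ m, w m = w a := by
    intro m
    by_cases h1 : m = k
    · rw [h1, e]
    by_cases h2 : m = l
    · rw [h2, ← ekl, e]
    exact hrest m a h1 h2 hak hal
  obtain ⟨m, hm⟩ := hcon
  exact hm ((hall m).trans (hall 0).symm)

theorem exists_even_map : ∀ i j a b : Fin 6, i ≠ j → a ≠ b →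
    ∃ σ : Equiv.Perm (Fin 6), Equiv.Perm.sign σ = 1 ∧ σ i = a ∧ σ j = b := by
  intro i j a b hij hab
  let τ := Equiv.swap i a
  let σ := Equiv.swap (τ j) b * τ
  have hτj : τ j ≠ a := fun e => hij (τ.injective (e.trans (Equiv.swap_apply_left i a).symm)).symm
  have hi : σ i = a := by
    show Equiv.swap (τ j) b (τ i) = a
    rw [show τ i = a from Equiv.swap_apply_left _ _, Equiv.swap_apply_of_ne_of_ne (Ne.symm hτj) hab]
  have hj : σ j = b := Equiv.swap_apply_left _ _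
  rcases Int.units_eq_one_or (Equiv.Perm.sign σ) with e | e
  · exact ⟨σ, e, hi, hj⟩
  · obtain ⟨c, d, hcd, hca, hcb, hda, hdb⟩ : ∃ c d : Fin 6, c ≠ d ∧ c ≠ a ∧ c ≠ b ∧ d ≠ a ∧ d ≠ b := by
      exact two_others a b hab
    refine ⟨Equiv.swap c d * σ, by rw [map_mul, e, Equiv.Perm.sign_swap hcd]; rfl, ?_, ?_⟩
    · show Equiv.swap c d (σ i) = a
      rw [hi, Equiv.swap_apply_of_ne_of_ne (Ne.symm hca) (Ne.symm hda)]
    · show Equiv.swap c d (σ j) = b
      rw [hj, Equiv.swap_apply_of_ne_of_ne (Ne.symm hcb) (Ne.symm hdb)]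

theorem pairW_nu (i j : Fin 6) (d : K4) : (fun m => nuK (pairW i j d m)) = pairW i j (nuK d) := by
  have h0 : ∀ (a : Fin 6) (m : Fin 6), nuK ((Pi.single a d : W6) m) = (Pi.single a (nuK d) : W6) m := by
    intro a m
    rcases eq_or_ne m a with rfl | hm
    · simp
    · simp [Pi.single_eq_of_ne hm, nuK]
  have hadd : ∀ p q : K4, nuK (p + q) = nuK p + nuK q := by decide +kernel
  funext m
  simp [pairW, hadd, h0]

/-- Pairs spanning the vectors of zero sum. -/
theorem zero_sum_le {H : Set W6} (h0 : (0 : W6) ∈ H) (hadd : ∀ u ∈ H, ∀ v ∈ H, u + v ∈ H)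
    (hnu : ∀ u ∈ H, (fun m => nuK (u m)) ∈ H)
    (hperm : ∀ σ : Equiv.Perm (Fin 6), Equiv.Perm.sign σ = 1 → ∀ u ∈ H, (fun m => u (σ.symm m)) ∈ H)
    (hne : ∃ u ∈ H, ∃ i, u i ≠ u 0) : ∀ w : W6, ∑ i, w i = 0 → w ∈ H := by
  obtain ⟨u, hu, hcon⟩ := hne
  obtain ⟨i, j, k, l, hij, hik, hil, hjk, hjl, hkl, huij, hukl⟩ := exists_four u hcon
  let σ := Equiv.swap i j * Equiv.swap k l
  have hσ : Equiv.Perm.sign σ = 1 := by
    rw [map_mul, Equiv.Perm.sign_swap hij, Equiv.Perm.sign_swap hkl]; rfl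
  have hd : pairW i j (u i + u j) ∈ H := by
    convert hadd u hu _ (hperm σ hσ u hu) using 1
    funext m
    have hsymm : σ.symm m = Equiv.swap k l (Equiv.swap i j m) := rfl
    simp only [pairW, Pi.add_apply, hsymm]
    by_cases h1 : m = i
    · subst h1
      rw [Equiv.swap_apply_left, Equiv.swap_apply_of_ne_of_ne hjk hjl, Pi.single_eq_same,
        Pi.single_eq_of_ne hij, add_zero]
    by_cases h2 : m = j
    · subst h2
      rw [Equiv.swap_apply_right, Equiv.swap_apply_of_ne_of_ne hik hil, Pi.single_eq_same,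
        Pi.single_eq_of_ne (Ne.symm hij), zero_add, add_comm]
    rw [Equiv.swap_apply_of_ne_of_ne h1 h2, Pi.single_eq_of_ne h1, Pi.single_eq_of_ne h2, add_zero]
    by_cases h3 : m = k
    · subst h3; rw [Equiv.swap_apply_left, hukl]; exact (k4_self _).symm
    by_cases h4 : m = l
    · subst h4; rw [Equiv.swap_apply_right, hukl]; exact (k4_self _).symm
    rw [Equiv.swap_apply_of_ne_of_ne h3 h4]
    exact (k4_self _).symm
  have hd0 : u i + u j ≠ 0 := fun e => huij (by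
    have h := congrArg (· + u j) e
    simpa [add_assoc, k4_self] using h)
  have hall : ∀ a b : Fin 6, a ≠ b → ∀ d, pairW a b d ∈ H := by
    intro a b hab d
    obtain ⟨τ, hτ, ha, hb⟩ := exists_even_map i j a b hij hab
    have h1 : pairW a b (u i + u j) ∈ H := by
      convert hperm τ hτ _ hd using 1
      funext m
      simp only [pairW, Pi.add_apply]
      have key : ∀ (x y : Fin 6) (p : K4), τ x = y → (Pi.single y p : W6) m = (Pi.single x p : W6) (τ.symm m) := by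
        intro x y p hxy
        subst hxy
        rcases eq_or_ne m (τ x) with rfl | hm
        · simp
        · rw [Pi.single_eq_of_ne hm, Pi.single_eq_of_ne fun e => hm (τ.symm_apply_eq.1 e)]
      rw [key i a _ ha, key j b _ hb]
    have hpw : ∀ n : ℕ, pairW a b (nuK^[n] (u i + u j)) ∈ H := by
      intro n
      induction n with
      | zero => exact h1
      | succ n ih =>
        rw [Function.iterate_succ_apply', ← pairW_nu]
        exact hnu _ ih
    obtain ⟨c, rfl | rfl⟩ := span_facts _ d hd0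
    · simpa [pairW] using h0
    · exact hpw _
  intro w hw
  have e : w = pairW 0 1 (w 1) + pairW 0 2 (w 2) + pairW 0 3 (w 3) + pairW 0 4 (w 4) + pairW 0 5 (w 5) := by
    rw [Fin.sum_univ_six] at hw
    have h0' : ∀ a b c d e f : K4, a + b + c + d + e + f = 0 → a = b + c + d + e + f := by decide +kernel
    funext m
    fin_cases m <;> simp [pairW, h0' _ _ _ _ _ _ hw]
  rw [e]
  exact hadd _ (hadd _ (hadd _ (hadd _ (hall _ _ (by decide) _) _ (hall _ _ (by decide) _)) _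
    (hall _ _ (by decide) _)) _ (hall _ _ (by decide) _)) _ (hall _ _ (by decide) _)

/-- The five-cycle fixing the first coordinate. -/
def cyc5 : Equiv.Perm (Fin 6) :=
  Equiv.swap 1 2 * Equiv.swap 2 3 * Equiv.swap 3 4 * Equiv.swap 4 5

theorem cyc5_spec : Equiv.Perm.sign cyc5 = 1 ∧ cyc5 ^ 5 = 1 ∧ cyc5 1 = 2 ∧ cyc5 2 = 3 ∧ cyc5 3 = 4 ∧
    cyc5 4 = 5 ∧ cyc5 5 = 1 ∧ cyc5 0 = 0 := by decide +kernel

theorem forced_shift : ∀ a b : K4, (∀ d : K4, nz2 (a + d) + nz2 (b + d) + nz2 a + nz2 b =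
    nz2 ((1, 0) + d) + nz2 (0 + d) + nz2 (1, 0) + nz2 0) → b = a + (1, 0) := by decide +kernel

theorem pair_diff (v : W6) {j : Fin 6} (hj : j ≠ 0) (d : K4) :
    (∑ i, nz2 ((v + pairW 0 j d) i)) + ∑ i, nz2 (v i) =
      nz2 (v 0 + d) + nz2 (v j + d) + nz2 (v 0) + nz2 (v j) := by
  rw [← Finset.sum_add_distrib, Finset.sum_eq_add (0 : Fin 6) j (Ne.symm hj)]
  · simp [pairW, Pi.single_eq_of_ne hj, Pi.single_eq_of_ne (Ne.symm hj)]
    abel
  · rintro c - ⟨hc0, hcj⟩
    simp [pairW, Pi.single_eq_of_ne hc0, Pi.single_eq_of_ne hcj, CharTwo.add_self_eq_zero]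
  · simp
  · simp

theorem head_facts : ∀ j : Fin 6, j ≠ 0 →
    (![(1, 0), 0, 0, 0, 0, 0] : W6) j = 0 := by decide +kernel

theorem forced_const : ∀ c : K4, wt (![(1, 0), 0, 0, 0, 0, 0] + constW c) % 2 = 1 → c = 0 ∨ c = (1, 0) := by
  decide +kernel

theorem ortho_head {y : W6}
    (h : ∀ u : W6, ∑ i, u i = 0 → wt (y + u) % 2 = wt (![(1, 0), 0, 0, 0, 0, 0] + u) % 2) :
    y = ![(1, 0), 0, 0, 0, 0, 0] + constW (y 0 + (1, 0)) := by
  have hy : ∀ j : Fin 6, j ≠ 0 → y j = y 0 + (1, 0) := by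
    intro j hj
    refine forced_shift _ _ fun d => ?_
    have hz := (wt_mod_iff _ _).1 (h 0 (by simp))
    have hd : ∑ i, pairW 0 j d i = 0 := by
      simp [pairW, Finset.sum_add_distrib, k4_self]
    have hp := (wt_mod_iff _ _).1 (h _ hd)
    simp only [add_zero] at hz
    rw [← pair_diff y hj d, hp, hz, pair_diff _ hj d, head_facts j hj]
    rfl
  funext i
  fin_cases i
  · show y 0 = (1, 0) + (y 0 + (1, 0))
    rw [add_left_comm, k4_self, add_zero]
  all_goals (simp [constW]; exact hy _ (by decide))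

/-- The transvection along the all-one vector does not preserve the two orbits. -/
theorem transvection_witness : ∀ k : Fin 5, 2 ≤ k → k ≠ 2 → ∃ u : W6, Sing u ∧ ¬ (blk u = 0 ∨ blk u = k) ∧
    Sing (u + constW (∑ i, u i)) ∧ (blk (u + constW (∑ i, u i)) = 0 ∨ blk (u + constW (∑ i, u i)) = k) := by
  intro k hk2 hk
  have hcases : k = 3 ∨ k = 4 := by revert k; decide
  rcases hcases with rfl | rfl
  · exact ⟨![0, 0, (1, 0), (1, 0), (1, 0), (0, 1)], by decide +kernel⟩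
  · exact ⟨![0, 0, (1, 0), (1, 0), (1, 0), (1, 1)], by decide +kernel⟩

end Cfsg.Agent.Lib.FischerType
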