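import Mathlib
import Cfsg.Agent.Lib.FischerType.Ones

/-!
A group normalised by the stabiliser of the all-one vector excludes a central element of order three.
-/

set_option autoImplicit false

namespace Cfsg.Agent.Lib.FischerType

theorem pwK_fix_one : ∀ a : ZMod 3, pwK a (1, 0) = (1, 0) → a = 0 := by decide +kernel

theorem nuK_map_add : ∀ p q : K4, nuK (p + q) = nuK p + nuK q := by decide +kernel

theorem k4_shift : ∀ a b c : K4, a + c = b + c + (a + b) := by decide +kernel

theorem k4_five : ∀ p : K4, p + p + p + p + p = 0 → p = 0 := by decide +kernel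

theorem k4_six : ∀ a b c d e f : K4, a + b + c + d + e + f = 0 → a + b + c + d + e = f := by decide +kernel

theorem k4_six4 : ∀ a b c d e f : K4, a + b + c + d + e + f = 0 → e = a + b + c + d + f := by decide +kernel

theorem k4_cancel : ∀ a b : K4, a + (a + b) = b := by decide +kernel

theorem single_const_nu : (fun i => nuK ((![(1, 0), 0, 0, 0, 0, 0] + constW (1, 0) : W6) i)) =
    (![(0, 1), 0, 0, 0, 0, 0] : W6) + constW (0, 1) := by decide +kernel

theorem single_const_both : (![(1, 0), 0, 0, 0, 0, 0] + constW (1, 0) : W6) +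
    ((![(0, 1), 0, 0, 0, 0, 0] : W6) + constW (0, 1)) = (![(1, 1), 0, 0, 0, 0, 0] : W6) + constW (1, 1) := by
  decide +kernel

theorem k4_cases : ∀ s : K4, s = 0 ∨ s = (1, 0) ∨ s = (0, 1) ∨ s = (1, 1) := by decide +kernel

theorem head_vals : (![0, 0, 0, 0, 0, 0] : W6) = 0 ∧
    (![(0, 1), 0, 0, 0, 0, 0] : W6) = (fun i => nuK ((![(1, 0), 0, 0, 0, 0, 0] : W6) i)) ∧
    (![(1, 1), 0, 0, 0, 0, 0] : W6) =
      (![(1, 0), 0, 0, 0, 0, 0] : W6) + fun i => nuK ((![(1, 0), 0, 0, 0, 0, 0] : W6) i) := by decide +kernel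

theorem single_zero_eq (s : K4) : (Pi.single 0 s : W6) = ![s, 0, 0, 0, 0, 0] := by
  funext m; fin_cases m <;> simp

namespace Setting

variable {L W : Type*} [Group L] [AddCommGroup W] [DistribMulAction L W] {S : Setting L W} {Q : Form L W}
  (K : S.Coord Q)

theorem Coord.act_zero (e : L) : K.act e 0 = 0 := by simp [Coord.act]

theorem Coord.act_nu_comm {e : L} (he : e * S.n = S.n * e) (w : W6) :
    K.act e (fun i => nuK (w i)) = fun i => nuK (K.act e w i) := by
  apply K.Ψ.injective
  rw [Coord.act, AddEquiv.apply_symm_apply, K.nu, K.nu, Coord.act, AddEquiv.apply_symm_apply, ← mul_smul, he,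
    mul_smul]

theorem Coord.act_inv_eq {e : L} {v w : W6} (h : K.act e v = w) : K.act e⁻¹ w = v := by
  rw [← h, ← K.act_mul, inv_mul_cancel, K.act_one]

/-- There is no group of order 32 as for a conjugate in the centre-linear case. -/
theorem Coord.no_ones_group [Finite L] [Finite W] (hcent : ∀ g : L, g * S.n = S.n * g) (E : Subgroup L)
    (hinv : ∀ e ∈ E, e * e = 1) (hfix : ∀ e ∈ E, e • K.Ψ ones = K.Ψ ones)
    (hnorm : ∀ g : L, g • K.Ψ ones = K.Ψ ones → ∀ e ∈ E, g * e * g⁻¹ ∈ E) (hcard : Nat.card E = 32)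
    (k : Fin 5) (hk2 : 2 ≤ k) (hk : k ≠ 2)
    (hsmall : ∀ w, Sing w → ((∃ g : L, g • K.Ψ (repW 0) = K.Ψ w) ↔ (blk w = 0 ∨ blk w = k))) : False := by
  classical
  haveI : Fact (Nat.Prime 2) := ⟨Nat.prime_two⟩
  haveI : Fact (Nat.Prime 5) := ⟨by norm_num⟩
  have hline : ∀ e : L, e • K.Ψ ones = K.Ψ ones → ∀ p, K.act e (constW p) = constW p := by
    intro e he p
    have h1 : K.act e ones = ones := K.act_spec he
    have h2 : K.act e (fun i => nuK (ones i)) = fun i => nuK (ones i) := by rw [K.act_nu_comm (hcent e), h1]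
    obtain ⟨a, b⟩ := p
    rcases const_cases a b with h | h | h | h <;> rw [h]
    · exact K.act_zero e
    · exact h1
    · exact h2
    · rw [K.act_add, h1, h2]
  have hU : ∀ e : L, e • K.Ψ ones = K.Ψ ones → ∀ w : W6, ∑ i, w i = 0 → ∑ i, K.act e w i = 0 := by
    intro e he w hw
    obtain ⟨h1, h2⟩ := (ones_ortho w).2 hw
    have e1 : K.act e ones = ones := K.act_spec he
    have e2 : K.act e (fun i => nuK (ones i)) = fun i => nuK (ones i) := by rw [K.act_nu_comm (hcent e), e1]
    refine (ones_ortho _).1 ⟨?_, ?_⟩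
    · conv_lhs => rw [← e1, ← K.act_add]
      rw [K.act_wt, K.act_wt, h1]
    · conv_lhs => rw [← e2, ← K.act_add]
      rw [K.act_wt, K.act_wt, h2]
  have hrel : ∀ e : L, e • K.Ψ ones = K.Ψ ones → ∀ a,
      K.act e (sec a) = constW (K.act e (sec a) 0) + sec (pr (K.act e (sec a))) := fun e he a =>
    eq_const_sec (hU e he _ (sec_sum a))
  -- the action modulo the line
  let P : L → (Fin 4 → K4) → (Fin 4 → K4) := fun e a => pr (K.act e (sec a))
  have hPmul : ∀ e : L, e • K.Ψ ones = K.Ψ ones → ∀ f : L, f • K.Ψ ones = K.Ψ ones → ∀ a,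
      P (e * f) a = P e (P f a) := by
    intro e he f hf a
    show pr (K.act (e * f) (sec a)) = pr (K.act e (sec (pr (K.act f (sec a)))))
    rw [K.act_mul]
    conv_lhs => rw [hrel f hf a, K.act_add, hline e he, pr_add, pr_const, zero_add]
  have hperm : ∀ σ : Equiv.Perm (Fin 6), Equiv.Perm.sign σ = 1 →
      ∃ g : L, g • K.Ψ ones = K.Ψ ones ∧ ∀ w, K.act g w = fun m => w (σ.symm m) := by
    intro σ hσ
    obtain ⟨φ, -, hφ, hφa⟩ := K.exists_alt6 (x := ones) (fun _ => one_zero_ne)
    obtain ⟨t, ht, htx⟩ := hφa ⟨σ, Equiv.Perm.mem_alternatingGroup.2 hσ⟩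
    refine ⟨φ ⟨σ, Equiv.Perm.mem_alternatingGroup.2 hσ⟩, hφ _, fun w => K.act_spec ?_⟩
    rw [ht]
    congr 1
    funext m
    have hz := pwK_fix_one
    have h1 : t (σ.symm m) = 0 := hz _ (congrFun htx m)
    show pwK (t (σ.symm m)) (w (σ.symm m)) = _
    rw [h1, pwK_zero]
  have hE : ∀ e ∈ E, e • K.Ψ ones = K.Ψ ones := hfix
  have hconj : ∀ g : L, g • K.Ψ ones = K.Ψ ones → ∀ e ∈ E, g⁻¹ * e * g ∈ E := fun g hg e he => by
    simpa using hnorm g⁻¹ (inv_smul_eq_iff.2 hg.symm) e he
  -- `E` is trivial modulo the line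
  let H : Set W6 := {w | ∑ i, w i = 0 ∧ ∀ e ∈ E, pr (K.act e w) = pr w}
  have hHnu : ∀ u ∈ H, (fun m => nuK (u m)) ∈ H := by
    rintro u ⟨hu, h⟩
    have hadd := nuK_map_add
    have hprnu : ∀ v : W6, pr (fun m => nuK (v m)) = fun i => nuK (pr v i) := fun v => by
      funext i; fin_cases i <;> simp [pr, hadd]
    refine ⟨?_, fun e he => ?_⟩
    · let f : K4 →+ K4 := AddMonoidHom.mk' nuK hadd
      show ∑ m, f (u m) = 0
      rw [← map_sum, hu, map_zero]
    · rw [K.act_nu_comm (hcent e), hprnu, hprnu, h e he]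
  have hHperm : ∀ σ : Equiv.Perm (Fin 6), Equiv.Perm.sign σ = 1 → ∀ u ∈ H, (fun m => u (σ.symm m)) ∈ H := by
    rintro σ hσ u ⟨hu, h⟩
    obtain ⟨g, hg, hgw⟩ := hperm σ hσ
    refine ⟨by rw [Equiv.sum_comp σ.symm u]; exact hu, fun e he => ?_⟩
    rw [← hgw, ← K.act_mul, show e * g = g * (g⁻¹ * e * g) by group, K.act_mul]
    have h1 := h _ (hconj g hg e he)
    have h2 := eq_const_sec (hU _ (hE _ (hconj g hg e he)) u hu)
    conv_lhs => rw [h2, h1]
    conv_rhs => rw [eq_const_sec hu]
    rw [K.act_add, K.act_add, hline g hg, hline g hg, pr_add, pr_add, pr_const, pr_const]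
  have hne : ∃ u ∈ H, ∃ i, u i ≠ u 0 := by
    let ρ : E →* Equiv.Perm (Fin 4 → K4) :=
      { toFun := fun e =>
          { toFun := P e
            invFun := P (e⁻¹ : E)
            left_inv := fun u => by
              rw [← hPmul _ (hE _ (e⁻¹).2) _ (hE _ e.2), Subgroup.coe_inv, inv_mul_cancel]
              show pr (K.act 1 (sec u)) = u
              rw [K.act_one, pr_sec]
            right_inv := fun u => by
              rw [← hPmul _ (hE _ e.2) _ (hE _ (e⁻¹).2), Subgroup.coe_inv, mul_inv_cancel]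
              show pr (K.act 1 (sec u)) = u
              rw [K.act_one, pr_sec] }
        map_one' := Equiv.ext fun u => by
          show pr (K.act 1 (sec u)) = u
          rw [K.act_one, pr_sec]
        map_mul' := fun e f => Equiv.ext fun u => hPmul _ (hE _ e.2) _ (hE _ f.2) u }
    letI : MulAction E (Fin 4 → K4) := MulAction.compHom _ ρ
    have hp2 : IsPGroup 2 E := fun e => ⟨1, Subtype.ext (by
      rw [pow_one, SubgroupClass.coe_pow, pow_two]; exact hinv _ e.2)⟩
    obtain ⟨b, hb, hb0⟩ := hp2.exists_fixed_point_of_prime_dvd_card_of_fixed_point (Fin 4 → K4)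
      (by rw [Nat.card_eq_fintype_card, Fintype.card_fun, Fintype.card_prod, ZMod.card, Fintype.card_fin]; norm_num)
      (a := 0) (fun e => by
        show pr (K.act e (sec 0)) = 0
        rw [show sec 0 = constW 0 by funext i; fin_cases i <;> simp [sec, constW], hline _ (hE _ e.2), pr_const])
    refine ⟨sec b, ⟨sec_sum b, fun e he => (hb ⟨e, he⟩).trans (pr_sec b).symm⟩, ?_⟩
    by_contra hno
    push Not at hno
    refine hb0 ?_
    rw [← pr_sec b]
    funext i
    fin_cases i <;> simp [pr, hno, k4_self]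
  have hH : ∀ w : W6, ∑ i, w i = 0 → w ∈ H := by
    refine zero_sum_le ⟨by simp, fun e _ => by rw [K.act_zero]⟩ ?_ hHnu hHperm hne
    rintro u ⟨hu, h⟩ v ⟨hv, h'⟩
    exact ⟨by simp [Finset.sum_add_distrib, hu, hv], fun e he => by rw [K.act_add, pr_add, pr_add, h e he, h' e he]⟩
  have hsplit : ∀ e ∈ E, ∀ w : W6, ∑ i, w i = 0 → ∃ p, K.act e w = w + constW p := by
    intro e he w hw
    have h1 := eq_const_sec (hU e (hE e he) w hw)
    rw [(hH w hw).2 e he] at h1
    have h2 := eq_const_sec hw
    refine ⟨K.act e w 0 + w 0, funext fun i => ?_⟩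
    show K.act e w i = w i + (K.act e w 0 + w 0)
    rw [congrFun h1 i]
    conv_rhs => arg 1; rw [congrFun h2 i]
    exact k4_shift _ _ _
  -- an element fixing the hyperplane pointwise
  obtain ⟨g5, hg5, hg5w⟩ := hperm cyc5 cyc5_spec.1
  let c : Equiv.Perm E :=
    { toFun := fun e => ⟨g5 * e * g5⁻¹, hnorm g5 hg5 e e.2⟩
      invFun := fun e => ⟨g5⁻¹ * e * g5, hconj g5 hg5 e e.2⟩
      left_inv := fun e => Subtype.ext (by simp [mul_assoc])
      right_inv := fun e => Subtype.ext (by simp [mul_assoc]) }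
  have hg5pow : g5 ^ 5 = 1 := by
    refine S.faithful _ fun y => ?_
    obtain ⟨w, rfl⟩ := K.Ψ.surjective y
    have hn : ∀ n : ℕ, K.act (g5 ^ n) w = fun m => w ((cyc5 ^ n).symm m) := by
      intro n
      induction n with
      | zero => rw [pow_zero, K.act_one]; rfl
      | succ n ih => rw [pow_succ', K.act_mul, ih, hg5w, pow_succ']; rfl
    have h5 := congrArg K.Ψ (hn 5)
    rw [cyc5_spec.2.1, Coord.act, AddEquiv.apply_symm_apply] at h5
    exact h5
  have hcn : ∀ (n : ℕ) (e : E), ((c ^ n) e : L) = g5 ^ n * e * (g5 ^ n)⁻¹ := by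
    intro n
    induction n with
    | zero => intro e; simp
    | succ n ih =>
      intro e
      rw [pow_succ', Equiv.Perm.mul_apply]
      show g5 * ((c ^ n) e : L) * g5⁻¹ = _
      rw [ih, pow_succ']
      group
  obtain ⟨e, heE, he1, hec⟩ : ∃ e ∈ E, e ≠ 1 ∧ g5 * e * g5⁻¹ = e := by
    by_contra hno
    push Not at hno
    have h1 : ∀ x : E, c x = x ↔ x = 1 := by
      intro x
      constructor
      · intro hx
        by_contra hx1
        exact hno x x.2 (fun e => hx1 (Subtype.ext e)) (congrArg Subtype.val hx)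
      · rintro rfl
        exact Subtype.ext (by simp [c])
    have hc1 : c ≠ 1 := by
      intro hc
      haveI : Nontrivial E := (Finite.one_lt_card_iff_nontrivial).1 (by rw [hcard]; norm_num)
      obtain ⟨x, hx⟩ := exists_ne (1 : E)
      exact hx ((h1 x).1 (by rw [hc]; rfl))
    have h := modEq_one c (Equiv.ext fun x => Subtype.ext (by rw [hcn, hg5pow]; simp)) hc1 1 h1
    rw [hcard] at h
    exact absurd h (by decide)
  have hcomm : g5 * e = e * g5 := mul_inv_eq_iff_eq_mul.1 hec
  choose lam hlam using fun w hw => hsplit e heE w hw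
  have hzero : ∀ w hw, lam w hw = 0 := by
    have hval : ∀ (w : W6) hw, lam w hw = K.act e w 0 + w 0 := fun w hw => by
      rw [hlam w hw]
      show _ = w 0 + lam w hw + w 0
      rw [add_comm (w 0), add_assoc, k4_self, add_zero]
    have hset : ∀ (w : W6) (hw : ∑ i, w i = 0), K.act e w 0 = w 0 → K.act e w = w := fun w hw h => by
      rw [hlam w hw, hval, h, k4_self]
      exact add_zero _
    have hinvar : ∀ w : W6, ∑ i, w i = 0 →
        K.act e (fun m => w (cyc5.symm m)) 0 + w (cyc5.symm 0) = K.act e w 0 + w 0 := by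
      intro w hw
      rw [← hg5w, ← K.act_mul, ← hcomm, K.act_mul, hlam w hw, hg5w]
      simp only [Pi.add_apply, constW]
      rw [show cyc5.symm 0 = 0 from cyc5.symm_apply_eq.2 cyc5_spec.2.2.2.2.2.2.2.symm]
    intro w hw
    -- the functional
    let f : W6 →+ K4 := AddMonoidHom.mk' (fun v => K.act e v 0 + v 0) fun u v => by
      simp only [K.act_add, Pi.add_apply]; abel
    have hpairsum : ∀ i j : Fin 6, ∀ d, ∑ m, pairW i j d m = 0 := fun i j d => by
      simp [pairW, Finset.sum_add_distrib, k4_self]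
    have hshift : ∀ (i j : Fin 6) (d : K4), i ≠ 0 → j ≠ 0 →
        f (pairW (cyc5 i) (cyc5 j) d) = f (pairW i j d) := by
      intro i j d hi hj
      have h := hinvar (pairW i j d) (hpairsum i j d)
      have key : ∀ (x : Fin 6) (m : Fin 6),
          (Pi.single (cyc5 x) d : W6) m = (Pi.single x d : W6) (cyc5.symm m) := by
        intro x m
        rcases eq_or_ne m (cyc5 x) with rfl | hm
        · simp
        · rw [Pi.single_eq_of_ne hm, Pi.single_eq_of_ne fun e => hm (cyc5.symm_apply_eq.1 e)]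
      have e2 : pairW (cyc5 i) (cyc5 j) d = fun m => pairW i j d (cyc5.symm m) := by
        funext m; simp only [pairW, Pi.add_apply, key]
      show K.act e (pairW (cyc5 i) (cyc5 j) d) 0 + pairW (cyc5 i) (cyc5 j) d 0 = _
      rw [e2]
      exact h
    have hf : ∀ d, f (pairW 1 2 d) = 0 ∧ f (pairW 2 3 d) = 0 ∧ f (pairW 3 4 d) = 0 ∧ f (pairW 4 5 d) = 0 := by
      intro d
      obtain ⟨-, -, c1, c2, c3, c4, c5, -⟩ := cyc5_spec
      have a1 := hshift 1 2 d (by decide) (by decide)
      have a2 := hshift 2 3 d (by decide) (by decide)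
      have a3 := hshift 3 4 d (by decide) (by decide)
      have a4 := hshift 4 5 d (by decide) (by decide)
      rw [c1, c2] at a1
      rw [c2, c3] at a2
      rw [c3, c4] at a3
      rw [c4, c5] at a4
      have hsum : f (pairW 1 2 d) + f (pairW 2 3 d) + f (pairW 3 4 d) + f (pairW 4 5 d) + f (pairW 5 1 d) = 0 := by
        rw [← map_add, ← map_add, ← map_add, ← map_add]
        refine (congrArg f ?_).trans (map_zero f)
        funext m
        fin_cases m <;> simp [pairW, k4_self]
      rw [a4, a3, a2, a1] at hsum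
      have hfive := k4_five
      have h12 := hfive _ hsum
      rw [a3, a2, a1]
      rw [h12]
      simp
    have hf0 : ∀ d, f (pairW 0 1 d) = 0 := by
      intro d
      have hone : f (constW d) = 0 := by
        show K.act e (constW d) 0 + constW d 0 = 0
        rw [hline e (hE e heE)]
        exact k4_self _
      have hc : constW d = pairW 0 1 d + pairW 2 3 d + pairW 4 5 d := by
        funext m; fin_cases m <;> simp [constW, pairW]
      rw [hc, map_add, map_add, (hf d).2.1, (hf d).2.2.2, add_zero, add_zero] at hone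
      exact hone
    rw [hval]
    show f w = 0
    have hw' : w = pairW 0 1 (w 0) + pairW 1 2 (w 0 + w 1) + pairW 2 3 (w 0 + w 1 + w 2) +
        pairW 3 4 (w 0 + w 1 + w 2 + w 3) + pairW 4 5 (w 0 + w 1 + w 2 + w 3 + w 4) := by
      rw [Fin.sum_univ_six] at hw
      have h0' := k4_six
      have h2 := k4_cancel
      funext m
      fin_cases m <;> simp [pairW, h2, h0' _ _ _ _ _ _ hw]
      exact k4_six4 _ _ _ _ _ _ hw
    rw [hw', map_add, map_add, map_add, map_add, hf0, (hf _).1, (hf _).2.1, (hf _).2.2.1, (hf _).2.2.2]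
    simp
  have hfixU : ∀ w : W6, ∑ i, w i = 0 → K.act e w = w := fun w hw => by
    rw [hlam w hw, hzero w hw]
    exact add_zero w
  -- it is the transvection
  let e0 : W6 := ![(1, 0), 0, 0, 0, 0, 0]
  set y := K.act e e0 with hy
  have hy2 : y = e0 + constW (y 0 + (1, 0)) := ortho_head fun u hu => by
    conv_lhs => rw [← hfixU u hu, hy, ← K.act_add, K.act_wt]
  have hc : y 0 + (1, 0) = (1, 0) := by
    have hwt : wt y % 2 = 1 := by rw [hy, K.act_wt]; exact wt_e0
    rw [hy2] at hwt
    refine (forced_const _ hwt).resolve_left fun h0 => he1 ?_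
    rw [h0] at hy2
    have hye : K.act e e0 = e0 := hy2.trans (add_zero e0)
    refine S.faithful e fun x => ?_
    obtain ⟨w, rfl⟩ := K.Ψ.surjective x
    have hsum : ∑ i, (w + (Pi.single 0 (∑ i, w i) : W6)) i = 0 := by
      simp [Finset.sum_add_distrib, k4_self]
    have hsingle : ∀ s : K4, K.act e (Pi.single 0 s) = Pi.single 0 s := by
      intro s
      obtain ⟨a, b⟩ := s
      rcases head_decomp (a, b) with r | r | r | r <;>
        rw [show (Pi.single 0 (a, b) : W6) = ![(a, b), 0, 0, 0, 0, 0] by funext m; fin_cases m <;> simp, r]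
      · exact K.act_zero e
      · exact hye
      · rw [K.act_nu_comm (hcent e), hye]
      · rw [K.act_add, K.act_nu_comm (hcent e), hye]
    have hw : w = (w + Pi.single 0 (∑ i, w i)) + Pi.single 0 (∑ i, w i) := by
      funext m; simp [add_assoc, k4_self]
    have h1 : K.act e w = w := by
      rw [hw, K.act_add, hfixU _ hsum, hsingle]
    have h2 := congrArg K.Ψ h1
    rwa [Coord.act, AddEquiv.apply_symm_apply] at h2
  rw [hc] at hy2
  have hform : ∀ w : W6, K.act e w = w + constW (∑ i, w i) := by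
    intro w
    have hsum : ∑ i, (w + (Pi.single 0 (∑ i, w i) : W6)) i = 0 := by
      simp [Finset.sum_add_distrib, k4_self]
    have hsingle : ∀ s : K4, K.act e (Pi.single 0 s) = Pi.single 0 s + constW s := by
      intro s
      rw [single_zero_eq]
      rcases k4_cases s with rfl | rfl | rfl | rfl
      · rw [head_vals.1, K.act_zero]; funext m; simp [constW]
      · exact hy2
      · conv_lhs => rw [head_vals.2.1, K.act_nu_comm (hcent e), ← hy, hy2, single_const_nu]
      · conv_lhs => rw [head_vals.2.2, K.act_add, K.act_nu_comm (hcent e), ← hy, hy2, single_const_nu, single_const_both]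
    have hw : w = (w + Pi.single 0 (∑ i, w i)) + Pi.single 0 (∑ i, w i) := by
      funext m; simp [add_assoc, k4_self]
    conv_lhs => rw [hw, K.act_add, hfixU _ hsum, hsingle]
    rw [← add_assoc, ← hw]
  obtain ⟨u, hu, hunot, hus, hub⟩ := transvection_witness k hk2 hk
  refine hunot ((hsmall u hu).1 ?_)
  obtain ⟨g, hg⟩ := (hsmall _ hus).2 hub
  refine ⟨e⁻¹ * g, ?_⟩
  rw [mul_smul, hg, ← hform, inv_smul_eq_iff, Coord.act, AddEquiv.apply_symm_apply]

end Setting

end Cfsg.Agent.Lib.FischerType
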