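import Mathlib
import Cfsg.Agent.Lib.LargeExtra.Basic

/-!
The quotient of a normal subgroup by its commutator subgroup as a module of the quotient group, and the
squaring form of an extraspecial group.
-/

set_option autoImplicit false

namespace Cfsg.Agent.Lib.FischerType

variable {C : Type*} [Group C] (Q : Subgroup C) [Q.Normal]

/-- Conjugation on the abelianisation of a normal subgroup. -/
noncomputable def conjAb : C →* MulAut (Abelianization Q) where
  toFun c := (MulAut.conjNormal c).abelianizationCongr
  map_one' := by
    refine MulEquiv.ext fun x => ?_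
    obtain ⟨a, rfl⟩ := QuotientGroup.mk_surjective x
    show Abelianization.of ((MulAut.conjNormal (1 : C)) a) = Abelianization.of a
    rw [map_one, MulAut.one_apply]
  map_mul' c d := by
    refine MulEquiv.ext fun x => ?_
    obtain ⟨a, rfl⟩ := QuotientGroup.mk_surjective x
    show Abelianization.of ((MulAut.conjNormal (c * d)) a) =
      Abelianization.of (MulAut.conjNormal c (MulAut.conjNormal d a))
    rw [map_mul, MulAut.mul_apply]

/-- The action of the quotient. -/
noncomputable def quotAb : C ⧸ Q →* MulAut (Abelianization Q) :=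
  QuotientGroup.lift Q (conjAb Q) fun q hq => MonoidHom.mem_ker.2 (MulEquiv.ext fun x => by
    obtain ⟨a, rfl⟩ := QuotientGroup.mk_surjective x
    show Abelianization.of (MulAut.conjNormal q a) = Abelianization.of a
    have e : MulAut.conjNormal q a = (⟨q, hq⟩ : Q) * a * (⟨q, hq⟩ : Q)⁻¹ :=
      Subtype.ext (by simp [MulAut.conjNormal_apply])
    rw [e, map_mul, map_mul, map_inv, mul_comm, ← mul_assoc, inv_mul_cancel, one_mul])

noncomputable instance quotModule : DistribMulAction (C ⧸ Q) (Additive (Abelianization Q)) where
  smul g x := Additive.ofMul (quotAb Q g x.toMul)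
  one_smul x := by
    show Additive.ofMul (quotAb Q 1 x.toMul) = x
    rw [map_one]; rfl
  mul_smul g h x := by
    show Additive.ofMul (quotAb Q (g * h) x.toMul) = Additive.ofMul (quotAb Q g (quotAb Q h x.toMul))
    rw [map_mul]; rfl
  smul_zero g := by
    show Additive.ofMul (quotAb Q g 1) = 0
    rw [map_one]; rfl
  smul_add g x y := by
    show Additive.ofMul (quotAb Q g (x.toMul * y.toMul)) = _
    rw [map_mul]; rfl

/-- The class of an element. -/
noncomputable def vcl (q : Q) : Additive (Abelianization Q) := Additive.ofMul (Abelianization.of q)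

variable {Q}

theorem vcl_surjective : Function.Surjective (vcl Q) := fun x => by
  obtain ⟨a, ha⟩ := QuotientGroup.mk_surjective x.toMul
  exact ⟨a, congrArg Additive.ofMul ha⟩

theorem vcl_mul (a b : Q) : vcl Q (a * b) = vcl Q a + vcl Q b := by
  show Additive.ofMul (Abelianization.of (a * b)) = _
  rw [map_mul]; rfl

theorem smul_vcl (c : C) (a : Q) : (QuotientGroup.mk c : C ⧸ Q) • vcl Q a = vcl Q (MulAut.conjNormal c a) := rfl

theorem vcl_eq_zero_iff (a : Q) : vcl Q a = 0 ↔ a ∈ commutator Q :=
  (Equiv.apply_eq_iff_eq _).trans (QuotientGroup.eq_one_iff a)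

end Cfsg.Agent.Lib.FischerType
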