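import Mathlib
import Cfsg.Prelude.Def_MonsterType
import Cfsg.Agent.Lib.FischerType.Orbits
import Cfsg.Agent.Lib.FischerType.Quot
import Cfsg.Agent.Lib.LargeExtra.Setting
import Cfsg.Agent.Lib.PGroup.Extraspecial
import Cfsg.Agent.Lib.Components.GenFitting
import Cfsg.Agent.Lib.PSUThreeTwo.Transport

/-!
A group of large Fischer type: the coordinates on `Q` modulo its centre.
-/

set_option autoImplicit false

namespace Cfsg.Agent.Lib.FischerType

open Cfsg
open Cfsg.Agent.Lib
open Cfsg.Agent.Lib.LargeExtra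
open Cfsg.Agent.Lib.UThreeThree (Nine card_nine)

variable {G : Type*} [Group G]

/-- `1` if the value is nontrivial. -/
noncomputable def bit (x : G) : ZMod 2 := by classical exact if x = 1 then 0 else 1

theorem bit_mul {z x y : G} (hz : z * z = 1) (hz1 : z ≠ 1) (hx : x = 1 ∨ x = z) (hy : y = 1 ∨ y = z) :
    bit (x * y) = bit x + bit y := by
  rcases hx with rfl | rfl <;> rcases hy with rfl | rfl <;> simp [bit, hz, hz1, CharTwo.add_self_eq_zero]

theorem six_terms : ∀ A B D E F H : ZMod 2,
    A + B + E + D + (F + H) + (A + B + E) + (A + D + F) + (B + D + H) + A + B + D = 0 := by decide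

theorem bit_eq_zero_iff (x : G) : bit x = 0 ↔ x = 1 := by
  unfold bit
  split_ifs with h <;> simp [h]

theorem card_U43 : Nat.card U43 = 3265920 := by
  have h := Classical.natCard_PSU (F := Nine) (q := 3) hNine 4 (by norm_num)
  norm_num [Finset.prod_range_succ, Nat.even_iff] at h
  show Nat.card (Cfsg.PSU 4 Nine 3) = 3265920
  omega

/-- The embedding of `Q`. -/
abbrev inG (z : G) (Q : Subgroup (Subgroup.centralizer ({z} : Set G))) (a : Q) : G :=
  ((a : Subgroup.centralizer ({z} : Set G)) : G)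

/-- The data of a group of large Fischer type. -/
structure FData (z : G) (Q : Subgroup (Subgroup.centralizer ({z} : Set G))) [Q.Normal] where
  good : Good (Q.map (Subgroup.centralizer ({z} : Set G)).subtype) z
  card : Nat.card Q = 2 ^ 13
  S : Setting ((Subgroup.centralizer ({z} : Set G)) ⧸ Q) (Additive (Abelianization Q))
  form : Form ((Subgroup.centralizer ({z} : Set G)) ⧸ Q) (Additive (Abelianization Q))
  coord : S.Coord form
  index_M : S.M.index = 2
  card_L : Nat.card ((Subgroup.centralizer ({z} : Set G)) ⧸ Q) = 19595520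
  form_vcl : ∀ a : Q, form.q (vcl Q a) = bit (inG z Q a * inG z Q a)
  vcl_eq_iff : ∀ a b : Q, vcl Q a = vcl Q b ↔ inG z Q b = inG z Q a ∨ inG z Q b = inG z Q a * z

set_option maxHeartbeats 1000000 in
theorem exists_fdata [Finite G] {z : G} {Q : Subgroup (Subgroup.centralizer ({z} : Set G))} [Q.Normal]
    (h : IsOfLargeFischerTypeAt z Q) : Nonempty (FData z Q) := by
  classical
  haveI : Fact (Nat.Prime 2) := ⟨Nat.prime_two⟩
  obtain ⟨⟨hz2, hF, hE, hcard, -⟩, N, M, hN, hM, hQN, hNM, hNcard, ⟨K, _, _, hK, ⟨e⟩⟩, hMi⟩ := h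
  have hzC : z ∈ (Subgroup.centralizer ({z} : Set G)) := Subgroup.mem_centralizer_singleton_iff.2 rfl
  have hcz : ∀ c : (Subgroup.centralizer ({z} : Set G)), (c : G) * z = z * c := fun c => Subgroup.mem_centralizer_singleton_iff.1 c.2
  have hcentQ : ∀ c : (Subgroup.centralizer ({z} : Set G)), (∀ q ∈ Q, c * q = q * c) → c ∈ Q := fun c hc => by
    rw [← hF]
    refine Components.centralizer_generalizedFittingSubgroup_le (Subgroup.mem_centralizer_iff.2 ?_)
    rw [hF]
    exact fun q hq => (hc q hq).symm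
  have hzQ : (⟨z, hzC⟩ : (Subgroup.centralizer ({z} : Set G))) ∈ Q := hcentQ _ fun q _ => Subtype.ext (hcz q).symm
  have hzz : z * z = 1 := by rw [← pow_two, ← hz2]; exact pow_orderOf_eq_one z
  have hzc : (⟨_, hzQ⟩ : Q) ∈ Subgroup.center Q :=
    Subgroup.mem_center_iff.2 fun q => Subtype.ext (Subtype.ext (hcz _))
  have hz1 : z ≠ 1 := fun e => by rw [e, orderOf_one] at hz2; norm_num at hz2
  have hcen : ∀ q : Q, q ∈ Subgroup.center Q ↔ inG z Q q = 1 ∨ inG z Q q = z := by
    intro q
    rw [← Extraspecial.zpowers_eq_center hE hzc (fun e => hz1 (congrArg (inG z Q) e))]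
    constructor
    · intro hq
      rcases eq_or_of_mem_zpowers (x := (⟨_, hzQ⟩ : Q)) (Subtype.ext (Subtype.ext hzz)) hq with r | r
      · left; rw [r]; rfl
      · right; rw [r]
    · rintro (r | r)
      · rw [show q = 1 from Subtype.ext (Subtype.ext r)]; exact one_mem _
      · rw [show q = ⟨_, hzQ⟩ from Subtype.ext (Subtype.ext r)]; exact Subgroup.mem_zpowers _
  have hcomm : commutator Q = Subgroup.center Q := hE.1.2.2
  have good : Good (Q.map (Subgroup.centralizer ({z} : Set G)).subtype) z :=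
    { x_mem := ⟨_, hzQ, rfl⟩
      x_sq := hzz
      x_ne := hz1
      le_cent := by rintro _ ⟨q, -, rfl⟩; exact hcz q
      comm := by
        rintro _ ⟨a, ha, rfl⟩ _ ⟨b, hb, rfl⟩
        rcases (hcen _).1 (Extraspecial.commutator_mem_center hE ⟨a, ha⟩ ⟨b, hb⟩) with r | r <;>
          simp only [inG, commutatorElement_def, Subgroup.coe_mul, Subgroup.coe_inv] at r
        · left; exact mul_inv_eq_one.1 r
        · right; rw [Subgroup.coe_subtype, hcz b]; exact mul_inv_eq_iff_eq_mul.1 r
      centre := by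
        rintro _ ⟨a, ha, rfl⟩ h
        exact (hcen ⟨a, ha⟩).1 (Subgroup.mem_center_iff.2 fun b =>
          Subtype.ext (Subtype.ext (h _ ⟨b, b.2, rfl⟩).symm))
      nonab := by
        obtain ⟨a, b, hab⟩ := Extraspecial.exists_not_commute hE
        exact ⟨_, ⟨a, a.2, rfl⟩, _, ⟨b, b.2, rfl⟩, fun e => hab (Subtype.ext (Subtype.ext e))⟩
      norm := by
        rintro g hg _ ⟨q, hq, rfl⟩
        exact ⟨_, (inferInstance : Q.Normal).conj_mem q hq ⟨g, Subgroup.mem_centralizer_singleton_iff.2 hg⟩, rfl⟩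
      cent := by
        intro g hg
        have hgz := hg z ⟨_, hzQ, rfl⟩
        exact ⟨⟨g, Subgroup.mem_centralizer_singleton_iff.2 hgz⟩,
          hcentQ _ fun q hq => Subtype.ext (hg _ ⟨q, hq, rfl⟩), rfl⟩ }
  have hmemR : ∀ a : Q, inG z Q a ∈ Q.map (Subgroup.centralizer ({z} : Set G)).subtype := fun a => ⟨a.1, a.2, rfl⟩
  have hv0 : ∀ a : Q, vcl Q a = 0 ↔ (inG z Q a = 1 ∨ inG z Q a = z) := fun a => by
    rw [vcl_eq_zero_iff, hcomm, hcen]
  have hveq : ∀ a b : Q, vcl Q a = vcl Q b ↔ inG z Q b = inG z Q a ∨ inG z Q b = inG z Q a * z := by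
    intro a b
    have : vcl Q a = vcl Q b ↔ vcl Q (a⁻¹ * b) = 0 := by
      have h1 : vcl Q a + vcl Q (a⁻¹ * b) = vcl Q b := by rw [← vcl_mul, mul_inv_cancel_left]
      constructor
      · intro e; rw [e] at h1; exact add_eq_left.1 h1
      · intro e; rw [e, add_zero] at h1; exact h1
    rw [this, hv0]
    exact or_congr ((inv_mul_eq_one (a := inG z Q a)).trans eq_comm) inv_mul_eq_iff_eq_mul
  -- squares and commutators
  let kk : Q → Q → ZMod 2 := fun a b =>
    bit (inG z Q a * inG z Q b * (inG z Q a)⁻¹ * (inG z Q b)⁻¹)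
  let qq : Q → ZMod 2 := fun a => bit (inG z Q a * inG z Q a)
  have kcases : ∀ a b : Q, inG z Q a * inG z Q b * (inG z Q a)⁻¹ = inG z Q b ∧ kk a b = 0 ∨
      inG z Q a * inG z Q b * (inG z Q a)⁻¹ = inG z Q b * z ∧ kk a b = 1 := by
    intro a b
    rcases good.comm _ (hmemR a) _ (hmemR b) with e | e
    · exact Or.inl ⟨e, (bit_eq_zero_iff _).2 (by rw [e, mul_inv_cancel])⟩
    · refine Or.inr ⟨e, ?_⟩
      show bit _ = 1
      rw [e, good.le_cent _ (hmemR b), mul_inv_cancel_right]
      simp [bit, hz1]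
  have kadd : ∀ a b c : Q, kk a (b * c) = kk a b + kk a c := by
    intro a b c
    let zp : ZMod 2 → G := fun t => z ^ t.val
    have zp_add : ∀ s t, zp (s + t) = zp s * zp t := fun s t => by
      show z ^ (s + t).val = z ^ s.val * z ^ t.val
      rw [← pow_add, ZMod.val_add, ← pow_eq_pow_mod _ (show z ^ 2 = 1 by rw [pow_two, hzz])]
    have zp_inj : Function.Injective zp := fun s t h => by
      rcases zmod_two_cases s with rfl | rfl <;> rcases zmod_two_cases t with rfl | rfl <;>
        first | rfl | (exfalso; simp [zp, ZMod.val_one, hz1, Ne.symm hz1] at h)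
    have ec : ∀ u v : Q, inG z Q u * inG z Q v * (inG z Q u)⁻¹ = inG z Q v * zp (kk u v) := fun u v => by
      rcases kcases u v with ⟨e, k⟩ | ⟨e, k⟩ <;> rw [e, k] <;> simp [zp, ZMod.val_one]
    refine zp_inj (mul_left_cancel (a := inG z Q (b * c)) ?_)
    rw [← ec, zp_add]
    have hbc : inG z Q (b * c) = inG z Q b * inG z Q c := rfl
    have hcom : Commute (inG z Q c) (zp (kk a b)) :=
      Commute.pow_right (good.le_cent _ (hmemR c) : Commute (inG z Q c) z) _
    calc inG z Q a * inG z Q (b * c) * (inG z Q a)⁻¹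
        = (inG z Q a * inG z Q b * (inG z Q a)⁻¹) * (inG z Q a * inG z Q c * (inG z Q a)⁻¹) := by rw [hbc]; group
      _ = inG z Q b * (zp (kk a b) * inG z Q c) * zp (kk a c) := by rw [ec, ec]; group
      _ = _ := by rw [← hcom.eq, hbc]; group
  have qmul : ∀ a b : Q, qq (a * b) = qq a + qq b + kk b a := by
    intro a b
    have sq : ∀ u : Q, inG z Q u * inG z Q u = 1 ∨ inG z Q u * inG z Q u = z := fun u => good.sq_cases (hmemR u)
    have hk : inG z Q b * inG z Q a * (inG z Q b)⁻¹ * (inG z Q a)⁻¹ = 1 ∨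
        inG z Q b * inG z Q a * (inG z Q b)⁻¹ * (inG z Q a)⁻¹ = z := by
      rcases good.comm _ (hmemR b) _ (hmemR a) with r | r
      · left; rw [r, mul_inv_cancel]
      · right; rw [r, good.le_cent _ (hmemR a), mul_inv_cancel_right]
    have hka : inG z Q b * inG z Q a * (inG z Q b)⁻¹ * (inG z Q a)⁻¹ * inG z Q a =
        inG z Q a * (inG z Q b * inG z Q a * (inG z Q b)⁻¹ * (inG z Q a)⁻¹) := by
      rcases hk with r | r <;> rw [r]
      · simp
      · exact (good.le_cent _ (hmemR a)).symm
    show bit (inG z Q a * inG z Q b * (inG z Q a * inG z Q b)) = _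
    have e : inG z Q a * inG z Q b * (inG z Q a * inG z Q b) =
        (inG z Q b * inG z Q a * (inG z Q b)⁻¹ * (inG z Q a)⁻¹) *
          (inG z Q a * inG z Q a * (inG z Q b * inG z Q b)) := by
      calc inG z Q a * inG z Q b * (inG z Q a * inG z Q b)
          = inG z Q a * ((inG z Q b * inG z Q a * (inG z Q b)⁻¹ * (inG z Q a)⁻¹) * inG z Q a) *
              (inG z Q b * inG z Q b) := by group
        _ = (inG z Q a * (inG z Q b * inG z Q a * (inG z Q b)⁻¹ * (inG z Q a)⁻¹)) * inG z Q a *
              (inG z Q b * inG z Q b) := by group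
        _ = _ := by rw [← hka]; group
    have hab : inG z Q a * inG z Q a * (inG z Q b * inG z Q b) = 1 ∨
        inG z Q a * inG z Q a * (inG z Q b * inG z Q b) = z := by
      rcases sq a with r | r <;> rcases sq b with r' | r' <;> simp [r, r', hzz]
    rw [e, bit_mul hzz hz1 hk hab, bit_mul hzz hz1 (sq a) (sq b)]
    show _ = qq a + qq b + kk b a
    abel
  have qwd : ∀ a b : Q, vcl Q a = vcl Q b → qq a = qq b := by
    intro a b hab
    rcases (hveq a b).1 hab with r | r
    · exact congrArg bit (by rw [r])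
    · refine congrArg bit ?_
      rw [r]
      calc inG z Q a * inG z Q a = inG z Q a * inG z Q a * (z * z) := by rw [hzz, mul_one]
        _ = inG z Q a * (inG z Q a * z) * z := by group
        _ = inG z Q a * (z * inG z Q a) * z := by rw [good.le_cent _ (hmemR a)]
        _ = _ := by group
  let qW : Additive (Abelianization Q) → ZMod 2 := fun x => qq (vcl_surjective x).choose
  have hqW : ∀ a, qW (vcl Q a) = qq a := fun a => qwd _ _ (vcl_surjective (vcl Q a)).choose_spec
  let form : Form ((Subgroup.centralizer ({z} : Set G)) ⧸ Q) (Additive (Abelianization Q)) :=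
    { q := qW
      q_zero := by
        rw [show (0 : Additive (Abelianization Q)) = vcl Q 1 from ((hv0 1).2 (Or.inl rfl)).symm, hqW]
        exact (bit_eq_zero_iff _).2 (by simp [inG])
      B_add := by
        intro x y w
        obtain ⟨a, rfl⟩ := vcl_surjective x
        obtain ⟨b, rfl⟩ := vcl_surjective y
        obtain ⟨c, rfl⟩ := vcl_surjective w
        have hsym : ∀ u v : Q, kk u v = kk v u := by
          intro u v
          have h1 := qmul u v
          have h2 := qmul v u
          have h3 : qq (u * v) = qq (v * u) := qwd _ _ (by rw [vcl_mul, vcl_mul, add_comm])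
          rw [h1, h2, add_comm (qq v) (qq u)] at h3
          exact (add_left_cancel h3).symm
        simp only [← vcl_mul, hqW, qmul]
        rw [hsym c (a * b), hsym (a * b) c] at *
        rw [kadd c a b, hsym c a, hsym c b]
        exact six_terms _ _ _ _ _ _
      nondeg := by
        intro x hx
        obtain ⟨a, rfl⟩ := vcl_surjective x
        rw [hv0]
        refine good.centre _ (hmemR a) ?_
        rintro _ ⟨b, hb, rfl⟩
        have h1 := hx (vcl Q ⟨b, hb⟩)
        rw [← vcl_mul, hqW, hqW, hqW, qmul] at h1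
        have h2 : kk ⟨b, hb⟩ a = 0 := add_left_cancel (h1.trans (add_zero _).symm)
        rcases kcases ⟨b, hb⟩ a with ⟨r, -⟩ | ⟨-, r⟩
        · exact (conj_eq_iff_comm.1 r).symm
        · exact absurd (h2.symm.trans r) zero_ne_one
      inv := by
        intro g x
        obtain ⟨c, rfl⟩ := QuotientGroup.mk_surjective g
        obtain ⟨a, rfl⟩ := vcl_surjective x
        rw [smul_vcl, hqW, hqW]
        show bit ((c : G) * inG z Q a * (c : G)⁻¹ * ((c : G) * inG z Q a * (c : G)⁻¹)) = _
        rw [show (c : G) * inG z Q a * (c : G)⁻¹ * ((c : G) * inG z Q a * (c : G)⁻¹) =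
          (c : G) * (inG z Q a * inG z Q a) * (c : G)⁻¹ by group]
        rcases good.sq_cases (hmemR a) with r | r
        · show bit _ = bit _
          rw [r, mul_one, mul_inv_cancel]
        · show bit _ = bit _
          rw [r, hcz c, mul_inv_cancel_right] }
  -- the quotient
  set π := QuotientGroup.mk' Q with hπ
  have hpi : ∀ H : Subgroup (Subgroup.centralizer ({z} : Set G)), Q ≤ H → Nat.card H = Nat.card (H.map π) * Nat.card Q := by
    intro H hH
    have h1 := Subgroup.card_eq_card_quotient_mul_card_subgroup (Q.subgroupOf H)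
    rw [Nat.card_congr (Subgroup.subgroupOfEquivOfLe hH).toEquiv] at h1
    rw [h1]
    congr 1
    let f : H →* H.map π := π.subgroupMap H
    have hk : f.ker = Q.subgroupOf H := by
      ext x
      rw [MonoidHom.mem_ker, Subgroup.mem_subgroupOf, ← QuotientGroup.eq_one_iff, Subtype.ext_iff]
      rfl
    exact Nat.card_congr ((QuotientGroup.quotientMulEquivOfEq hk.symm).trans
      (QuotientGroup.quotientKerEquivOfSurjective f (π.subgroupMap_surjective H))).toEquiv
  haveI hNbar : (N.map π).Normal := hN.map π (QuotientGroup.mk'_surjective Q)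
  haveI hMbar : (M.map π).Normal := hM.map π (QuotientGroup.mk'_surjective Q)
  have hN3 : Nat.card (N.map π) = 3 := by
    have h1 := hpi N hQN
    rw [hNcard] at h1
    exact (Nat.eq_of_mul_eq_mul_right Nat.card_pos h1).symm
  haveI : IsCyclic (N.map π) := isCyclic_of_prime_card (hp := ⟨by norm_num⟩) hN3
  obtain ⟨⟨n, hnN⟩, hn⟩ := IsCyclic.exists_generator (α := N.map π)
  have hnord : orderOf n = 3 := by
    rw [← hN3, ← orderOf_eq_card_of_forall_mem_zpowers hn, Subgroup.orderOf_mk]
  have hnz : N.map π = Subgroup.zpowers n := by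
    refine le_antisymm (fun x hx => ?_) (Subgroup.zpowers_le.2 hnN)
    obtain ⟨i, hi⟩ := Subgroup.mem_zpowers_iff.1 (hn ⟨x, hx⟩)
    exact Subgroup.mem_zpowers_iff.2 ⟨i, by simpa using congrArg Subtype.val hi⟩
  -- the map to the unitary group
  let θ0 : M →* U43 :=
    (e.trans (PSUThreeTwo.psuMap (FiniteField.ringEquivOfCardEq (hK.trans card_nine.symm)))).toMonoidHom.comp
      (QuotientGroup.mk' (N.subgroupOf M))
  have hθ0 : Function.Surjective θ0 :=
    (e.trans (PSUThreeTwo.psuMap (FiniteField.ringEquivOfCardEq (hK.trans card_nine.symm)))).surjective.comp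
      (QuotientGroup.mk'_surjective _)
  have hθ0k : ∀ m : M, θ0 m = 1 ↔ (m : (Subgroup.centralizer ({z} : Set G))) ∈ N := fun m => by
    rw [MonoidHom.comp_apply, MulEquiv.coe_toMonoidHom, EmbeddingLike.map_eq_one_iff, QuotientGroup.mk'_apply,
      QuotientGroup.eq_one_iff, Subgroup.mem_subgroupOf]
  let pM : M →* M.map π := π.subgroupMap M
  have hpM : Function.Surjective pM := π.subgroupMap_surjective M
  have hker : pM.ker ≤ θ0.ker := fun m hm => by
    rw [MonoidHom.mem_ker, hθ0k]
    exact hQN ((QuotientGroup.eq_one_iff _).1 (congrArg Subtype.val (MonoidHom.mem_ker.1 hm)))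
  obtain ⟨θ, hθ⟩ : ∃ θ : M.map π →* U43, ∀ m, θ (pM m) = θ0 m :=
    ⟨MonoidHom.liftOfSurjective pM hpM ⟨θ0, hker⟩, fun m => MonoidHom.liftOfRightInverse_comp_apply _ _ _ _ m⟩
  have hθs : Function.Surjective θ := fun u => by
    obtain ⟨m, hm⟩ := hθ0 u
    exact ⟨pM m, by rw [hθ, hm]⟩
  have hθk : ∀ x : M.map π, θ x = 1 ↔ (x : (Subgroup.centralizer ({z} : Set G)) ⧸ Q) ∈ Subgroup.zpowers n := by
    intro x
    obtain ⟨m, rfl⟩ := hpM x
    rw [hθ, hθ0k, ← hnz]
    refine ⟨fun h => ⟨_, h, rfl⟩, ?_⟩
    rintro ⟨k, hk, e'⟩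
    have hQ' : k⁻¹ * (m : (Subgroup.centralizer ({z} : Set G))) ∈ Q := QuotientGroup.eq.1 e'
    simpa using mul_mem hk (hQN hQ')
  have hnM : n ∈ M.map π := Subgroup.map_mono hNM hnN
  have hcentral : ∀ m ∈ M.map π, m * n = n * m := by
    let H : Subgroup (M.map π) :=
      (Subgroup.centralizer ((Subgroup.zpowers n : Subgroup _) : Set ((Subgroup.centralizer ({z} : Set G)) ⧸ Q))).subgroupOf (M.map π)
    haveI : (Subgroup.zpowers n).Normal := hnz ▸ hNbar
    haveI : H.Normal := Subgroup.Normal.subgroupOf inferInstance _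
    have hmemH : ∀ x : M.map π, x ∈ H ↔ (x : (Subgroup.centralizer ({z} : Set G)) ⧸ Q) * n = n * x := by
      intro x
      rw [Subgroup.mem_subgroupOf, Subgroup.zpowers_eq_closure, Subgroup.centralizer_closure]
      exact Subgroup.mem_centralizer_singleton_iff
    have hsq : ∀ x : M.map π, x * x ∈ H := by
      intro x
      rw [hmemH]
      have hc : (x : (Subgroup.centralizer ({z} : Set G)) ⧸ Q) * n * (x : (Subgroup.centralizer ({z} : Set G)) ⧸ Q)⁻¹ ∈ Subgroup.zpowers n :=
        (inferInstance : (Subgroup.zpowers n).Normal).conj_mem n (Subgroup.mem_zpowers n) _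
      obtain ⟨i, hi⟩ := Subgroup.mem_zpowers_iff.1 hc
      rw [← zpow_mod_orderOf, hnord] at hi
      have hn3 : n ^ 3 = 1 := hnord ▸ pow_orderOf_eq_one n
      have hj : i % 3 = 0 ∨ i % 3 = 1 ∨ i % 3 = 2 := by omega
      rcases hj with r | r | r <;> rw [show (i % (3 : ℕ) : ℤ) = _ from r] at hi
      · exfalso
        rw [zpow_zero, eq_comm, mul_inv_eq_one, mul_eq_left] at hi
        rw [hi, orderOf_one] at hnord
        norm_num at hnord
      · rw [zpow_one, eq_comm, mul_inv_eq_iff_eq_mul] at hi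
        show (x : (Subgroup.centralizer ({z} : Set G)) ⧸ Q) * x * n = n * ((x : (Subgroup.centralizer ({z} : Set G)) ⧸ Q) * x)
        rw [mul_assoc, hi, ← mul_assoc, hi, mul_assoc]
      · have hi' : (x : (Subgroup.centralizer ({z} : Set G)) ⧸ Q) * n * (x : (Subgroup.centralizer ({z} : Set G)) ⧸ Q)⁻¹ = n ^ 2 := by rw [← hi]; exact zpow_ofNat n 2
        have h4 : (x : (Subgroup.centralizer ({z} : Set G)) ⧸ Q) * x * n * ((x : (Subgroup.centralizer ({z} : Set G)) ⧸ Q) * x)⁻¹ = n := by
          calc (x : (Subgroup.centralizer ({z} : Set G)) ⧸ Q) * x * n * ((x : (Subgroup.centralizer ({z} : Set G)) ⧸ Q) * x)⁻¹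
              = (x : (Subgroup.centralizer ({z} : Set G)) ⧸ Q) * ((x : (Subgroup.centralizer ({z} : Set G)) ⧸ Q) * n * (x : (Subgroup.centralizer ({z} : Set G)) ⧸ Q)⁻¹) * (x : (Subgroup.centralizer ({z} : Set G)) ⧸ Q)⁻¹ := by group
            _ = ((x : (Subgroup.centralizer ({z} : Set G)) ⧸ Q) * n * (x : (Subgroup.centralizer ({z} : Set G)) ⧸ Q)⁻¹) ^ 2 := by rw [conj_pow, hi']
            _ = n := by rw [hi', ← pow_mul, show 2 * 2 = 3 + 1 from rfl, pow_succ, hn3, one_mul]
        exact mul_inv_eq_iff_eq_mul.1 h4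
    haveI : IsSimpleGroup U43 := Classical.isSimpleGroup_PSU hNine 2 (by norm_num) (by norm_num)
    haveI : (H.map θ).Normal := Subgroup.Normal.map inferInstance θ hθs
    have htop : H.map θ = ⊤ := (Subgroup.Normal.eq_bot_or_eq_top inferInstance).resolve_left fun hb => by
      obtain ⟨y, hy⟩ := hθs (rP 0)
      have hy2 : θ (y * y) ∈ H.map θ := ⟨_, hsq y, rfl⟩
      rw [hb, Subgroup.mem_bot, map_mul, hy] at hy2
      have h5 := rP_five 0
      rw [show (5 : ℕ) = 2 + 2 + 1 from rfl, pow_add, pow_add, pow_two, hy2, one_mul, one_mul, pow_one] at h5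
      have : (rSU 0) ∈ Subgroup.center (Cfsg.SU 4 Nine 3) := (QuotientGroup.eq_one_iff _).1 h5
      have hs := Classical.center_SU_scalar hNine (rSU 0) this 0
      have hd := congrFun (congrFun hs 0) 1
      revert hd
      decide +kernel
    have hle : θ.ker ≤ H := fun x hx => by
      rw [hmemH]
      obtain ⟨i, hi⟩ := Subgroup.mem_zpowers_iff.1 ((hθk x).1 (MonoidHom.mem_ker.1 hx))
      rw [← hi]
      exact (Commute.zpow_self n i).eq
    intro m hm
    have hall := congrArg (Subgroup.comap θ) htop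
    rw [Subgroup.comap_map_eq, Subgroup.comap_top, sup_eq_left.2 hle] at hall
    exact (hmemH ⟨m, hm⟩).1 (hall ▸ Subgroup.mem_top _)
  have hWcard : Nat.card (Additive (Abelianization Q)) = 2 ^ 12 := by
    show Nat.card (Q ⧸ commutator Q) = 2 ^ 12
    have h1 := Subgroup.card_eq_card_quotient_mul_card_subgroup (commutator Q)
    rw [hcard, hcomm, hE.2] at h1
    rw [hcomm]
    omega
  let S : Setting ((Subgroup.centralizer ({z} : Set G)) ⧸ Q) (Additive (Abelianization Q)) :=
    { M := M.map π
      M_normal := hMbar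
      n := n
      n_mem := hnM
      n_order := hnord
      n_central := hcentral
      θ := θ
      θ_surj := hθs
      θ_ker := hθk
      faithful := by
        intro g hg
        obtain ⟨c, rfl⟩ := QuotientGroup.mk_surjective g
        rw [QuotientGroup.eq_one_iff]
        have hin : (c : G) ∈ Q.map (Subgroup.centralizer ({z} : Set G)).subtype := mem_of_inner good _ (by
          rintro _ ⟨b, hb, rfl⟩
          have h1 := hg (vcl Q ⟨b, hb⟩)
          rw [smul_vcl] at h1
          exact (hveq _ _).1 h1.symm)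
        obtain ⟨q, hq, e'⟩ := hin
        rwa [← Subtype.ext e']
      two := by
        intro x
        obtain ⟨a, rfl⟩ := vcl_surjective x
        rw [← vcl_mul, hv0]
        exact good.sq_cases (hmemR a)
      card := hWcard }
  have hMindex : (M.map π).index = 2 := by
    rw [Subgroup.index_map_eq _ (QuotientGroup.mk'_surjective Q) (by rw [QuotientGroup.ker_mk']; exact hQN.trans hNM), hMi]
  have hL : Nat.card ((Subgroup.centralizer ({z} : Set G)) ⧸ Q) = 19595520 := by
    have h1 := (M.map π).card_mul_index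
    have h2 := θ.ker.card_mul_index
    have h3 : θ.ker.index = Nat.card U43 := by
      rw [Subgroup.index_ker, MonoidHom.range_eq_top.2 hθs]; exact Subgroup.card_top
    have hk : θ.ker = (Subgroup.zpowers n).subgroupOf (M.map π) :=
      SetLike.ext fun x => (MonoidHom.mem_ker.trans (hθk x)).trans Subgroup.mem_subgroupOf.symm
    have h4 : Nat.card θ.ker = 3 := by
      rw [hk, Nat.card_congr (Subgroup.subgroupOfEquivOfLe (Subgroup.zpowers_le.2 hnM)).toEquiv, Nat.card_zpowers,
        hnord]
    have h5 := card_U43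
    rw [h3, h4, h5] at h2
    rw [hMindex, ← h2] at h1
    omega
  haveI : Finite (Additive (Abelianization Q)) := Nat.finite_of_card_ne_zero (by rw [hWcard]; norm_num)
  obtain ⟨co⟩ := S.exists_coord form
  exact ⟨⟨good, hcard, S, form, co, hMindex, hL, hqW, hveq⟩⟩

end Cfsg.Agent.Lib.FischerType
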