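import Mathlib
import Cfsg.Agent.Lib.FischerType.Group

/-!
Involutions of `Q` and singular vectors.
-/

set_option autoImplicit false

namespace Cfsg.Agent.Lib.FischerType

open Cfsg.Agent.Lib.LargeExtra

variable {G : Type*} [Group G] {z : G} {Q : Subgroup (Subgroup.centralizer ({z} : Set G))} [Q.Normal]

namespace FData

variable (D : FData z Q)

/-- The coordinates of an element of `Q`. -/
noncomputable def vec (a : Q) : W6 := D.coord.Ψ.symm (vcl Q a)

theorem Ψ_vec (a : Q) : D.coord.Ψ (D.vec a) = vcl Q a := AddEquiv.apply_symm_apply _ _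

theorem mem_map (a : Q) : inG z Q a ∈ Q.map (Subgroup.centralizer ({z} : Set G)).subtype := ⟨a.1, a.2, rfl⟩

theorem vec_eq_zero_iff (a : Q) : D.vec a = 0 ↔ inG z Q a = 1 ∨ inG z Q a = z := by
  rw [vec, EmbeddingLike.map_eq_zero_iff]
  have h1 : vcl Q (1 : Q) = 0 := by
    have h := vcl_mul (Q := Q) 1 1
    rw [mul_one] at h
    exact add_eq_left.1 h.symm
  rw [← h1, eq_comm, D.vcl_eq_iff]
  simp [inG]

theorem wt_vec_iff (a : Q) : wt (D.vec a) % 2 = 0 ↔ inG z Q a * inG z Q a = 1 := by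
  rw [← bit_eq_zero_iff, ← D.form_vcl, ← D.Ψ_vec, D.coord.form, ← Nat.dvd_iff_mod_eq_zero,
    ← ZMod.natCast_eq_zero_iff]

theorem sing_vec_iff (a : Q) :
    Sing (D.vec a) ↔ orderOf (a : Subgroup.centralizer ({z} : Set G)) = 2 ∧ inG z Q a ≠ z := by
  rw [Sing, ne_eq, D.vec_eq_zero_iff, D.wt_vec_iff, not_or]
  constructor
  · rintro ⟨⟨h1, h2⟩, h3⟩
    refine ⟨orderOf_eq_prime (by rw [pow_two]; exact Subtype.ext h3) fun e => h1 ?_, h2⟩
    show ((a : Subgroup.centralizer ({z} : Set G)) : G) = 1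
    rw [e]; rfl
  · rintro ⟨h1, h2⟩
    have hsq : (a : Subgroup.centralizer ({z} : Set G)) ^ 2 = 1 := h1 ▸ pow_orderOf_eq_one _
    refine ⟨⟨fun e => ?_, h2⟩, by rw [pow_two] at hsq; exact congrArg Subtype.val hsq⟩
    have : (a : Subgroup.centralizer ({z} : Set G)) = 1 := Subtype.ext e
    rw [this, orderOf_one] at h1
    norm_num at h1

theorem exists_of_sing {w : W6} (hw : Sing w) : ∃ a : Q, D.vec a = w ∧
    orderOf (a : Subgroup.centralizer ({z} : Set G)) = 2 ∧ inG z Q a ≠ z := by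
  obtain ⟨a, ha⟩ := vcl_surjective (Q := Q) (D.coord.Ψ w)
  have hv : D.vec a = w := by rw [vec, ha, AddEquiv.symm_apply_apply]
  exact ⟨a, hv, (D.sing_vec_iff a).1 (hv ▸ hw)⟩

/-- Conjugacy under the centraliser is conjugacy of the vectors. -/
theorem conj_iff [Finite G] {a b : Q} (ha : Sing (D.vec a)) :
    (∃ h : Subgroup.centralizer ({z} : Set G), h * (a : Subgroup.centralizer ({z} : Set G)) * h⁻¹ = b) ↔
      ∃ g : Subgroup.centralizer ({z} : Set G) ⧸ Q, g • D.coord.Ψ (D.vec a) = D.coord.Ψ (D.vec b) := by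
  simp only [Ψ_vec]
  constructor
  · rintro ⟨h, hh⟩
    refine ⟨QuotientGroup.mk h, ?_⟩
    rw [smul_vcl]
    exact congrArg (vcl Q) (Subtype.ext hh)
  · rintro ⟨g, hg⟩
    obtain ⟨h, rfl⟩ := QuotientGroup.mk_surjective g
    rw [smul_vcl] at hg
    rcases (D.vcl_eq_iff _ _).1 hg with e | e
    · exact ⟨h, Subtype.ext e.symm⟩
    · set a' : Q := MulAut.conjNormal h a with ha'
      obtain ⟨ho, hne⟩ := (D.sing_vec_iff a).1 ha
      have hzh : (h : G) * z * (h : G)⁻¹ = z :=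
        mul_inv_eq_iff_eq_mul.2 (Subgroup.mem_centralizer_singleton_iff.1 h.2)
      have ha1 : inG z Q a' ≠ 1 := fun e' => by
        have e'' : (h : G) * inG z Q a * (h : G)⁻¹ = 1 := e'
        have : (a : Subgroup.centralizer ({z} : Set G)) = 1 := Subtype.ext (by simpa using e'')
        rw [this, orderOf_one] at ho
        norm_num at ho
      have haz : inG z Q a' ≠ z := fun e' => by
        have e'' : (h : G) * inG z Q a * (h : G)⁻¹ = (h : G) * z * (h : G)⁻¹ := e'.trans hzh.symm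
        exact hne (mul_left_cancel (mul_right_cancel e''))
      obtain ⟨q, hq, hqe⟩ := D.good.exists_move ⟨_, a'.2, rfl⟩ ha1 haz
      obtain ⟨q', hq', rfl⟩ := hq
      refine ⟨q' * h, Subtype.ext ?_⟩
      show (q' : G) * h * inG z Q a * ((q' : G) * h)⁻¹ = inG z Q b
      rw [e]
      refine Eq.trans ?_ hqe
      show _ = (q' : G) * ((h : G) * inG z Q a * (h : G)⁻¹) * (q' : G)⁻¹
      group

/-- The small and large orbit. -/
theorem orbits [Finite G] : ∃ k : Fin 5, 2 ≤ k ∧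
    (∀ w, Sing w → ((∃ g : Subgroup.centralizer ({z} : Set G) ⧸ Q,
        g • D.coord.Ψ (repW 0) = D.coord.Ψ w) ↔ (blk w = 0 ∨ blk w = k))) ∧
    (∀ w, Sing w → ((∃ g : Subgroup.centralizer ({z} : Set G) ⧸ Q,
        g • D.coord.Ψ (repW 1) = D.coord.Ψ w) ↔ ¬ (blk w = 0 ∨ blk w = k))) ∧
    Nat.card (MulAction.orbit (Subgroup.centralizer ({z} : Set G) ⧸ Q) (D.coord.Ψ (repW 0))) = 378 ∧
    Nat.card (MulAction.orbit (Subgroup.centralizer ({z} : Set G) ⧸ Q) (D.coord.Ψ (repW 1))) = 1701 := by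
  haveI : Finite (Additive (Abelianization Q)) := Finite.of_equiv _ D.coord.Ψ.toEquiv
  exact D.coord.two_orbits D.card_L

end FData

end Cfsg.Agent.Lib.FischerType
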