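import Mathlib
import Cfsg.Agent.Lib.FischerType.Involutions
import Cfsg.Agent.Lib.FischerType.Small
import Cfsg.Agent.Lib.ExtraTwo.Pair

/-!
A conjugate of the central involution in `Q`: the image of the second extraspecial group.
-/

set_option autoImplicit false

namespace Cfsg.Agent.Lib.FischerType

open Cfsg.Agent.Lib
open Cfsg.Agent.Lib.LargeExtra

variable {G : Type*} [Group G] {z s : G}

section

variable [Finite G] {R R' : Subgroup G} (S : ExtraTwo.Pair.Setting R R' z s) (hcard' : Nat.card R' = 2 ^ 13)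

include S hcard'

/-- The centraliser of `z` in `R'` has index 2. -/
theorem card_cent : Nat.card ↥(R' ⊓ Subgroup.centralizer ({z} : Set G)) = 2 ^ 12 := by
  have hs' : Subgroup.zpowers s ≤ R' := Subgroup.zpowers_le.2 S.hS.x_mem
  let T : Subgroup G := extend S.hS (Subgroup.zpowers s) hs' (Subgroup.mem_zpowers s) z S.hz
  have hT : Nat.card T = 4 := by
    rw [card_extend _ _ hs' _ _ _ S.z_notMem, Nat.card_zpowers,
      orderOf_eq_prime (p := 2) (by rw [pow_two, S.hS.x_sq]) S.hS.x_ne]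
  have hset : centIn R' T = ((R' ⊓ Subgroup.centralizer ({z} : Set G) : Subgroup G) : Set G) := by
    ext q
    simp only [centIn, Set.mem_ofPred_eq, SetLike.mem_coe, Subgroup.mem_inf]
    constructor
    · rintro ⟨hq, h⟩
      exact ⟨hq, Subgroup.mem_centralizer_singleton_iff.2 (h z (self_mem_extend _ _ hs' _ _ _))⟩
    · rintro ⟨hq, h⟩
      refine ⟨hq, fun a ha => ?_⟩
      have hqs : ∀ b ∈ Subgroup.zpowers s, Commute q b := by
        intro b hb
        obtain ⟨i, rfl⟩ := Subgroup.mem_zpowers_iff.1 hb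
        exact Commute.zpow_right (S.hS.le_cent q hq) i
      rcases ha with ha | ha
      · exact (hqs a ha).eq
      · have := Commute.mul_right (Subgroup.mem_centralizer_singleton_iff.1 h : Commute q z) (hqs _ ha)
        rwa [mul_inv_cancel_left] at this
  have hTle : T ≤ R' := extend_le _ _ hs' _ _ _
  have hsT : s ∈ T := le_extend _ _ hs' _ _ _ (Subgroup.mem_zpowers s)
  have h1 := mul_centIn_le S.hS T hTle hsT
  have h2 := le_mul_centIn S.hS T hTle hsT
  rw [hT, hcard', hset, ← Nat.card_coe_set_eq] at h1 h2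
  show Nat.card ↥((R' ⊓ Subgroup.centralizer ({z} : Set G) : Subgroup G) : Set G) = _
  omega

/-- The intersection has order at most `2^7`. -/
theorem card_inf_le : Nat.card ↥(R ⊓ R') ≤ 2 ^ 7 := by
  have hsA : s ∈ R ⊓ R' := ⟨S.hs, S.hS.x_mem⟩
  have h1 := mul_centIn_le S.hS (R ⊓ R') inf_le_right hsA
  have h2 : Nat.card ↥(R ⊓ R') ≤ (centIn R' (R ⊓ R')).ncard := by
    rw [← Nat.card_coe_set_eq]
    exact Nat.card_mono (Set.toFinite _) fun a ha => ⟨ha.2, fun b hb => S.inf_comm_eq ha hb⟩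
  rw [hcard'] at h1
  by_contra hlt
  push Not at hlt
  nlinarith

end

variable {Q : Subgroup (Subgroup.centralizer ({z} : Set G))} [Q.Normal]

/-- The image of `C_{R'}(z)` in `C(z)/Q`. -/
def eimg (Q : Subgroup (Subgroup.centralizer ({z} : Set G))) [Q.Normal] (R' : Subgroup G) :
    Subgroup (Subgroup.centralizer ({z} : Set G) ⧸ Q) :=
  ((R' ⊓ Subgroup.centralizer ({z} : Set G)).subgroupOf (Subgroup.centralizer ({z} : Set G))).map
    (QuotientGroup.mk' Q)

theorem mem_map_iff (c : Subgroup.centralizer ({z} : Set G)) :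
    (c : G) ∈ Q.map (Subgroup.centralizer ({z} : Set G)).subtype ↔ c ∈ Q :=
  ⟨fun ⟨_, hy, e⟩ => Subtype.ext e ▸ hy, fun h => ⟨c, h, rfl⟩⟩

namespace FData

variable (D : FData z Q)

include D

theorem card_map : Nat.card ↥(Q.map (Subgroup.centralizer ({z} : Set G)).subtype) = 2 ^ 13 := by
  rw [← D.card]
  exact (Nat.card_congr (Q.equivMapOfInjective _ (Subgroup.centralizer ({z} : Set G)).subtype_injective).toEquiv).symm

theorem card_conj (g : G) :
    Nat.card ↥((Q.map (Subgroup.centralizer ({z} : Set G)).subtype).map (MulAut.conj g).toMonoidHom) = 2 ^ 13 := by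
  rw [← D.card_map]
  exact (Nat.card_congr ((Q.map (Subgroup.centralizer ({z} : Set G)).subtype).equivMapOfInjective _
    (MulAut.conj g).injective).toEquiv).symm

theorem pair [Finite G] {g : G} (a : Q) (hg : g * z * g⁻¹ = inG z Q a) (hne : inG z Q a ≠ z) :
    ExtraTwo.Pair.Setting (Q.map (Subgroup.centralizer ({z} : Set G)).subtype)
      ((Q.map (Subgroup.centralizer ({z} : Set G)).subtype).map (MulAut.conj g).toMonoidHom) z (inG z Q a) := by
  rw [← hg]
  refine ExtraTwo.Pair.setting_of_good D.good (fun h => hne ?_) (hg ▸ FData.mem_map a)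
  rw [← hg]
  exact mul_inv_eq_iff_eq_mul.2 (Subgroup.mem_centralizer_singleton_iff.1 h)

variable {a : Q} {R' : Subgroup G}
  (S : ExtraTwo.Pair.Setting (Q.map (Subgroup.centralizer ({z} : Set G)).subtype) R' z (inG z Q a))

include S

omit D in
theorem eimg_inv {e : Subgroup.centralizer ({z} : Set G) ⧸ Q} (he : e ∈ eimg Q R') : e * e = 1 := by
  obtain ⟨b, hb, rfl⟩ := he
  rw [← map_mul]
  refine (QuotientGroup.eq_one_iff _).2 ((mem_map_iff _).1 ?_)
  rcases S.hS.sq_cases hb.1 with r | r <;>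
    rw [show ((b * b : Subgroup.centralizer ({z} : Set G)) : G) = (b : G) * b from rfl]
  · exact r.symm ▸ one_mem _
  · exact r.symm ▸ S.hs

omit D in
theorem eimg_fix {e : Subgroup.centralizer ({z} : Set G) ⧸ Q} (he : e ∈ eimg Q R') :
    e • vcl Q a = vcl Q a := by
  obtain ⟨b, hb, rfl⟩ := he
  rw [QuotientGroup.mk'_apply, smul_vcl]
  exact congrArg (vcl Q) (Subtype.ext (Subtype.ext (mul_inv_eq_iff_eq_mul.2 (S.hS.le_cent _ hb.1))))

/-- An element fixing the class of `s` lifts to an element fixing `s`. -/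
theorem exists_lift [Finite G] {l : Subgroup.centralizer ({z} : Set G) ⧸ Q} (hl : l • vcl Q a = vcl Q a) :
    ∃ c : Subgroup.centralizer ({z} : Set G), QuotientGroup.mk c = l ∧
      (c : G) * inG z Q a * (c : G)⁻¹ = inG z Q a := by
  obtain ⟨c, rfl⟩ := QuotientGroup.mk_surjective l
  rw [smul_vcl, D.vcl_eq_iff] at hl
  rcases hl with e | e
  · exact ⟨c, rfl, e.symm⟩
  · obtain ⟨q, hq, hqs⟩ := S.hQ.exists_move S.hs S.hS.x_ne S.ne
    obtain ⟨q', hq', rfl⟩ := hq
    refine ⟨q' * c, ?_, ?_⟩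
    · rw [QuotientGroup.mk_mul, (QuotientGroup.eq_one_iff q').2 hq', one_mul]
    · have hqz : (q' : G) * z = z * (q' : G) := Subgroup.mem_centralizer_singleton_iff.1 q'.2
      have hca : inG z Q (MulAut.conjNormal c a) = (c : G) * inG z Q a * (c : G)⁻¹ := rfl
      rw [hca] at e
      have e' : (c : G) * inG z Q a * (c : G)⁻¹ = inG z Q a * z := by
        calc (c : G) * inG z Q a * (c : G)⁻¹ = ((c : G) * inG z Q a * (c : G)⁻¹ * z) * z := by
              rw [mul_assoc _ z z, D.good.x_sq, mul_one]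
          _ = _ := by rw [← e]
      show (q' : G) * c * inG z Q a * ((q' : G) * c)⁻¹ = inG z Q a
      calc (q' : G) * c * inG z Q a * ((q' : G) * c)⁻¹
          = (q' : G) * ((c : G) * inG z Q a * (c : G)⁻¹) * (q' : G)⁻¹ := by group
        _ = ((q' : G) * inG z Q a * (q' : G)⁻¹) * ((q' : G) * z * (q' : G)⁻¹) := by rw [e']; group
        _ = inG z Q a * (z * z) := by
            rw [show (q' : G) * inG z Q a * (q' : G)⁻¹ = inG z Q a * z from hqs, hqz]; group
        _ = inG z Q a := by rw [D.good.x_sq, mul_one]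

theorem eimg_norm [Finite G] {l : Subgroup.centralizer ({z} : Set G) ⧸ Q} (hl : l • vcl Q a = vcl Q a)
    {e : Subgroup.centralizer ({z} : Set G) ⧸ Q} (he : e ∈ eimg Q R') : l * e * l⁻¹ ∈ eimg Q R' := by
  obtain ⟨c, rfl, hc⟩ := D.exists_lift S hl
  obtain ⟨b, hb, rfl⟩ := he
  refine ⟨c * b * c⁻¹, ⟨S.hS.norm _ (mul_inv_eq_iff_eq_mul.1 hc) _ hb.1, ?_⟩, rfl⟩
  exact (c * b * c⁻¹).2

theorem card_eimg [Finite G] (hcard' : Nat.card R' = 2 ^ 13) :
    Nat.card (eimg Q R') * Nat.card ↥(Q.map (Subgroup.centralizer ({z} : Set G)).subtype ⊓ R') = 2 ^ 12 := by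
  set B := R' ⊓ Subgroup.centralizer ({z} : Set G) with hB
  set B' := B.subgroupOf (Subgroup.centralizer ({z} : Set G)) with hB'
  let f : B' →* Subgroup.centralizer ({z} : Set G) ⧸ Q := (QuotientGroup.mk' Q).comp B'.subtype
  have hBR : Q.map (Subgroup.centralizer ({z} : Set G)).subtype ⊓ R' ≤ B := fun x hx =>
    ⟨hx.2, Subgroup.mem_centralizer_singleton_iff.2 (D.good.le_cent x hx.1)⟩
  have hk : Nat.card f.ker = Nat.card ↥(Q.map (Subgroup.centralizer ({z} : Set G)).subtype ⊓ R') := by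
    refine Nat.card_congr
      { toFun := fun x => ⟨x.1.1.1, (mem_map_iff x.1.1).2 ((QuotientGroup.eq_one_iff _).1 x.2), x.1.2.1⟩
        invFun := fun x => ⟨⟨⟨x.1, (hBR x.2).2⟩, hBR x.2⟩, (QuotientGroup.eq_one_iff _).2 ((mem_map_iff _).1 x.2.1)⟩
        left_inv := fun x => rfl
        right_inv := fun x => rfl }
  have hr : f.range = eimg Q R' := by rw [MonoidHom.range_comp, Subgroup.range_subtype]; rfl
  have h := f.ker.card_mul_index
  rw [Subgroup.index_ker, hr, hk,
    Nat.card_congr (Subgroup.subgroupOfEquivOfLe (H := B) inf_le_right).toEquiv, card_cent S hcard'] at h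
  rwa [mul_comm]

theorem thirtytwo_le_eimg [Finite G] (hcard' : Nat.card R' = 2 ^ 13) : 32 ≤ Nat.card (eimg Q R') := by
  have h := D.card_eimg S hcard'
  have h7 := card_inf_le S hcard'
  by_contra hlt
  push Not at hlt
  have := Nat.mul_lt_mul_of_lt_of_le hlt h7 (by norm_num)
  rw [h] at this
  norm_num at this

/-- A conjugate of `z` in `Q` is not in the small orbit. -/
theorem not_small [Finite G] (hcard' : Nat.card R' = 2 ^ 13) {k : Fin 5}
    (hsmall : ∀ w, Sing w → ((∃ g : Subgroup.centralizer ({z} : Set G) ⧸ Q,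
      g • D.coord.Ψ (repW 0) = D.coord.Ψ w) ↔ (blk w = 0 ∨ blk w = k)))
    (horb : Nat.card (MulAction.orbit (Subgroup.centralizer ({z} : Set G) ⧸ Q) (D.coord.Ψ (repW 0))) = 378)
    (ha : Sing (D.vec a)) : ¬ (blk (D.vec a) = 0 ∨ blk (D.vec a) = k) := by
  intro hb
  haveI : Finite (Additive (Abelianization Q)) := Finite.of_equiv _ D.coord.Ψ.toEquiv
  obtain ⟨h, hh⟩ := (hsmall _ ha).2 hb
  rw [Ψ_vec] at hh
  refine D.coord.no_two_normal ((eimg Q R').map (MulAut.conj h⁻¹).toMonoidHom) ?_ ?_ ?_ ?_ D.index_M horb D.card_L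
  · rintro _ ⟨e, he, rfl⟩
    rw [← map_mul, eimg_inv S he, map_one]
  · rintro _ ⟨e, he, rfl⟩
    show (h⁻¹ * e * h⁻¹⁻¹) • _ = _
    rw [inv_inv, mul_smul, mul_smul, hh, eimg_fix S he, ← hh, inv_smul_smul]
  · rintro l hl _ ⟨e, he, rfl⟩
    refine ⟨h * l * h⁻¹ * e * (h * l * h⁻¹)⁻¹, D.eimg_norm S ?_ he, ?_⟩
    · rw [← hh, mul_smul, mul_smul, inv_smul_smul, hl]
    · show h⁻¹ * _ * h⁻¹⁻¹ = l * (h⁻¹ * e * h⁻¹⁻¹) * l⁻¹
      group
  · refine (D.thirtytwo_le_eimg S hcard').trans_eq ?_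
    exact Nat.card_congr ((eimg Q R').equivMapOfInjective _ (MulAut.conj h⁻¹).injective).toEquiv

omit S in
/-- A conjugate of `z` in `Q` other than `z` lies in the large orbit. -/
theorem conj_large [Finite G] {b : Q} (hb : IsConj z (inG z Q b)) (hbz : inG z Q b ≠ z) :
    Sing (D.vec b) ∧ ∃ l : Subgroup.centralizer ({z} : Set G) ⧸ Q,
      l • D.coord.Ψ (repW 1) = vcl Q b := by
  obtain ⟨g, hg⟩ := isConj_iff.1 hb
  have S := D.pair b hg hbz
  have hs : Sing (D.vec b) := by
    refine (D.sing_vec_iff b).2 ⟨orderOf_eq_prime ?_ ?_, hbz⟩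
    · rw [pow_two]; exact Subtype.ext S.hS.x_sq
    · exact fun e => S.hS.x_ne (congrArg Subtype.val e)
  obtain ⟨k, -, hsmall, hlarge, horb, -⟩ := D.orbits
  refine ⟨hs, ?_⟩
  rw [← Ψ_vec]
  exact (hlarge _ hs).2 (D.not_small S (D.card_conj g) hsmall horb hs)

end FData

end Cfsg.Agent.Lib.FischerType
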