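import Mathlib
import Cfsg.Agent.Lib.FischerType.Central
import Cfsg.Agent.Lib.FischerType.Pair
import Cfsg.Agent.S5442

/-!
Elements outside the unitary subgroup invert the element of order three.
-/

set_option autoImplicit false

namespace Cfsg.Agent.Lib.FischerType

open Cfsg.Agent.Lib.UThreeThree (Nine card_nine)

theorem center_U43 : Subgroup.center U43 = ⊥ := by
  haveI : IsSimpleGroup U43 := Classical.isSimpleGroup_PSU hNine 2 (by norm_num) (by norm_num)
  refine (Subgroup.Normal.eq_bot_or_eq_top inferInstance).resolve_right fun h => ?_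
  have hc := Subgroup.mem_center_iff.1 (h ▸ Subgroup.mem_top (eP 0) : eP 0 ∈ Subgroup.center U43) (rP 0)
  rw [rP_conj] at hc
  have h1 : tauP (tNums 0 0) = tauP (Pi.single 0 1) := by
    rw [Setting.tauP_single]; exact mul_right_cancel hc
  have h2 : tauP (tNums 0 0 - Pi.single 0 1) = 1 := by
    have h3 := Setting.tauP_add (tNums 0 0 - Pi.single 0 1) (Pi.single 0 1)
    rw [sub_add_cancel, h1] at h3
    exact mul_eq_right.1 h3.symm
  have h4 := congrFun (tauP_eq_one _ h2) 1
  revert h4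
  decide +kernel

theorem zmod_three_ne : ∀ a : ZMod 3, a ≠ 0 → a = 1 ∨ a = 2 := by decide

namespace Setting

variable {L W : Type*} [Group L] [AddCommGroup W] [DistribMulAction L W] (S : Setting L W)

theorem n_conj (g : L) : g * S.n * g⁻¹ = S.n ∨ g * S.n * g⁻¹ = S.n * S.n := by
  have hmem : g * S.n * g⁻¹ ∈ S.M := S.M_normal.conj_mem _ S.n_mem g
  have hc : S.θ ⟨_, hmem⟩ ∈ Subgroup.center U43 := by
    refine Subgroup.mem_center_iff.2 fun u => ?_
    obtain ⟨m, rfl⟩ := S.θ_surj u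
    rw [← map_mul, ← map_mul]
    refine congrArg S.θ (Subtype.ext ?_)
    have h := S.n_central (g⁻¹ * m * g) (by simpa using S.M_normal.conj_mem _ m.2 g⁻¹)
    calc (m : L) * (g * S.n * g⁻¹) = g * ((g⁻¹ * m * g) * S.n) * g⁻¹ := by group
      _ = g * (S.n * (g⁻¹ * m * g)) * g⁻¹ := by rw [h]
      _ = g * S.n * g⁻¹ * m := by group
  rw [center_U43, Subgroup.mem_bot] at hc
  obtain ⟨a, ha⟩ := S.exists_np hc
  change g * S.n * g⁻¹ = _ at ha
  have ha0 : a ≠ 0 := by
    rintro rfl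
    rw [S.np_zero, mul_inv_eq_one, mul_eq_left] at ha
    have := S.n_order
    rw [ha, orderOf_one] at this
    norm_num at this
  have h12 : a = 1 ∨ a = 2 := zmod_three_ne a ha0
  rcases h12 with rfl | rfl
  · left; rw [ha, np, show (1 : ZMod 3).val = 1 from rfl, pow_one]
  · right; rw [ha, np, show (2 : ZMod 3).val = 2 from rfl, pow_two]

variable {S} {Q : Form L W} (K : S.Coord Q)

theorem nu_dg : ∀ (a : ZMod 3) (p : K4), nuK (pwK a p) = pwK a (nuK p) := by decide +kernel

/-- Coordinates scaled by a diagonal map. -/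
def Coord.scale (a : Fin 6 → ZMod 3) : S.Coord Q where
  Ψ :=
    { toFun := fun w => K.Ψ (dg a w)
      invFun := fun x => dg (-a) (K.Ψ.symm x)
      left_inv := fun w => by
        funext i
        simp only [AddEquiv.symm_apply_apply, dg, Pi.neg_apply, ← pwK_add, neg_add_cancel, pwK_zero]
      right_inv := fun x => by
        have : dg a (dg (-a) (K.Ψ.symm x)) = K.Ψ.symm x := by
          funext i
          simp only [dg, Pi.neg_apply, ← pwK_add, add_neg_cancel, pwK_zero]
        simp only [this, AddEquiv.apply_symm_apply]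
      map_add' := fun u v => by
        rw [← map_add]
        congr 1
        funext i
        exact pwK_map_add _ _ _ }
  nu := fun w => by
    show K.Ψ (dg a fun i => nuK (w i)) = S.n • K.Ψ (dg a w)
    rw [← K.nu]
    congr 1
    funext i
    exact (nu_dg _ _).symm
  diag := fun c hc => by
    obtain ⟨g, hg, hgw⟩ := K.diag c hc
    refine ⟨g, hg, fun w => ?_⟩
    show g • K.Ψ (dg a w) = K.Ψ (dg a (dg c w))
    rw [hgw]
    congr 1
    funext i
    simp only [dg, ← pwK_add, add_comm]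
  triple := fun p q r h1 h2 h3 => by
    obtain ⟨σ, t, e0, e1, e2, hs, ht, g, hg, hgw⟩ := K.triple p q r h1 h2 h3
    refine ⟨σ, fun i => t i + a i - a (σ i), e0, e1, e2, hs, ?_, g, hg, fun w => ?_⟩
    · rw [Finset.sum_sub_distrib, Finset.sum_add_distrib, Equiv.sum_comp σ a, ht, zero_add, sub_self]
    · show g • K.Ψ (dg a w) = K.Ψ (dg a (mono σ _ w))
      rw [hgw, dg_eq_mono, dg_eq_mono, mono_mul, mono_mul, mul_one, one_mul]
      congr 2
      funext i
      simp
  form := fun w => by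
    show Q.q (K.Ψ (dg a w)) = _
    rw [K.form]
    congr 1
    unfold wt
    congr 1
    ext i
    simp [dg, pwK_eq_zero]

theorem scale_facts : Sing (dg (Pi.single 0 1) ones) ∧ blk (dg (Pi.single 0 1) ones) = 3 ∧ repW 2 = ones ∧
    Sing (dg (Pi.single 0 1) (repW 0)) ∧ blk (dg (Pi.single 0 1) (repW 0)) = 0 := by decide +kernel

include K in
/-- Coordinates in which the all-one vector is in the large orbit. -/
theorem Coord.exists_good [Finite L] [Finite W] (hL : Nat.card L = 19595520) :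
    ∃ (K' : S.Coord Q) (k : Fin 5), 2 ≤ k ∧ k ≠ 2 ∧
      (∀ w, Sing w → ((∃ g : L, g • K'.Ψ (repW 0) = K'.Ψ w) ↔ (blk w = 0 ∨ blk w = k))) ∧
      (∀ w, Sing w → ((∃ g : L, g • K'.Ψ (repW 1) = K'.Ψ w) ↔ ¬ (blk w = 0 ∨ blk w = k))) := by
  obtain ⟨k, hk2, hs, hl, -, -⟩ := K.two_orbits hL
  by_cases hk : k = 2
  · subst hk
    obtain ⟨f1, f2, f3, f4, f5⟩ := scale_facts
    obtain ⟨k', hk'2, hs', hl', -, -⟩ := (K.scale (Pi.single 0 1)).two_orbits hL
    refine ⟨K.scale (Pi.single 0 1), k', hk'2, fun e => ?_, hs', hl'⟩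
    subst e
    obtain ⟨g, hg⟩ := (hs' ones (f3 ▸ (rep_sing 2).1)).2 (Or.inr (f3 ▸ (rep_sing 2).2))
    change g • K.Ψ (dg _ (repW 0)) = K.Ψ (dg _ ones) at hg
    obtain ⟨h, hh⟩ := (hs _ f4).2 (Or.inl f5)
    have := (hs _ f1).1 ⟨g * h, by rw [mul_smul, hh, hg]⟩
    rw [f2] at this
    exact absurd this (by decide +kernel)
  · exact ⟨K, k, hk2, hk, hs, hl⟩

end Setting

/-- Outside `M` the element of order three is inverted. -/
theorem FData.not_central {G : Type*} [Group G] [Finite G] {z : G}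
    {Q : Subgroup (Subgroup.centralizer ({z} : Set G))} [Q.Normal] (D : FData z Q)
    (hF : Cfsg.IsOfLargeFischerTypeAt z Q) :
    ¬ ∀ g : Subgroup.centralizer ({z} : Set G) ⧸ Q, g * D.S.n = D.S.n * g := by
  intro hcent
  haveI : Finite (Additive (Abelianization Q)) := Finite.of_equiv _ D.coord.Ψ.toEquiv
  obtain ⟨K', k, hk2, hk, hsmall, hlarge⟩ := D.coord.exists_good D.card_L
  let D' : FData z Q := { D with coord := K' }
  obtain ⟨g, ⟨hsc, hsm⟩, hne⟩ := hF.1.2.2.2.2
  let b : Q := ⟨⟨g * z * g⁻¹, hsc⟩, hsm⟩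
  obtain ⟨-, l, hl⟩ := D'.conj_large (b := b) (isConj_iff.2 ⟨g, rfl⟩) hne
  have S := D.pair b (g := g) rfl hne
  have hcard := (S5442.result z Q hF (g * z * g⁻¹) ⟨hsc, hsm⟩ (isConj_iff.2 ⟨g, rfl⟩) hne g rfl _ _ rfl
    rfl).2.2.2.2.2.1
  obtain ⟨g', hg'⟩ := (hlarge (repW 2) (rep_sing 2).1).2 (by
    rw [(rep_sing 2).2]
    rintro (e | e)
    · exact absurd e (by decide)
    · exact hk e.symm)
  rw [Setting.scale_facts.2.2.1] at hg'
  have hmove : (l * g'⁻¹) • K'.Ψ ones = vcl Q b := by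
    rw [← hg', mul_smul, inv_smul_smul]; exact hl
  generalize l * g'⁻¹ = h at hmove
  refine K'.no_ones_group hcent ((eimg Q ((Q.map (Subgroup.centralizer ({z} : Set G)).subtype).map
    (MulAut.conj g).toMonoidHom)).map (MulAut.conj h⁻¹).toMonoidHom) ?_ ?_ ?_ ?_ k hk2 hk hsmall
  · rintro _ ⟨e, he, rfl⟩
    rw [← map_mul, eimg_inv S he, map_one]
  · rintro _ ⟨e, he, rfl⟩
    show (h⁻¹ * e * h⁻¹⁻¹) • _ = _
    rw [inv_inv, mul_smul, mul_smul, hmove, eimg_fix S he, ← hmove, inv_smul_smul]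
  · rintro x hx _ ⟨e, he, rfl⟩
    refine ⟨h * x * h⁻¹ * e * (h * x * h⁻¹)⁻¹, D.eimg_norm S ?_ he, ?_⟩
    · rw [← hmove, mul_smul, mul_smul, inv_smul_smul, hx]
    · show h⁻¹ * _ * h⁻¹⁻¹ = x * (h⁻¹ * e * h⁻¹⁻¹) * x⁻¹
      group
  · exact ((Nat.card_congr ((eimg Q _).equivMapOfInjective _ (MulAut.conj h⁻¹).injective).toEquiv).symm).trans hcard

/-- Exactly the elements of `M` commute with the element of order three. -/
theorem FData.commute_iff {G : Type*} [Group G] [Finite G] {z : G}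
    {Q : Subgroup (Subgroup.centralizer ({z} : Set G))} [Q.Normal] (D : FData z Q)
    (hF : Cfsg.IsOfLargeFischerTypeAt z Q) (g : Subgroup.centralizer ({z} : Set G) ⧸ Q) :
    g * D.S.n = D.S.n * g ↔ g ∈ D.S.M := by
  refine ⟨fun hg => ?_, fun hg => D.S.n_central g hg⟩
  by_contra hgM
  refine D.not_central hF fun x => ?_
  by_cases hx : x ∈ D.S.M
  · exact D.S.n_central x hx
  · have hxg : g⁻¹ * x ∈ D.S.M := by
      rw [Subgroup.mul_mem_iff_of_index_two D.index_M, inv_mem_iff]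
      exact iff_of_false hgM hx
    have h := D.S.n_central _ hxg
    calc x * D.S.n = g * (g⁻¹ * x * D.S.n) := by group
      _ = g * (D.S.n * (g⁻¹ * x)) := by rw [h]
      _ = (g * D.S.n) * (g⁻¹ * x) := by group
      _ = D.S.n * x := by rw [hg]; group

end Cfsg.Agent.Lib.FischerType
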