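import Mathlib
import Cfsg.Prelude.Def_Classical
import Cfsg.Agent.Lib.FischerType.Small

/-!
The 27 totally singular lines on four coordinates as the singular vectors of the minus form in dimension six.
-/

set_option autoImplicit false

namespace Cfsg.Agent.Lib.FischerType

open Matrix

set_option synthInstance.maxSize 1000

/-- The index type of the six-dimensional space. -/
abbrev I6 := (Fin 2 ⊕ Fin 2) ⊕ Fin 2

/-- The form. -/
abbrev Qm : (I6 → ZMod 2) → ZMod 2 := Cfsg.quadFormMinus 2 (ZMod 2) 1 1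

/-- The names of the lines. -/
abbrev Pt := Fin 3 × ZMod 3 × ZMod 3

/-- The lines in order. -/
def pt (i : Fin 27) : Pt :=
  (⟨i.val / 9, by omega⟩, ((i.val / 3 % 3 : ℕ) : ZMod 3), ((i.val % 3 : ℕ) : ZMod 3))

/-- The number of a line. -/
def ptNum (P : Pt) : Fin 27 :=
  ⟨9 * P.1.val + 3 * P.2.1.val + P.2.2.val, by
    have := P.1.isLt; have := ZMod.val_lt P.2.1; have := ZMod.val_lt P.2.2; omega⟩

theorem pt_ptNum : ∀ P, pt (ptNum P) = P := by decide +kernel

/-- Membership in a line. -/
def lineMem (P : Pt) (u : Fin 4 → K4) : Prop :=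
  u (![1, 2, 3] P.1) = pwK P.2.1 (u 0) ∧ u (![3, 3, 2] P.1) = pwK P.2.2 (u (![2, 1, 1] P.1))

instance (P : Pt) : DecidablePred (lineMem P) := fun u =>
  inferInstanceAs (Decidable (_ ∧ _))

/-- The position of a coordinate. -/
def slotNum : I6 → Fin 6 := Sum.elim (Sum.elim ![0, 1] ![2, 3]) ![4, 5]

/-- The coordinate at a position. -/
def slot : Fin 6 → I6 := ![.inl (.inl 0), .inl (.inl 1), .inl (.inr 0), .inl (.inr 1), .inr 0, .inr 1]

theorem slot_slotNum : ∀ i, slot (slotNum i) = i := by decide +kernel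

/-- The singular vector of a line. -/
def Tv (P : Pt) : I6 → ZMod 2 := fun i =>
  (((([8, 4, 12, 1, 2, 3, 9, 6, 15, 37, 30, 59, 27, 53, 46, 62, 43, 21, 45, 23, 58, 26, 61, 39, 55, 42, 29] : List ℕ).getD (ptNum P).val 0) / 2 ^ (slotNum i).val % 2 : ℕ) : ZMod 2)

/-- Six lines with independent vectors. -/
def base (j : I6) : Pt := pt (![8, 23, 7, 18, 3, 10] (slotNum j))

/-- The inverse of the matrix of the six vectors. -/
def baseInv : Matrix I6 I6 (ZMod 2) := Matrix.of fun i j =>
  (((([30, 38, 42, 6, 63, 16] : List ℕ).getD (slotNum i).val 0) / 2 ^ (slotNum j).val % 2 : ℕ) : ZMod 2)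

/-- Distinct lines with orthogonal vectors. -/
def Adj (P R : Pt) : Prop := P ≠ R ∧ Qm (Tv P + Tv R) = 0

instance (P R : Pt) : Decidable (Adj P R) := inferInstanceAs (Decidable (_ ∧ _))

theorem meet_of_adj : ∀ P R : Pt, Adj P R → ∃ u : Fin 4 → K4, u ≠ 0 ∧ lineMem P u ∧ lineMem R u := by decide +kernel

theorem adj_of_meet : ∀ u : Fin 4 → K4, u ≠ 0 → ∀ P : Pt, lineMem P u → ∀ R : Pt, lineMem R u → P ≠ R → Adj P R := by
  decide +kernel

theorem Tv_sing : ∀ P, Qm (Tv P) = 0 ∧ Tv P ≠ 0 := by decide +kernel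

theorem Tv_inj : ∀ P R, Tv P = Tv R → P = R := by decide +kernel

theorem Tv_surj : ∀ v : I6 → ZMod 2, Qm v = 0 → v ≠ 0 → ∃ P, Tv P = v := by decide +kernel

theorem third_line : ∀ P R : Pt, Adj P R → ∀ S, Adj P S → Adj R S → Tv S = Tv P + Tv R := by decide +kernel

/-- The matrix with given columns. -/
def colMat (f : Pt → Pt) : Matrix I6 I6 (ZMod 2) := Matrix.of fun i j => Tv (f (base j)) i

theorem colMat_base : colMat id * baseInv = 1 := by decide +kernel

theorem baseInv_col : ∀ j, baseInv *ᵥ Tv (base j) = Pi.single j 1 := by decide +kernel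

theorem all_of_closed {p : Pt → Prop} (hb : ∀ j, p (base j))
    (hs : ∀ P R S, Adj P R → Adj P S → Adj R S → p P → p R → p S) : ∀ P, p P := by
  have h8 : p (pt 8) := hb (slot 0)
  have h23 : p (pt 23) := hb (slot 1)
  have h7 : p (pt 7) := hb (slot 2)
  have h18 : p (pt 18) := hb (slot 3)
  have h3 : p (pt 3) := hb (slot 4)
  have h10 : p (pt 10) := hb (slot 5)
  have h6 : p (pt 6) := hs (pt 8) (pt 7) (pt 6) (by decide +kernel) (by decide +kernel) (by decide +kernel) h8 h7
  have h14 : p (pt 14) := hs (pt 23) (pt 6) (pt 14) (by decide +kernel) (by decide +kernel) (by decide +kernel) h23 h6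
  have h16 : p (pt 16) := hs (pt 7) (pt 18) (pt 16) (by decide +kernel) (by decide +kernel) (by decide +kernel) h7 h18
  have h2 : p (pt 2) := hs (pt 23) (pt 16) (pt 2) (by decide +kernel) (by decide +kernel) (by decide +kernel) h23 h16
  have h5 : p (pt 5) := hs (pt 8) (pt 2) (pt 5) (by decide +kernel) (by decide +kernel) (by decide +kernel) h8 h2
  have h0 : p (pt 0) := hs (pt 3) (pt 6) (pt 0) (by decide +kernel) (by decide +kernel) (by decide +kernel) h3 h6
  have h9 : p (pt 9) := hs (pt 18) (pt 0) (pt 9) (by decide +kernel) (by decide +kernel) (by decide +kernel) h18 h0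
  have h25 : p (pt 25) := hs (pt 8) (pt 9) (pt 25) (by decide +kernel) (by decide +kernel) (by decide +kernel) h8 h9
  have h4 : p (pt 4) := hs (pt 23) (pt 9) (pt 4) (by decide +kernel) (by decide +kernel) (by decide +kernel) h23 h9
  have h1 : p (pt 1) := hs (pt 7) (pt 4) (pt 1) (by decide +kernel) (by decide +kernel) (by decide +kernel) h7 h4
  have h19 : p (pt 19) := hs (pt 10) (pt 6) (pt 19) (by decide +kernel) (by decide +kernel) (by decide +kernel) h10 h6
  have h20 : p (pt 20) := hs (pt 18) (pt 19) (pt 20) (by decide +kernel) (by decide +kernel) (by decide +kernel) h18 h19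
  have h13 : p (pt 13) := hs (pt 8) (pt 20) (pt 13) (by decide +kernel) (by decide +kernel) (by decide +kernel) h8 h20
  have h26 : p (pt 26) := hs (pt 23) (pt 20) (pt 26) (by decide +kernel) (by decide +kernel) (by decide +kernel) h23 h20
  have h12 : p (pt 12) := hs (pt 7) (pt 26) (pt 12) (by decide +kernel) (by decide +kernel) (by decide +kernel) h7 h26
  have h11 : p (pt 11) := hs (pt 3) (pt 20) (pt 11) (by decide +kernel) (by decide +kernel) (by decide +kernel) h3 h20
  have h22 : p (pt 22) := hs (pt 7) (pt 11) (pt 22) (by decide +kernel) (by decide +kernel) (by decide +kernel) h7 h11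
  have h21 : p (pt 21) := hs (pt 23) (pt 22) (pt 21) (by decide +kernel) (by decide +kernel) (by decide +kernel) h23 h22
  have h17 : p (pt 17) := hs (pt 8) (pt 21) (pt 17) (by decide +kernel) (by decide +kernel) (by decide +kernel) h8 h21
  have h24 : p (pt 24) := hs (pt 18) (pt 21) (pt 24) (by decide +kernel) (by decide +kernel) (by decide +kernel) h18 h21
  have h15 : p (pt 15) := hs (pt 6) (pt 24) (pt 15) (by decide +kernel) (by decide +kernel) (by decide +kernel) h6 h24
  intro P
  rw [← pt_ptNum P]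
  generalize ptNum P = i
  fin_cases i <;> assumption

/-- Permutations of the lines preserving adjacency. -/
def lineAut : Subgroup (Equiv.Perm Pt) where
  carrier := {ρ | ∀ P R, Adj (ρ P) (ρ R) ↔ Adj P R}
  one_mem' := fun P R => Iff.rfl
  mul_mem' := fun {a b} ha hb P R => (ha _ _).trans (hb P R)
  inv_mem' := fun {a} ha P R => by
    rw [← ha (a⁻¹ P) (a⁻¹ R), Equiv.Perm.coe_inv, Equiv.apply_symm_apply, Equiv.apply_symm_apply]

/-- The linear map of a permutation. -/
def permMat (ρ : Equiv.Perm Pt) : Matrix I6 I6 (ZMod 2) := colMat ρ * baseInv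

theorem permMat_spec (ρ : lineAut) : ∀ P, permMat ρ *ᵥ Tv P = Tv ((ρ : Equiv.Perm Pt) P) := by
  refine all_of_closed (fun j => ?_) (fun P R S hPR hPS hRS hP hR => ?_)
  · rw [permMat, ← mulVec_mulVec, baseInv_col, mulVec_single_one]
    rfl
  · rw [third_line P R hPR S hPS hRS, mulVec_add, hP, hR,
      third_line _ _ ((ρ.2 _ _).2 hPR) _ ((ρ.2 _ _).2 hPS) ((ρ.2 _ _).2 hRS)]

theorem mat_ext {A B : Matrix I6 I6 (ZMod 2)} (h : ∀ P, A *ᵥ Tv P = B *ᵥ Tv P) : A = B := by
  have key : A * colMat id = B * colMat id := by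
    ext i j
    exact congrFun (h (base j)) i
  calc A = A * (colMat id * baseInv) := by rw [colMat_base, mul_one]
    _ = B * (colMat id * baseInv) := by rw [← mul_assoc, key, mul_assoc]
    _ = B := by rw [colMat_base, mul_one]

theorem permMat_one : permMat 1 = 1 := colMat_base

theorem permMat_mul (ρ σ : lineAut) :
    permMat (ρ * σ : lineAut) = permMat ρ * permMat σ := by
  refine mat_ext fun P => ?_
  rw [permMat_spec, ← mulVec_mulVec, permMat_spec, permMat_spec]
  rfl

/-- The linear map as a unit. -/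
def lineGL : lineAut →* Matrix.GeneralLinearGroup I6 (ZMod 2) :=
  MonoidHom.toHomUnits
    { toFun := fun ρ => permMat ρ
      map_one' := permMat_one
      map_mul' := permMat_mul }

theorem lineGL_coe (ρ : lineAut) : ((lineGL ρ : Matrix.GeneralLinearGroup I6 (ZMod 2)) : Matrix I6 I6 (ZMod 2)) = permMat ρ :=
  rfl

theorem lineGL_mem (ρ : lineAut) : lineGL ρ ∈ Cfsg.isometryGroup (ZMod 2) Qm := by
  intro v _
  show Qm (permMat ρ *ᵥ v) = Qm v
  have hback : ∀ w, permMat (ρ⁻¹ : lineAut) *ᵥ (permMat ρ *ᵥ w) = w := fun w => by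
    rw [mulVec_mulVec, ← permMat_mul, inv_mul_cancel]
    show permMat 1 *ᵥ w = w
    rw [permMat_one, one_mulVec]
  have hzero : Qm 0 = 0 := by decide +kernel
  by_cases hv : Qm v = 0
  · rw [hv]
    by_cases hv0 : v = 0
    · rw [hv0, mulVec_zero, hzero]
    · obtain ⟨P, rfl⟩ := Tv_surj v hv hv0
      rw [permMat_spec]
      exact (Tv_sing _).1
  · have hne : Qm (permMat ρ *ᵥ v) ≠ 0 := by
      intro h
      by_cases h0 : permMat ρ *ᵥ v = 0
      · have := hback v
        rw [h0, mulVec_zero] at this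
        exact hv (this ▸ hzero)
      · obtain ⟨R, hR⟩ := Tv_surj _ h h0
        have := hback v
        rw [← hR, permMat_spec] at this
        exact hv (this ▸ (Tv_sing _).1)
    have hz : ∀ a b : ZMod 2, a ≠ 0 → b ≠ 0 → a = b := by decide
    exact hz _ _ hne hv

/-- Automorphisms of the lines as isometries. -/
def lineIso : lineAut →* Cfsg.isometryGroup (ZMod 2) Qm := lineGL.codRestrict _ lineGL_mem

theorem lineIso_injective : Function.Injective lineIso := by
  intro ρ σ h
  refine Subtype.ext (Equiv.ext fun P => Tv_inj _ _ ?_)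
  have h' : permMat ρ = permMat σ := congrArg (fun x : Cfsg.isometryGroup (ZMod 2) Qm =>
    ((x : Matrix.GeneralLinearGroup I6 (ZMod 2)) : Matrix I6 I6 (ZMod 2))) h
  rw [← permMat_spec, ← permMat_spec, h']

end Cfsg.Agent.Lib.FischerType
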