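import Mathlib
import Cfsg.Agent.Lib.Classical.LowRank.MinusSix
import Cfsg.Agent.Lib.Classical.Standard
import Cfsg.Agent.Lib.Classical.UnitaryCentre
import Cfsg.Agent.Lib.UFourTwo.Iso

/-!
The isometry group of the minus form in dimension six over two elements has no subgroup of index three or four.
-/

set_option autoImplicit false

namespace Cfsg.Agent.Lib.FischerType

theorem aniso_two : ∀ z₁ z₂ : ZMod 2, z₁ ^ 2 + 1 * z₁ * z₂ + 1 * z₂ ^ 2 = 0 → z₁ = 0 ∧ z₂ = 0 := by
  decide +kernel

theorem card_Qm : Nat.card (Cfsg.isometryGroup (ZMod 2) (Cfsg.quadFormMinus 2 (ZMod 2) 1 1)) = 51840 := by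
  rw [Lib.Classical.natCard_isometryGroup_minus aniso_two 2, Nat.card_zmod]
  norm_num [Finset.prod_range_succ]

theorem index_le_two {H : Subgroup (Cfsg.isometryGroup (ZMod 2) (Cfsg.quadFormMinus 2 (ZMod 2) 1 1))}
    (h4 : H.index ≤ 4) : H.index ≤ 2 := by
  classical
  obtain ⟨e⟩ := Lib.Classical.LowRank.nonempty_POmega_minus_six (K := Lib.Golay.Quad) (q := 2)
    (ZMod.card 2) Lib.UFourTwo.hq 1 1 aniso_two
  haveI : IsSimpleGroup (Cfsg.PSU 4 Lib.Golay.Quad 2) :=
    Lib.Classical.isSimpleGroup_PSU Lib.UFourTwo.hq 2 (by norm_num) (by norm_num)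
  haveI : IsSimpleGroup (Cfsg.POmega (ZMod 2) (Cfsg.quadFormMinus 2 (ZMod 2) 1 1)) := e.isSimpleGroup
  have hcardP : Nat.card (Cfsg.POmega (ZMod 2) (Cfsg.quadFormMinus 2 (ZMod 2) 1 1)) = 25920 := by
    rw [Nat.card_congr e.toEquiv]; exact Lib.UFourTwo.natCard_psu
  let O := Cfsg.Omega (ZMod 2) (Cfsg.quadFormMinus 2 (ZMod 2) 1 1)
  let π : O →* Cfsg.POmega (ZMod 2) (Cfsg.quadFormMinus 2 (ZMod 2) 1 1) := QuotientGroup.mk' _
  have hπ : Function.Surjective π := QuotientGroup.mk'_surjective _
  set C := H.normalCore with hC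
  haveI : (C.subgroupOf O).Normal := Subgroup.Normal.subgroupOf H.normalCore_normal O
  haveI : ((C.subgroupOf O).map π).Normal := Subgroup.Normal.map inferInstance π hπ
  have hbig : 25920 ≤ Nat.card C := by
    rcases Subgroup.Normal.eq_bot_or_eq_top (inferInstance : ((C.subgroupOf O).map π).Normal) with hb | ht
    · -- too small a quotient
      exfalso
      have hle : C.subgroupOf O ≤ Subgroup.center O := by
        rw [Subgroup.map_eq_bot_iff, QuotientGroup.ker_mk'] at hb
        exact hb
      have h1 : C.index ≤ 24 := by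
        rw [hC, Subgroup.normalCore_eq_ker, Subgroup.index_ker]
        refine le_trans (Nat.card_le_card_of_injective _ Subtype.val_injective) ?_
        rw [Nat.card_perm, ← Subgroup.index_eq_card]
        exact (Nat.factorial_le h4).trans (by norm_num [Nat.factorial])
      have h2 : (C.subgroupOf O).index ≤ 24 :=
        le_trans (Nat.le_of_dvd (Nat.pos_of_ne_zero Subgroup.index_ne_zero_of_finite)
          (Subgroup.relIndex_dvd_index_of_normal C O)) h1
      have h3 : (Subgroup.center O).index ≤ 24 :=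
        le_trans (Nat.le_of_dvd (Nat.pos_of_ne_zero Subgroup.index_ne_zero_of_finite)
          (Subgroup.index_dvd_of_le hle)) h2
      have h4' : (Subgroup.center O).index = 25920 := by
        rw [Subgroup.index_eq_card]; exact hcardP
      omega
    · have h1 := Subgroup.card_dvd_of_surjective (π.subgroupMap (C.subgroupOf O)) (π.subgroupMap_surjective _)
      rw [ht, Subgroup.card_top, hcardP] at h1
      refine le_trans (Nat.le_of_dvd Nat.card_pos h1) ?_
      exact Nat.card_le_card_of_injective (fun x : C.subgroupOf O => (⟨x.1.1, x.2⟩ : C))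
        fun x y h => Subtype.ext (Subtype.ext (congrArg Subtype.val h :))
  have hH : 25920 ≤ Nat.card H :=
    hbig.trans (Subgroup.card_le_of_le (Subgroup.normalCore_le H))
  have h := H.card_mul_index
  rw [card_Qm] at h
  nlinarith

end Cfsg.Agent.Lib.FischerType
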