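import Mathlib
import Cfsg.Agent.Lib.FischerType.Small
import Cfsg.Agent.Lib.FischerType.Lines

/-!
The stabiliser of the representative of weight two permutes the 27 lines on the last four coordinates.
-/

set_option autoImplicit false

namespace Cfsg.Agent.Lib.FischerType

set_option synthInstance.maxSize 1000

theorem nuK_three : ∀ p : K4, nuK (nuK (nuK p)) = p := by decide +kernel

theorem nuK_two : ∀ p : K4, nuK (nuK p) = p + nuK p := by decide +kernel

theorem nu_map : ∀ p q : K4, nuK (p + q) = nuK p + nuK q := by decide +kernel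

theorem tail_nu (w : W6) : tail (fun i => nuK (w i)) = fun i => nuK (tail w i) := by
  funext i; fin_cases i <;> rfl

theorem ext_nu (u : Fin 4 → K4) : ext (fun i => nuK (u i)) = fun i => nuK (ext u i) := by
  funext i; fin_cases i <;> rfl

theorem line_nu (p : K4) : lineW (nuK p) = fun i => nuK (lineW p i) := by
  funext i; fin_cases i <;> rfl

theorem line_ortho {w : W6} (h : w 0 = w 1) (p : K4) : wt (w + lineW p) % 2 = wt w % 2 := by
  rw [wt_split (w + lineW p), wt_split w, tail_add, tail_line, add_zero,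
    show (w + lineW p) 0 = w 0 + p from rfl, show (w + lineW p) 1 = w 1 + p from rfl, h]
  omega

theorem wt_line_ext (p : K4) (u : Fin 4 → K4) : wt (lineW p + ext u) % 2 = wt4 u % 2 := by
  rw [wt_split, tail_add, tail_line, tail_ext, zero_add, show (lineW p + ext u) 0 = p + 0 from rfl,
    show (lineW p + ext u) 1 = p + 0 from rfl]
  omega

theorem lineMem_add {P : Pt} {u v : Fin 4 → K4} (h : lineMem P u) (h' : lineMem P v) : lineMem P (u + v) := by
  constructor <;> simp only [Pi.add_apply, pwK_map_add, h.1, h.2, h'.1, h'.2]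

theorem lineMem_zero (P : Pt) : lineMem P 0 := by
  constructor <;> simp [(pwK_eq_zero _ _).2 rfl]

theorem nuK_pwK : ∀ (a : ZMod 3) (p : K4), nuK (pwK a p) = pwK a (nuK p) := by decide +kernel

theorem lineMem_nu {P : Pt} {u : Fin 4 → K4} (h : lineMem P u) : lineMem P fun i => nuK (u i) :=
  ⟨(congrArg nuK h.1).trans (nuK_pwK _ _), (congrArg nuK h.2).trans (nuK_pwK _ _)⟩

theorem line_even : ∀ (P : Pt) (u : Fin 4 → K4), lineMem P u → wt4 u % 2 = 0 := by decide +kernel

theorem line_card : ∀ P : Pt, (Finset.univ.filter fun u : Fin 4 → K4 => lineMem P u).card = 16 := by decide +kernel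

theorem line_witness : ∀ P R : Pt, P ≠ R → ∃ u : Fin 4 → K4, lineMem P u ∧ ¬ lineMem R u := by decide +kernel

theorem line_unique {P R : Pt} (h : ∀ u, lineMem P u ↔ lineMem R u) : P = R := by
  by_contra hne
  obtain ⟨u, hu, hu'⟩ := line_witness P R hne
  exact hu' ((h u).1 hu)

/-- A vector of weight two away from the first coordinate. -/
def pairVec (m : Fin 3) (b : ZMod 3) (p : K4) : Fin 4 → K4 :=
  Pi.single (![2, 1, 1] m) p + Pi.single (![3, 3, 2] m) (pwK b p)

theorem exists_pairVec : ∀ w : Fin 4 → K4, w 0 = 0 → wt4 w % 2 = 0 → w ≠ 0 →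
    ∃ m b p, p ≠ 0 ∧ w = pairVec m b p := by decide +kernel

theorem pairVec_ortho : ∀ (m : Fin 3) (b : ZMod 3) (p : K4), p ≠ 0 → ∀ v : Fin 4 → K4, wt4 v % 2 = 0 →
    wt4 (v + pairVec m b p) % 2 = 0 → wt4 (v + fun i => nuK (pairVec m b p i)) % 2 = 0 →
    v (![3, 3, 2] m) = pwK b (v (![2, 1, 1] m)) ∧ (v 0 = 0 → v (![1, 2, 3] m) = 0) ∧
      (v 0 ≠ 0 → v (![1, 2, 3] m) ≠ 0) := by decide +kernel

theorem small_slice : ∀ (m : Fin 3) (b : ZMod 3),
    (Finset.univ.filter fun v : Fin 4 → K4 => v 0 = 0 ∧ v (![1, 2, 3] m) = 0 ∧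
      v (![3, 3, 2] m) = pwK b (v (![2, 1, 1] m))).card < 16 := by decide +kernel

/-- A totally singular space of sixteen vectors is a line. -/
theorem line_of_set {X : Finset (Fin 4 → K4)} (hadd : ∀ u ∈ X, ∀ v ∈ X, u + v ∈ X)
    (hnu : ∀ u ∈ X, (fun i => nuK (u i)) ∈ X) (heven : ∀ u ∈ X, wt4 u % 2 = 0) (hcard : X.card = 16) :
    ∃ R : Pt, ∀ u, u ∈ X ↔ lineMem R u := by
  classical
  obtain ⟨u, hu, v, hv, huv, e⟩ := Finset.exists_ne_map_eq_of_card_lt_of_maps_to
    (s := X) (t := (Finset.univ : Finset K4)) (f := fun u => u 0) (by rw [hcard]; decide +kernel)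
    (fun _ _ => Finset.mem_univ _)
  have hw0 : (u + v) 0 = 0 := by
    show u 0 + v 0 = 0
    rw [show u 0 = v 0 from e, k4_self]
  have hwne : u + v ≠ 0 := fun h => huv (funext fun i => by
    have h' := congrArg (· + v i) (congrFun h i)
    simpa [add_assoc, k4_self] using h')
  obtain ⟨m, b, p, hp, hw⟩ := exists_pairVec _ hw0 (heven _ (hadd _ hu _ hv)) hwne
  have hwX : pairVec m b p ∈ X := hw ▸ hadd _ hu _ hv
  have hortho := fun x (hx : x ∈ X) => pairVec_ortho m b p hp x (heven _ hx) (heven _ (hadd _ hx _ hwX))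
    (heven _ (hadd _ hx _ (hnu _ hwX)))
  obtain ⟨x, hx, hx0⟩ : ∃ x ∈ X, x 0 ≠ 0 := by
    by_contra hno
    push Not at hno
    have := (Finset.card_le_card (s := X) (t := Finset.univ.filter fun v : Fin 4 → K4 =>
      v 0 = 0 ∧ v (![1, 2, 3] m) = 0 ∧ v (![3, 3, 2] m) = pwK b (v (![2, 1, 1] m))) fun y hy => by
        simp only [Finset.mem_filter, Finset.mem_univ, true_and]
        exact ⟨hno y hy, (hortho y hy).2.1 (hno y hy), (hortho y hy).1⟩).trans_lt (small_slice m b)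
    omega
  have hxj := (hortho x hx).2.2 hx0
  have hXpw : ∀ (n : ℕ), ∀ y ∈ X, (fun i => nuK^[n] (y i)) ∈ X := by
    intro n
    induction n with
    | zero => exact fun y hy => hy
    | succ n ih =>
      intro y hy
      simpa only [Function.iterate_succ_apply'] using hnu _ (ih y hy)
  let R : Pt := (m, lg (x (![1, 2, 3] m)) - lg (x 0), b)
  have hsub : ∀ y ∈ X, lineMem R y := by
    intro y hy
    refine ⟨?_, (hortho y hy).1⟩
    show y (![1, 2, 3] m) = pwK (lg (x (![1, 2, 3] m)) - lg (x 0)) (y 0)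
    rcases eq_or_ne (y 0) 0 with h0 | h0
    · rw [h0, (hortho y hy).2.1 h0, (pwK_eq_zero _ _).2 rfl]
    · have hz : y + (fun i => pwK (lg (y 0) - lg (x 0)) (x i)) ∈ X := hadd _ hy _ (hXpw _ x hx)
      have h1 := (hortho _ hz).2.1 (by
        show y 0 + pwK _ (x 0) = 0
        rw [pwK_lg_sub _ _ hx0 h0, k4_self])
      have h2 : y (![1, 2, 3] m) = pwK (lg (y 0) - lg (x 0)) (x (![1, 2, 3] m)) := by
        have h' := congrArg (· + pwK (lg (y 0) - lg (x 0)) (x (![1, 2, 3] m))) h1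
        simpa [add_assoc, k4_self] using h'
      rw [h2]
      conv_lhs => rw [← pwK_lg_sub _ _ hx0 hxj]
      conv_rhs => rw [← pwK_lg_sub _ _ hx0 h0]
      rw [← pwK_add, ← pwK_add, add_comm]
  refine ⟨R, fun y => ⟨hsub y, fun hy => ?_⟩⟩
  have hEq : X = Finset.univ.filter fun v => lineMem R v :=
    Finset.eq_of_subset_of_card_le (fun z hz => Finset.mem_filter.2 ⟨Finset.mem_univ z, hsub z hz⟩)
      (by rw [hcard, line_card])
  rw [hEq]
  exact Finset.mem_filter.2 ⟨Finset.mem_univ y, hy⟩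

theorem point_mem : ∀ (m : Fin 3) (a : ZMod 3) (p : K4), ∀ c : ZMod 3,
    lineMem (m, a, c) (Pi.single 0 p + Pi.single (![1, 2, 3] m) (pwK a p)) ∧
      lineMem (m, c, a) (pairVec m a p) := by decide +kernel

theorem point_cases : ∀ (m : Fin 3) (a : ZMod 3) (v : Fin 4 → K4),
    (lineMem (m, a, 0) v → lineMem (m, a, 1) v → v (![2, 1, 1] m) = 0 ∧ v (![3, 3, 2] m) = 0 ∧
      v (![1, 2, 3] m) = pwK a (v 0)) ∧
    (lineMem (m, 0, a) v → lineMem (m, 1, a) v → v 0 = 0 ∧ v (![1, 2, 3] m) = 0 ∧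
      v (![3, 3, 2] m) = pwK a (v (![2, 1, 1] m))) := by decide +kernel

theorem scalar_of_table : ∀ q : K4, q ≠ 0 → ∃ c : ZMod 3, pwK c (1, 0) = q ∧ pwK c (0, 1) = nuK q := by
  decide +kernel

theorem k4_split : ∀ p : K4, p = 0 ∨ p = (1, 0) ∨ p = (0, 1) ∨ p = (1, 0) + (0, 1) := by decide +kernel

theorem single_from_pairs : ∀ r : K4, nuK (nuK r) + nuK r = r ∧ nuK r + nuK (nuK r) = r := by decide +kernel

theorem pairs_sum (i j : Fin 4) (r : K4) :
    (Pi.single i r : Fin 4 → K4) =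
        (Pi.single i (nuK (nuK r)) + Pi.single j (pwK 0 (nuK (nuK r)))) +
          (Pi.single i (nuK r) + Pi.single j (pwK 1 (nuK r))) ∧
      (Pi.single j r : Fin 4 → K4) =
        (Pi.single i (nuK r) + Pi.single j (pwK 0 (nuK r))) + (Pi.single i (nuK r) + Pi.single j (pwK 1 (nuK r))) := by
  have h0 : ∀ p, pwK 0 p = p := fun p => rfl
  have h1 : ∀ p, pwK 1 p = nuK p := fun p => rfl
  have hs := single_from_pairs r
  constructor <;> funext m <;> rcases eq_or_ne m i with rfl | hi <;> rcases eq_or_ne m j with rfl | hj <;>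
    simp only [h0, h1, Pi.add_apply, Pi.single_eq_same, ne_eq, not_false_eq_true, Pi.single_eq_of_ne, *] <;>
    first
      | exact hs.1.symm
      | simp [k4_self]
      | (rw [hs.1, k4_self, add_zero])
      | (rw [k4_self, zero_add]; exact hs.2.symm)
      | exact hs.2.symm
      | skip
  all_goals first | rw [hs.1] | rw [hs.2]

/-- An additive map fixing every line is a scalar. -/
theorem scalar_of_fix {P : (Fin 4 → K4) → (Fin 4 → K4)} (hadd : ∀ u v, P (u + v) = P u + P v)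
    (hinj : Function.Injective P) (hline : ∀ R u, lineMem R u → lineMem R (P u)) :
    ∃ c : ZMod 3, ∀ u, P u = fun i => pwK c (u i) := by
  have hA : ∀ (m : Fin 3) (a : ZMod 3) (p : K4),
      let v := P (Pi.single 0 p + Pi.single (![1, 2, 3] m) (pwK a p))
      v (![2, 1, 1] m) = 0 ∧ v (![3, 3, 2] m) = 0 ∧ v (![1, 2, 3] m) = pwK a (v 0) := fun m a p =>
    (point_cases m a _).1 (hline _ _ (point_mem m a p 0).1) (hline _ _ (point_mem m a p 1).1)
  have hB : ∀ (m : Fin 3) (a : ZMod 3) (p : K4),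
      let v := P (pairVec m a p)
      v 0 = 0 ∧ v (![1, 2, 3] m) = 0 ∧ v (![3, 3, 2] m) = pwK a (v (![2, 1, 1] m)) := fun m a p =>
    (point_cases m a _).2 (hline _ _ (point_mem m a p 0).2) (hline _ _ (point_mem m a p 1).2)
  -- supports
  have hP0 : P 0 = 0 := by
    have h := hadd 0 0
    rw [add_zero] at h
    exact add_eq_left.1 h.symm
  have hpart : ∀ A B x, P A x = 0 → P B x = 0 → P (A + B) x = 0 := fun A B x h h' => by
    rw [hadd, Pi.add_apply, h, h', add_zero]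
  have hfst : ∀ m r x, (x = ![2, 1, 1] m ∨ x = ![3, 3, 2] m) →
      P (Pi.single 0 r) x = 0 ∧ P (Pi.single (![1, 2, 3] m) r) x = 0 := by
    intro m r x hx
    obtain ⟨e1, e2⟩ := pairs_sum 0 (![1, 2, 3] m) r
    rw [e1, e2]
    rcases hx with rfl | rfl
    · exact ⟨hpart _ _ _ (hA m _ _).1 (hA m _ _).1, hpart _ _ _ (hA m _ _).1 (hA m _ _).1⟩
    · exact ⟨hpart _ _ _ (hA m _ _).2.1 (hA m _ _).2.1, hpart _ _ _ (hA m _ _).2.1 (hA m _ _).2.1⟩
  have hsnd : ∀ m r x, (x = 0 ∨ x = ![1, 2, 3] m) →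
      P (Pi.single (![2, 1, 1] m) r) x = 0 ∧ P (Pi.single (![3, 3, 2] m) r) x = 0 := by
    intro m r x hx
    obtain ⟨e1, e2⟩ := pairs_sum (![2, 1, 1] m) (![3, 3, 2] m) r
    rw [e1, e2]
    rcases hx with rfl | rfl
    · exact ⟨hpart _ _ _ (hB m _ _).1 (hB m _ _).1, hpart _ _ _ (hB m _ _).1 (hB m _ _).1⟩
    · exact ⟨hpart _ _ _ (hB m _ _).2.1 (hB m _ _).2.1, hpart _ _ _ (hB m _ _).2.1 (hB m _ _).2.1⟩
  have hsupp : ∀ i x r, x ≠ i → P (Pi.single i r) x = 0 := by
    intro i x r hne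
    fin_cases i <;> fin_cases x <;> first | exact absurd rfl hne | skip
    · exact (hfst 1 r _ (Or.inl rfl)).1
    · exact (hfst 0 r _ (Or.inl rfl)).1
    · exact (hfst 0 r _ (Or.inr rfl)).1
    · exact (hsnd 1 r _ (Or.inl rfl)).1
    · exact (hfst 0 r _ (Or.inl rfl)).2
    · exact (hfst 0 r _ (Or.inr rfl)).2
    · exact (hsnd 0 r _ (Or.inl rfl)).1
    · exact (hfst 1 r _ (Or.inl rfl)).2
    · exact (hfst 1 r _ (Or.inr rfl)).2
    · exact (hsnd 0 r _ (Or.inl rfl)).2
    · exact (hfst 2 r _ (Or.inl rfl)).2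
    · exact (hfst 2 r _ (Or.inr rfl)).2
  let g : Fin 4 → K4 → K4 := fun i r => P (Pi.single i r) i
  have hrel : ∀ m a p, g (![1, 2, 3] m) (pwK a p) = pwK a (g 0 p) := by
    intro m a p
    have hj : (![1, 2, 3] m : Fin 4) ≠ 0 := by fin_cases m <;> simp
    have h : _ = pwK a _ := (hA m a p).2.2
    rw [hadd, Pi.add_apply, Pi.add_apply, hsupp 0 _ p hj, hsupp (![1, 2, 3] m) 0 _ (Ne.symm hj), zero_add,
      add_zero] at h
    exact h
  have hsame : ∀ i r, g i r = g 0 r := by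
    intro i r
    fin_cases i
    · rfl
    · exact hrel 0 0 r
    · exact hrel 1 0 r
    · exact hrel 2 0 r
  have hnu : g 0 (nuK (1, 0)) = nuK (g 0 (1, 0)) := (hsame 1 _).symm.trans (hrel 0 1 (1, 0))
  have hg0 : g 0 0 = 0 := by show P (Pi.single 0 0) 0 = 0; rw [Pi.single_zero, hP0]; rfl
  have hne : g 0 (1, 0) ≠ 0 := by
    intro h
    have h' : P (Pi.single 0 (1, 0)) = P 0 := by
      rw [hP0]
      funext x
      rcases eq_or_ne x 0 with rfl | hx
      · exact h
      · exact hsupp 0 x _ hx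
    exact one_zero_ne (Pi.single_eq_zero_iff.1 (hinj h'))
  obtain ⟨c, hc1, hc2⟩ := scalar_of_table _ hne
  have hgc : ∀ r, g 0 r = pwK c r := by
    intro r
    rcases k4_split r with rfl | rfl | rfl | rfl
    · rw [hg0, (pwK_eq_zero _ _).2 rfl]
    · exact hc1.symm
    · rw [hc2]; exact hnu
    · show P (Pi.single 0 ((1, 0) + (0, 1))) 0 = _
      rw [Pi.single_add, hadd, pwK_map_add, hc1, hc2, ← hnu]
      rfl
  refine ⟨c, fun u => funext fun x => ?_⟩
  conv_lhs => rw [show u = Pi.single 0 (u 0) + Pi.single 1 (u 1) + Pi.single 2 (u 2) + Pi.single 3 (u 3) by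
    funext y; fin_cases y <;> simp]
  simp only [hadd, Pi.add_apply]
  rw [← hgc, ← hsame x]
  fin_cases x <;>
    simp [g, hsupp 0 1, hsupp 0 2, hsupp 0 3, hsupp 1 0, hsupp 1 2, hsupp 1 3, hsupp 2 0, hsupp 2 1, hsupp 2 3,
      hsupp 3 0, hsupp 3 1, hsupp 3 2]

end Cfsg.Agent.Lib.FischerType
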