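import Mathlib
import Cfsg.Agent.Lib.FischerType.Tail
import Cfsg.Agent.Lib.FischerType.OmegaSix
import Cfsg.Agent.Lib.FischerType.Outer

/-!
The stabiliser of a vector of the small orbit is the orthogonal group of minus type in dimension six.
-/

set_option autoImplicit false

namespace Cfsg.Agent.Lib.FischerType

theorem line_reps : repW 0 = lineW (1, 0) ∧ (fun i => nuK (repW 0 i)) = lineW (0, 1) := by decide +kernel

theorem line_split : ∀ p : K4, lineW p = 0 ∨ lineW p = repW 0 ∨ lineW p = (fun i => nuK (repW 0 i)) ∨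
    lineW p = repW 0 + fun i => nuK (repW 0 i) := by decide +kernel

theorem lineW_add : ∀ p q : K4, lineW (p + q) = lineW p + lineW q := by decide +kernel

theorem nu_scalar_ne : ∀ c : ZMod 3, pwK c (nuK (1, 0)) ≠ nuK (nuK (pwK c (1, 0))) := by decide +kernel

theorem k4_nu_fix : ∀ q : K4, nuK q = q → q = 0 := by decide +kernel

theorem nuK_neg_one : ∀ p : K4, pwK (-1) (nuK p) = p := by decide +kernel

theorem head_other : (![0, (1, 0), 0, 0, 0, 0] : W6) = ![(1, 0), 0, 0, 0, 0, 0] + repW 0 ∧
    (![0, (1, 0), 0, 0, 0, 0] : W6) + repW 0 = ![(1, 0), 0, 0, 0, 0, 0] := by decide +kernel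

theorem shift_witness : ∀ k : Fin 5, 2 ≤ k → ∀ b : ZMod 3, b ≠ 0 →
    Sing (dg ![0, 0, b, b, b, b] (repW k)) ∧
      ¬ (blk (dg ![0, 0, b, b, b, b] (repW k)) = 0 ∨ blk (dg ![0, 0, b, b, b, b] (repW k)) = k) := by
  decide +kernel

theorem double_ne : ∀ c : ZMod 3, c ≠ 0 → c + c ≠ 0 := by decide

theorem head_values : ∀ (b : ZMod 3) (a : K4),
    dg ![0, 0, b, b, b, b] (![a, 0, 0, 0, 0, 0] : W6) = ![a, 0, 0, 0, 0, 0] ∧
      dg ![0, 0, b, b, b, b] (lineW a) = lineW a := by decide +kernel

namespace Setting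

variable {L W : Type*} [Group L] [AddCommGroup W] [DistribMulAction L W] {S : Setting L W} {Q : Form L W}
  (K : S.Coord Q)

theorem Coord.act_nu_cases (g : L) :
    (g * S.n = S.n * g ∧ ∀ w, K.act g (fun i => nuK (w i)) = fun i => nuK (K.act g w i)) ∨
      ∀ w, K.act g (fun i => nuK (w i)) = fun i => nuK (nuK (K.act g w i)) := by
  rcases S.n_conj g with h | h
  · have h' := mul_inv_eq_iff_eq_mul.1 h
    exact Or.inl ⟨h', fun w => K.act_nu_comm h' w⟩
  · right
    intro w
    have h' : g * S.n = S.n * (S.n * g) := by rw [mul_inv_eq_iff_eq_mul.1 h, mul_assoc]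
    apply K.Ψ.injective
    rw [K.nu (fun i => nuK (K.act g w i)), K.nu (K.act g w), Coord.act, Coord.act, AddEquiv.apply_symm_apply,
      AddEquiv.apply_symm_apply, K.nu, ← mul_smul, h', mul_smul, mul_smul]

theorem Coord.line_stab {e : L} (he : e • K.Ψ (repW 0) = K.Ψ (repW 0)) (p : K4) :
    ∃ p', K.act e (lineW p) = lineW p' := by
  have h1 : K.act e (repW 0) = lineW (1, 0) := (K.act_spec he).trans line_reps.1
  obtain ⟨q, h2⟩ : ∃ q, K.act e (fun i => nuK (repW 0 i)) = lineW q := by
    rcases K.act_nu_cases e with ⟨-, h⟩ | h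
    · exact ⟨nuK (1, 0), by rw [h, h1, line_nu]⟩
    · exact ⟨nuK (nuK (1, 0)), by rw [h, h1, line_nu (nuK (1, 0)), line_nu]⟩
  rcases line_split p with r | r | r | r <;> rw [r]
  · exact ⟨0, by rw [K.act_zero, lineW_zero]⟩
  · exact ⟨_, h1⟩
  · exact ⟨_, h2⟩
  · exact ⟨(1, 0) + q, by rw [K.act_add, h1, h2, lineW_add]⟩

theorem Coord.U_stab {e : L} (he : e • K.Ψ (repW 0) = K.Ψ (repW 0)) {w : W6} (hw : w 0 = w 1) :
    K.act e w 0 = K.act e w 1 := by
  have key : ∀ p, wt (K.act e w + lineW p) % 2 = wt (K.act e w) % 2 := by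
    intro p
    obtain ⟨p', hp'⟩ := K.line_stab (inv_smul_eq_iff.2 he.symm : e⁻¹ • _ = _) p
    have h := K.act_inv_eq hp'
    rw [inv_inv] at h
    rw [← h, ← K.act_add, K.act_wt, K.act_wt, line_ortho hw]
  refine (ortho_iff _).1 ⟨?_, ?_⟩
  · rw [line_reps.1]; exact key _
  · rw [line_reps.2]; exact key _

/-- The action on the last four coordinates. -/
def Coord.tmap (e : L) (u : Fin 4 → K4) : Fin 4 → K4 := tail (K.act e (ext u))

theorem Coord.act_ext {e : L} (he : e • K.Ψ (repW 0) = K.Ψ (repW 0)) (u : Fin 4 → K4) :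
    K.act e (ext u) = lineW (K.act e (ext u) 0) + ext (K.tmap e u) :=
  eq_line_ext (K.U_stab he rfl)

theorem Coord.tmap_mul {e : L} (he : e • K.Ψ (repW 0) = K.Ψ (repW 0)) {f : L}
    (hf : f • K.Ψ (repW 0) = K.Ψ (repW 0)) (u : Fin 4 → K4) : K.tmap (e * f) u = K.tmap e (K.tmap f u) := by
  show tail (K.act (e * f) (ext u)) = _
  rw [K.act_mul]
  conv_lhs => rw [K.act_ext hf u, K.act_add]
  obtain ⟨p, hp⟩ := K.line_stab he (K.act f (ext u) 0)
  rw [hp, tail_add, tail_line, zero_add]
  rfl

theorem Coord.tmap_one (u : Fin 4 → K4) : K.tmap 1 u = u := by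
  show tail (K.act 1 (ext u)) = u
  rw [K.act_one, tail_ext]

theorem Coord.tmap_add (e : L) (u v : Fin 4 → K4) : K.tmap e (u + v) = K.tmap e u + K.tmap e v := by
  simp only [Coord.tmap, ext_add, K.act_add, tail_add]

theorem Coord.tmap_even {e : L} (he : e • K.Ψ (repW 0) = K.Ψ (repW 0)) (u : Fin 4 → K4) :
    wt4 (K.tmap e u) % 2 = wt4 u % 2 := by
  have h := K.act_wt e (ext u)
  rw [K.act_ext he u, wt_line_ext] at h
  rw [h]
  have h' := wt_line_ext 0 u
  rwa [lineW_zero, zero_add] at h'

theorem Coord.tmap_inj {e : L} (he : e • K.Ψ (repW 0) = K.Ψ (repW 0)) : Function.Injective (K.tmap e) := by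
  intro u v h
  have h' := congrArg (K.tmap e⁻¹) h
  rwa [← K.tmap_mul (inv_smul_eq_iff.2 he.symm) he, ← K.tmap_mul (inv_smul_eq_iff.2 he.symm) he, inv_mul_cancel,
    K.tmap_one, K.tmap_one] at h'

theorem Coord.exists_line {e : L} (he : e • K.Ψ (repW 0) = K.Ψ (repW 0)) (P : Pt) :
    ∃ R : Pt, ∀ u, lineMem R (K.tmap e u) ↔ lineMem P u := by
  classical
  let X : Finset (Fin 4 → K4) := (Finset.univ.filter fun u => lineMem P u).image (K.tmap e)
  have hX : ∀ v, v ∈ X ↔ ∃ u, lineMem P u ∧ K.tmap e u = v := fun v => by simp [X]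
  have hadd : ∀ u ∈ X, ∀ v ∈ X, u + v ∈ X := by
    intro u hu v hv
    obtain ⟨a, ha, rfl⟩ := (hX u).1 hu
    obtain ⟨b, hb, rfl⟩ := (hX v).1 hv
    exact (hX _).2 ⟨a + b, lineMem_add ha hb, K.tmap_add e a b⟩
  have hnu : ∀ u ∈ X, (fun i => nuK (u i)) ∈ X := by
    intro u hu
    obtain ⟨a, ha, rfl⟩ := (hX u).1 hu
    rcases K.act_nu_cases e with ⟨-, h⟩ | h
    · refine (hX _).2 ⟨_, lineMem_nu ha, ?_⟩
      simp only [Coord.tmap, ext_nu, h, tail_nu]
    · refine (hX _).2 ⟨_, lineMem_nu (lineMem_nu ha), ?_⟩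
      simp only [Coord.tmap, ext_nu, h, tail_nu, nuK_three]
  obtain ⟨R, hR⟩ := line_of_set hadd hnu (fun u hu => by
      obtain ⟨a, ha, rfl⟩ := (hX u).1 hu
      rw [K.tmap_even he, line_even P a ha])
    (by rw [Finset.card_image_of_injective _ (K.tmap_inj he), line_card])
  refine ⟨R, fun u => ?_⟩
  rw [← hR, hX]
  exact ⟨fun ⟨a, ha, e'⟩ => K.tmap_inj he e' ▸ ha, fun h => ⟨u, h, rfl⟩⟩

/-- The image of a line. -/
noncomputable def Coord.lineFun (e : MulAction.stabilizer L (K.Ψ (repW 0))) (P : Pt) : Pt :=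
  (K.exists_line e.2 P).choose

theorem Coord.lineFun_spec (e : MulAction.stabilizer L (K.Ψ (repW 0))) (P : Pt) :
    ∀ u, lineMem (K.lineFun e P) (K.tmap e u) ↔ lineMem P u :=
  (K.exists_line e.2 P).choose_spec

theorem Coord.lineFun_unique (e : MulAction.stabilizer L (K.Ψ (repW 0))) (P R : Pt)
    (h : ∀ u, lineMem R (K.tmap e u) ↔ lineMem P u) : K.lineFun e P = R := by
  refine line_unique fun v => ?_
  have hv : v = K.tmap e (K.tmap (e⁻¹ : MulAction.stabilizer L (K.Ψ (repW 0))) v) := by
    rw [← K.tmap_mul e.2 (e⁻¹).2, Subgroup.coe_inv, mul_inv_cancel, K.tmap_one]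
  rw [hv, h, K.lineFun_spec]

theorem Coord.lineFun_mul (e f : MulAction.stabilizer L (K.Ψ (repW 0))) (P : Pt) :
    K.lineFun (e * f) P = K.lineFun e (K.lineFun f P) :=
  K.lineFun_unique _ _ _ fun u => by
    rw [Subgroup.coe_mul, K.tmap_mul e.2 f.2, K.lineFun_spec, K.lineFun_spec]

theorem Coord.lineFun_one (P : Pt) : K.lineFun 1 P = P :=
  K.lineFun_unique _ _ _ fun u => by rw [Subgroup.coe_one, K.tmap_one]

/-- The permutation of the lines. -/
noncomputable def Coord.linePerm : MulAction.stabilizer L (K.Ψ (repW 0)) →* lineAut where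
  toFun e := ⟨
    { toFun := K.lineFun e
      invFun := K.lineFun e⁻¹
      left_inv := fun P => by rw [← K.lineFun_mul, inv_mul_cancel, K.lineFun_one]
      right_inv := fun P => by rw [← K.lineFun_mul, mul_inv_cancel, K.lineFun_one] }, by
    have key : ∀ (f : MulAction.stabilizer L (K.Ψ (repW 0))) P R, Adj P R →
        Adj (K.lineFun f P) (K.lineFun f R) := by
      intro f P R h
      obtain ⟨u, hu, hP, hR⟩ := meet_of_adj P R h
      refine adj_of_meet _ (fun h0 => hu (K.tmap_inj f.2 (h0.trans ?_))) _ ((K.lineFun_spec f P u).2 hP) _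
        ((K.lineFun_spec f R u).2 hR) fun e' => h.1 ?_
      · show 0 = tail (K.act f (ext 0))
        rw [ext_zero, K.act_zero, tail_zero]
      · have := congrArg (K.lineFun f⁻¹) e'
        rwa [← K.lineFun_mul, ← K.lineFun_mul, inv_mul_cancel, K.lineFun_one, K.lineFun_one] at this
    intro P R
    refine ⟨fun h => ?_, key e P R⟩
    have := key e⁻¹ _ _ h
    simpa only [Equiv.coe_fn_mk, ← K.lineFun_mul, inv_mul_cancel, K.lineFun_one] using this⟩
  map_one' := Subtype.ext (Equiv.ext fun P => K.lineFun_one P)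
  map_mul' e f := Subtype.ext (Equiv.ext fun P => K.lineFun_mul e f P)

/-- The stabiliser of the representative of the small orbit. -/
theorem Coord.stab_iso [Finite L] [Finite W] (hMc : ∀ g : L, g * S.n = S.n * g ↔ g ∈ S.M)
    (hMi : S.M.index = 2) (hL : Nat.card L = 19595520) :
    Nonempty (MulAction.stabilizer L (K.Ψ (repW 0)) ≃* Cfsg.isometryGroup (ZMod 2) Qm) := by
  classical
  haveI := S.M_normal
  obtain ⟨k, hk2, hsmall, -, horb, -⟩ := K.two_orbits hL
  set x0 := K.Ψ (repW 0) with hx0
  have hstab : Nat.card (MulAction.stabilizer L x0) = 51840 := by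
    have h := (MulAction.stabilizer L x0).card_mul_index
    rw [show (MulAction.stabilizer L x0).index = 378 by
      rw [← horb, Nat.card_congr (MulAction.orbitEquivQuotientStabilizer L x0)]; rfl, hL] at h
    omega
  -- the part in `M`
  set Mst := S.M.subgroupOf (MulAction.stabilizer L x0) with hMst
  have hMst_card : Nat.card Mst = 25920 := by
    have h1 := Mst.card_mul_index
    rw [hstab] at h1
    have h2 : Mst.index ≤ 2 :=
      (Nat.le_of_dvd (by omega) (Subgroup.relIndex_dvd_index_of_normal S.M (MulAction.stabilizer L x0))).trans hMi.le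
    have h3 : Mst.index ≠ 0 := Subgroup.index_ne_zero_of_finite
    rcases (show Mst.index = 1 ∨ Mst.index = 2 by omega) with h | h
    · -- the orbit of `M` would have 189 elements
      exfalso
      rw [h, mul_one] at h1
      have hMcard : Nat.card S.M = 9797760 := by
        have := S.M.card_mul_index
        rw [hMi, hL] at this
        omega
      have hc : Nat.card (MulAction.stabilizer S.M x0) = 51840 := by
        rw [← h1]
        exact Nat.card_congr
          { toFun := fun m => ⟨⟨m.1.1, m.2⟩, m.1.2⟩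
            invFun := fun m => ⟨⟨m.1.1, m.2⟩, m.1.2⟩
            left_inv := fun m => rfl
            right_inv := fun m => rfl }
      have ho : Nat.card (MulAction.orbit S.M x0) = 189 := by
        rw [Nat.card_congr (MulAction.orbitEquivQuotientStabilizer S.M x0), ← Subgroup.index_eq_card]
        have := (MulAction.stabilizer S.M x0).card_mul_index
        rw [hc, hMcard] at this
        omega
      have hsing : ∀ g : L, Sing (K.Ψ.symm (g • x0)) := by
        intro g
        refine ⟨fun e => (rep_sing 0).1.1 ?_, ?_⟩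
        · rw [EmbeddingLike.map_eq_zero_iff, smul_eq_zero_iff_eq, EmbeddingLike.map_eq_zero_iff] at e
          exact e
        · have := K.act_wt g (repW 0)
          rw [Coord.act] at this
          rw [this]; exact (rep_sing 0).1.2
      by_cases hk : ∃ m : S.M, blk (K.Ψ.symm ((m : L) • x0)) = k
      · obtain ⟨m, hm⟩ := hk
        obtain ⟨g, hg, hgw⟩ := K.exists_move (hsing m)
        rw [hm, AddEquiv.apply_symm_apply] at hgw
        have hsub : MulAction.orbit L x0 ⊆ MulAction.orbit S.M x0 := by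
          rintro _ ⟨l, rfl⟩
          show l • x0 ∈ _
          have hb := (hsmall _ (hsing l)).1 ⟨l, (AddEquiv.apply_symm_apply _ _).symm⟩
          obtain ⟨g', hg', hgw'⟩ := K.exists_move (hsing l)
          rw [AddEquiv.apply_symm_apply] at hgw'
          rcases hb with hb | hb <;> rw [hb] at hgw'
          · exact ⟨⟨g', hg'⟩, hgw'⟩
          · refine ⟨⟨g' * g⁻¹ * m, mul_mem (mul_mem hg' (inv_mem hg)) m.2⟩, ?_⟩
            show (g' * g⁻¹ * (m : L)) • x0 = l • x0
            rw [mul_smul, mul_smul, ← hgw, inv_smul_smul, hgw']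
        have := Nat.card_mono (Set.toFinite _) hsub
        rw [horb, ho] at this
        omega
      · push Not at hk
        have hsub : MulAction.orbit S.M x0 ⊆ K.Ψ '' {w | Sing w ∧ blk w = 0} := by
          rintro _ ⟨m, rfl⟩
          exact ⟨K.Ψ.symm ((m : L) • x0), ⟨hsing m,
            ((hsmall _ (hsing m)).1 ⟨m, (AddEquiv.apply_symm_apply _ _).symm⟩).resolve_right (hk m)⟩,
            AddEquiv.apply_symm_apply _ _⟩
        have := Nat.card_mono (Set.toFinite _) hsub
        rw [Nat.card_image_of_injective K.Ψ.injective, ho, Nat.card_eq_card_toFinset, Set.toFinset_setOf,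
          card_block 0] at this
        exact absurd this (by decide)
    · rw [h] at h1; omega
  -- the kernel
  let ψ : MulAction.stabilizer L x0 →* Cfsg.isometryGroup (ZMod 2) Qm := lineIso.comp K.linePerm
  have hker : ∀ e : MulAction.stabilizer L x0, ψ e = 1 → (e : L) ∈ S.M ∧
      (∀ u, K.act e (ext u) = ext u) ∧
      (K.act e ![(1, 0), 0, 0, 0, 0, 0] = ![(1, 0), 0, 0, 0, 0, 0] ∨
        K.act e ![(1, 0), 0, 0, 0, 0, 0] = ![0, (1, 0), 0, 0, 0, 0]) := by
    intro e he
    have hπ : K.linePerm e = 1 := lineIso_injective (he.trans (map_one lineIso).symm)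
    have hfix : ∀ R u, lineMem R u → lineMem R (K.tmap e u) := by
      intro R u hu
      have hR : K.lineFun e R = R := by
        have := congrArg (fun σ : lineAut => (σ : Equiv.Perm Pt) R) hπ
        exact this
      have := (K.lineFun_spec e R u).2 hu
      rwa [hR] at this
    obtain ⟨c, hc⟩ := scalar_of_fix (K.tmap_add e) (K.tmap_inj e.2) hfix
    have hM : (e : L) ∈ S.M := by
      rcases K.act_nu_cases (e : L) with ⟨h, -⟩ | h
      · exact (hMc _).1 h
      · exfalso
        have h1 : K.tmap e (fun i => nuK ((Pi.single 0 (1, 0) : Fin 4 → K4) i)) =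
            fun i => nuK (nuK (K.tmap e (Pi.single 0 (1, 0)) i)) := by
          simp only [Coord.tmap, ext_nu, h, tail_nu]
        rw [hc, hc] at h1
        have h2 := congrFun h1 0
        simp only [Pi.single_eq_same] at h2
        exact nu_scalar_ne c h2
    have hline := K.fix_line e hM e.2
    -- elements fixing the tail modulo the line
    let K0 : Subgroup L :=
      { carrier := {f | f ∈ S.M ∧ f • x0 = x0 ∧ ∀ u, K.tmap f u = u}
        one_mem' := ⟨one_mem _, one_smul L x0, K.tmap_one⟩
        mul_mem' := by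
          rintro a b ⟨ha, ha', ha''⟩ ⟨hb, hb', hb''⟩
          exact ⟨mul_mem ha hb, by rw [mul_smul, hb', ha'], fun u => by rw [K.tmap_mul ha' hb', hb'', ha'']⟩
        inv_mem' := by
          rintro a ⟨ha, ha', ha''⟩
          refine ⟨inv_mem ha, inv_smul_eq_iff.2 ha'.symm, fun u => ?_⟩
          conv_lhs => rw [← ha'' u, ← K.tmap_mul (inv_smul_eq_iff.2 ha'.symm) ha', inv_mul_cancel, K.tmap_one] }
    have hK0 : ∀ f ∈ K0, ∀ u, K.act f (ext u) = ext u := by
      refine K.fix_ext K0 (fun f hf => hf.1) (fun f hf => hf.2.1) (fun g hg f hf => ⟨?_, ?_, fun u => ?_⟩)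
        (fun f hf u => ?_) ?_
      · exact S.M_normal.conj_mem f hf.1 g
      · rw [mul_smul, mul_smul, inv_smul_eq_iff.2 hg.symm, hf.2.1, hg]
      · have hg' : g⁻¹ • x0 = x0 := inv_smul_eq_iff.2 hg.symm
        rw [K.tmap_mul (by rw [mul_smul, hf.2.1, hg]) hg', K.tmap_mul hg hf.2.1, hf.2.2,
          ← K.tmap_mul hg hg', mul_inv_cancel, K.tmap_one]
      · conv_lhs => rw [K.act_ext hf.2.1 u, hf.2.2]
      · exact hstab ▸ Subgroup.card_dvd_of_le fun f hf => MulAction.mem_stabilizer_iff.2 hf.2.1
    -- the correction to the line vanishes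
    have hext : ∀ u, K.act e (ext u) = ext fun i => pwK c (u i) := by
      have hsplit : ∀ u, K.act e (ext u) = lineW (K.act e (ext u) 0) + ext fun i => pwK c (u i) := fun u => by
        rw [← hc]; exact K.act_ext e.2 u
      have hsingle : ∀ (i : Fin 4) (p : K4), K.act e (ext (Pi.single i p)) =
          ext fun m => pwK c ((Pi.single i p : Fin 4 → K4) m) := by
        intro i p
        obtain ⟨j, hij, -⟩ := third_of_four i i
        let d : Fin 4 → ZMod 3 := fun m => if m = i then 1 else if m = j then -1 else 0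
        obtain ⟨g, hgM, hg, hgw⟩ := K.diag_tail d (sum_two_single i j hij 1)
        have hg' : g⁻¹ • x0 = x0 := inv_smul_eq_iff.2 hg.symm
        have hed : (e : L)⁻¹ • x0 = x0 := inv_smul_eq_iff.2 (MulAction.mem_stabilizer_iff.1 e.2).symm
        have hge : (g * e * g⁻¹) • x0 = x0 := by rw [mul_smul, mul_smul, hg', MulAction.mem_stabilizer_iff.1 e.2, hg]
        have hginv : ∀ u, K.act g⁻¹ (ext u) = ext (dg4 (-d) u) := fun u => by
          refine K.act_inv_eq ?_
          rw [hgw]
          congr 1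
          funext m
          simp only [dg4, Pi.neg_apply, ← pwK_add, add_neg_cancel, pwK_zero]
        have htconj : ∀ u, K.tmap (g * e * g⁻¹) u = fun m => pwK c (u m) := fun u => by
          rw [K.tmap_mul (by rw [mul_smul, MulAction.mem_stabilizer_iff.1 e.2, hg]) hg', K.tmap_mul hg e.2, hc]
          show tail (K.act g (ext _)) = _
          rw [hgw, tail_ext]
          funext m
          show pwK (d m) (pwK c (tail (K.act g⁻¹ (ext u)) m)) = _
          rw [hginv, tail_ext]
          simp only [dg4, Pi.neg_apply, ← pwK_add]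
          congr 1
          abel
        have hk : g * e * g⁻¹ * (e : L)⁻¹ ∈ K0 := by
          refine ⟨mul_mem (S.M_normal.conj_mem _ hM g) (inv_mem hM), by rw [mul_smul, hed, hge], fun u => ?_⟩
          rw [K.tmap_mul hge hed, htconj, ← hc (K.tmap (e : L)⁻¹ u), ← K.tmap_mul e.2 hed, mul_inv_cancel,
            K.tmap_one]
        have hkl : ∀ q, K.act (g * e * g⁻¹ * (e : L)⁻¹) (lineW q) = lineW q :=
          K.fix_line _ hk.1 hk.2.1
        have heq : ∀ u, K.act (g * e * g⁻¹) (ext u) = K.act e (ext u) := fun u => by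
          rw [show g * e * g⁻¹ = g * e * g⁻¹ * (e : L)⁻¹ * e by group, K.act_mul]
          conv_lhs => rw [hsplit u, K.act_add, hK0 _ hk, hkl]
          exact (hsplit u).symm
        have ha : K.act e (ext (Pi.single i p)) 0 = K.act e (ext (Pi.single i (nuK p))) 0 := by
          rw [← heq (Pi.single i (nuK p)), K.act_mul, K.act_mul, hginv]
          have hd : dg4 (-d) (Pi.single i (nuK p)) = Pi.single i p := by
            funext m
            rcases eq_or_ne m i with rfl | hm
            · simp [dg4, d, nuK_neg_one]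
            · simp [dg4, Pi.single_eq_of_ne hm, (pwK_eq_zero _ _).2 rfl]
          rw [hd]
          conv_rhs => rw [hsplit (Pi.single i p), K.act_add, K.fix_line g hgM hg, hgw]
          exact (add_zero _).symm
        have hn : (fun m => nuK ((Pi.single i p : Fin 4 → K4) m)) = Pi.single i (nuK p) := by
          funext m
          rcases eq_or_ne m i with rfl | hm
          · simp
          · simp [Pi.single_eq_of_ne hm, nuK]
        have hz : K.act e (ext (Pi.single i p)) 0 = 0 := k4_nu_fix _ (by
          conv_rhs => rw [ha, ← hn, ext_nu, K.act_nu hM])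
        conv_lhs => rw [hsplit, hz, lineW_zero, zero_add]
      intro u
      rw [show u = Pi.single 0 (u 0) + Pi.single 1 (u 1) + Pi.single 2 (u 2) + Pi.single 3 (u 3) by
        funext x; fin_cases x <;> simp]
      simp only [ext_add, K.act_add, hsingle]
      rw [← ext_add, ← ext_add, ← ext_add]
      congr 1
      funext m
      simp only [Pi.add_apply, pwK_map_add]
    have hhead := K.head_of_fix hM e.2 c hext
    suffices hc0 : c = 0 by
      refine ⟨hM, fun u => ?_, hhead⟩
      rw [hext, hc0]; rfl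
    by_contra hc0
    -- a square is a scalar on four coordinates
    have he0 : K.act ((e : L) * e) ![(1, 0), 0, 0, 0, 0, 0] = ![(1, 0), 0, 0, 0, 0, 0] := by
      rw [K.act_mul]
      rcases hhead with r | r
      · rw [r, r]
      · rw [r]
        conv_lhs => rw [head_other.1, K.act_add, r, K.act_spec e.2]
        exact head_other.2
    have hdia : ∀ w, K.act ((e : L) * e) w = dg ![0, 0, c + c, c + c, c + c, c + c] w := by
      intro w
      have hee : ((e : L) * e) • x0 = x0 := by rw [mul_smul, MulAction.mem_stabilizer_iff.1 e.2, MulAction.mem_stabilizer_iff.1 e.2]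
      have hdg : ∀ u v : W6, dg ![0, 0, c + c, c + c, c + c, c + c] (u + v) =
          dg ![0, 0, c + c, c + c, c + c, c + c] u + dg ![0, 0, c + c, c + c, c + c, c + c] v := fun u v => by
        funext i; exact pwK_map_add _ _ _
      conv_lhs => rw [eq_head_ext w]
      conv_rhs => rw [eq_head_ext w]
      rw [K.act_add, K.act_add, K.fix_line _ (mul_mem hM hM) hee, hdg, hdg, (head_values _ _).2,
        (head_values _ _).1]
      congr 1
      · congr 1
        rcases head_decomp (w 0 + w 1) with r | r | r | r <;> rw [r]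
        · exact K.act_zero _
        · exact he0
        · rw [K.act_nu (mul_mem hM hM), he0]
        · rw [K.act_add, K.act_nu (mul_mem hM hM), he0]
      · rw [K.act_mul, hext, hext]
        funext i
        fin_cases i <;> simp [dg, ext, pwK_add, (pwK_eq_zero _ _).2 rfl]
    obtain ⟨hs, hnot⟩ := shift_witness k hk2 _ (double_ne c hc0)
    obtain ⟨g, hg⟩ := (hsmall _ (rep_sing k).1).2 (Or.inr (rep_sing k).2)
    refine hnot ((hsmall _ hs).1 ⟨(e : L) * e * g, ?_⟩)
    rw [mul_smul, hg, ← hdia, Coord.act, AddEquiv.apply_symm_apply]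
  have hN : Nat.card ψ.ker ≤ 2 := by
    let f : ψ.ker → Bool := fun e => decide (K.act (e : MulAction.stabilizer L x0) ![(1, 0), 0, 0, 0, 0, 0] =
      (![(1, 0), 0, 0, 0, 0, 0] : W6))
    have hf : Function.Injective f := by
      intro a b h
      obtain ⟨ha, ha', ha''⟩ := hker a a.2
      obtain ⟨hb, hb', hb''⟩ := hker b b.2
      refine Subtype.ext (Subtype.ext (K.eq_of_head ha hb a.1.2 b.1.2 (fun u => by rw [ha', hb']) ?_))
      simp only [f, decide_eq_decide] at h
      rcases ha'' with r | r <;> rcases hb'' with r' | r'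
      · rw [r, r']
      · rw [r, r'] at h; exact absurd (h.1 rfl) e0_ne_e1
      · rw [r, r'] at h; exact absurd (h.2 rfl) e0_ne_e1
      · rw [r, r']
    exact (Nat.card_le_card_of_injective f hf).trans (by simp)
  let φ : Mst →* Cfsg.isometryGroup (ZMod 2) Qm := ψ.comp Mst.subtype
  have hφk : Nat.card φ.ker = Nat.card ψ.ker :=
    Nat.card_congr
      { toFun := fun x => ⟨x.1.1, x.2⟩
        invFun := fun x => ⟨⟨x.1, (hker x.1 x.2).1⟩, x.2⟩
        left_inv := fun x => rfl
        right_inv := fun x => rfl }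
  have hprod := φ.ker.card_mul_index
  rw [Subgroup.index_ker, hφk, hMst_card] at hprod
  have hi := φ.range.card_mul_index
  rw [card_Qm] at hi
  have h4 : φ.range.index ≤ 4 := by nlinarith
  have h2 := index_le_two h4
  have hone : Nat.card ψ.ker = 1 := by
    have : 1 ≤ Nat.card ψ.ker := Nat.card_pos
    nlinarith
  have hinj : Function.Injective ψ := (MonoidHom.ker_eq_bot_iff ψ).1 (Subgroup.eq_bot_of_card_eq _ hone)
  exact ⟨MulEquiv.ofBijective ψ ((Nat.bijective_iff_injective_and_card ψ).2 ⟨hinj, by rw [hstab, card_Qm]⟩)⟩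

end Setting

end Cfsg.Agent.Lib.FischerType
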